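import Cfsg.Agent.TwMult.BNLift
import Cfsg.Agent.SL2Mult.Main

/-!
Central extensions of `SL₂(q)` with kernel prime to the characteristic.
-/

set_option autoImplicit false

namespace CfsgLib.TwMult

open Subgroup CfsgLib.SL2C

universe u v w

variable {p : ℕ} [Fact p.Prime]

/-- A central kernel prime to `p` of a group generated by `p`-elements lies in the derived group. -/
theorem isStemExtension_of_gen {E : Type u} [Group E] [Finite E] {Q : Type v} [Group Q]
    {τ : E →* Q} (hτ : CopExt τ p) (hgen : closure {x : E | IsPEl p x} = ⊤) :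
    Cfsg.IsStemExtension τ := by
  refine ⟨hτ.surj, hτ.central, fun z hz => ?_⟩
  have hA : ∀ a : Abelianization E, IsPEl p a := by
    intro a
    obtain ⟨x, rfl⟩ := QuotientGroup.mk_surjective a
    have hx : x ∈ closure {x : E | IsPEl p x} := by rw [hgen]; exact mem_top x
    induction hx using closure_induction with
    | mem x hx => exact hx.map Abelianization.of
    | one => exact ⟨0, one_pow _⟩
    | mul x y _ _ hx hy =>
      obtain ⟨i, hi⟩ := hx
      obtain ⟨j, hj⟩ := hy
      refine ⟨i + j, ?_⟩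
      show (Abelianization.of (x * y) : Abelianization E) ^ p ^ (i + j) = 1
      rw [map_mul, mul_pow, pow_add]
      conv_lhs =>
        arg 1
        rw [pow_mul, show Abelianization.of x ^ p ^ i = 1 from hi, one_pow]
      rw [one_mul, mul_comm (p ^ i), pow_mul, show Abelianization.of y ^ p ^ j = 1 from hj, one_pow]
    | inv x _ hx =>
      obtain ⟨i, hi⟩ := hx
      exact ⟨i, by
        show (Abelianization.of x⁻¹ : Abelianization E) ^ p ^ i = 1
        rw [map_inv, inv_pow, show Abelianization.of x ^ p ^ i = 1 from hi, inv_one]⟩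
  obtain ⟨k, hk⟩ := hA (Abelianization.of z)
  have hcop : Nat.Coprime (p ^ k) (orderOf z) := by
    refine Nat.Coprime.pow_left k (((Fact.out : p.Prime).coprime_iff_not_dvd).2 fun hd => ?_)
    have h0 : orderOf z ≠ 0 := (orderOf_pos z).ne'
    have hp1 := hτ.cop (z ^ (orderOf z / p)) (pow_mem hz _)
      (by rw [← pow_mul, Nat.div_mul_cancel hd, pow_orderOf_eq_one])
    have hle := Nat.le_of_dvd (Nat.div_pos (Nat.le_of_dvd (Nat.pos_of_ne_zero h0) hd)
      (Fact.out : p.Prime).pos) (orderOf_dvd_of_pow_eq_one hp1)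
    exact absurd (Nat.div_lt_self (Nat.pos_of_ne_zero h0) (Fact.out : p.Prime).one_lt)
      (not_lt.2 hle)
  obtain ⟨j, hj⟩ := exists_pow_eq_self_of_coprime hcop
  have h1 : z ^ p ^ k ∈ commutator E := by
    rw [← Abelianization.ker_of, MonoidHom.mem_ker, map_pow]
    exact hk
  rw [← hj]
  exact pow_mem h1 j

/-- The `SL₂` subgroups have no nontrivial central extension with kernel prime to `p`. -/
theorem simplyP_sl2 {G : Type v} [Group G] {F : Type w} [Field F] [Fintype F] [CharP F p]
    (φ : SL F →* G) (hφ : Function.Injective φ) {L : Subgroup G} (hL : φ.range = L) :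
    SimplyP.{u} p L := by
  subst hL
  intro E _ _ τ hτ hgen
  let e : φ.range ≃* SL F := (MonoidHom.ofInjective hφ).symm
  let σ : E →* SL F := e.toMonoidHom.comp τ
  have hker : σ.ker = τ.ker := MonoidHom.ker_mulEquiv_comp _ e
  have hst := isStemExtension_of_gen hτ hgen
  have hσ : Cfsg.IsStemExtension σ := ⟨e.surjective.comp hst.1, hker ▸ hst.2.1, hker ▸ hst.2.2⟩
  rw [← hker]
  refine CfsgLib.SL2Mult.ker_eq_bot_of_sylow fun ℓ hℓ P => ?_
  have hstem := CfsgLib.SL2Mult.isStemExtension_sylow hσ P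
  rcases eq_or_ne ℓ p with rfl | hℓp
  · rw [eq_bot_iff]
    intro z hz
    have hz' : (z : E) ∈ τ.ker := hker ▸ (congrArg Subtype.val hz : σ (z : E) = 1)
    exact mem_bot.2 (Subtype.ext (hτ.eq_one_of_pEl hz' (IsPEl.of_mem P.2 z.2)))
  · set Q := P.mapSurjective hσ.1 with hQdef
    have hQ : (Q : Subgroup (SL F)) = (P : Subgroup E).map σ := Sylow.coe_mapSurjective hσ.1 P
    rcases eq_or_ne ℓ 2 with rfl | hℓ2
    · obtain ⟨n, -, hn⟩ := FiniteField.card F p
      have hodd : Odd (Fintype.card F) := by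
        rw [hn]
        exact ((Fact.out : p.Prime).odd_of_ne_two fun e' => hℓp e'.symm).pow
      obtain ⟨k, -, ⟨e₁⟩⟩ := CfsgLib.Linear.SylowTwoSL.exists_quaternion hodd Q
      let e' : ((P : Subgroup E).map σ) ≃* QuaternionGroup (2 ^ k) :=
        (MulEquiv.subgroupCongr hQ.symm).trans e₁
      let τ' := e'.toMonoidHom.comp (σ.subgroupMap (P : Subgroup E))
      have hker' : τ'.ker = (σ.subgroupMap (P : Subgroup E)).ker :=
        MonoidHom.ker_mulEquiv_comp _ e'
      have hτ' : Cfsg.IsStemExtension τ' :=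
        ⟨e'.surjective.comp hstem.1, hker' ▸ hstem.2.1, hker' ▸ hstem.2.2⟩
      rw [← hker']
      exact CfsgLib.StemExt.quaternion_ker hτ'
    · have : IsCyclic ((P : Subgroup E).map σ) := by
        rw [← hQ]
        exact CfsgLib.Linear.SylowDim.isCyclic_sylow_sl (F := F) p hℓ2 hℓp Q
      exact CfsgLib.StemExt.ker_eq_bot_of_isCyclic hstem

end CfsgLib.TwMult
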