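import Cfsg.Agent.TwMult.A1Hom
import Cfsg.Agent.TwMult.RankOneCop
import Cfsg.Agent.Chev.D4TwQ
import Cfsg.Agent.Chev.D4TwOut

/-!
The split (B, N)-pair of `³D₄(q)` and the reduction of its multiplier to the Sylow subgroup.
-/

set_option autoImplicit false
set_option linter.style.haveILetI false
set_option linter.unusedSectionVars false

namespace CfsgLib.Chev.D4Tw

open Cfsg.Lie Tab CfsgLib.TwMult
open scoped MatrixGroups

universe u

variable {K : Type u} [Field K] [Fintype K] {q : ℕ}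

theorem braidTab : (∀ s < 24, D4Data.tab.wordT [0, 2, 3, 1, 0, 2, 3, 1, 0, 2, 3, 1] s =
      D4Data.tab.wordT [1, 0, 2, 3, 1, 0, 2, 3, 1, 0, 2, 3] s) ∧
    D4Data.tab.wordT [0, 2, 3, 1, 0, 2, 3, 1, 0, 2, 3] 14 = 14 ∧
    chevD4.simple 1 = 14 := by
  decide +kernel

namespace Ctx

variable (C : Ctx K q)
include C

/-- The parameters of the long orbit. -/
def ιL (C : Ctx K q) : Fin chevD4.rank → (C.kF →+* K) := fun _ => C.kF.subtype

/-- The parameters of the short orbit. -/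
def ιS (C : Ctx K q) : Fin chevD4.rank → (K →+* K) :=
  (![RingHom.id K, RingHom.id K, C.φ, C.φ.comp C.φ] : Fin 4 → (K →+* K))

theorem ιS_eq (t : K) : ∀ i ∈ good_D4.oJ orbs C.J1, C.ιS i t = C.tS t i := by
  show ∀ i ∈ ([0, 2, 3] : List (Fin 4)), _
  intro i hi
  simp only [List.mem_cons, List.not_mem_nil, or_false] at hi
  rcases hi with rfl | rfl | rfl <;> rfl

theorem paramL : C.A.Param C.J0 C.ιL where
  tup a := C.tup_tL a.2
  cov t ht := by
    have hfix : C.φ (t (1 : Fin 4)) = t (1 : Fin 4) := by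
      have h1 := (ht _ C.mem_i1).trans (C.f_simp (1 : Fin 4) _)
      exact (C.hφ _).trans (h1.symm.trans (congrArg t (C.rho_eq (1 : Fin 4))))
    refine ⟨⟨_, hfix⟩, fun i hi => ?_⟩
    rw [C.orb_J0] at hi
    obtain rfl := List.mem_singleton.1 hi
    rfl

theorem paramS : C.A.Param C.J1 C.ιS where
  tup a i hi := by
    dsimp only
    rw [C.ιS_eq a i hi, C.ιS_eq a _ (C.A.rho_mem _ i hi)]
    exact C.tup_tS a i hi
  cov t ht := ⟨t (0 : Fin 4), fun i hi => by
    rw [C.ιS_eq _ i hi]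
    exact C.A.tup_determined ht (C.tup_tS _) C.mem_i0 rfl i hi⟩

theorem rootHomL_injective : Function.Injective (C.A.rootHom (htor := C.htor) C.paramL) := by
  refine C.A.rootHom_injective C.paramL fun a ha => ?_
  have h1 := (good_D4.full.hT_eq_one_iff (F := K) _).mp ha (0 : Fin 4) (by decide)
  rw [(C.chi_eq _).2] at h1
  have e0 : C.A.res C.J0 (fun i => Units.map (C.ιL i).toMonoidHom a) (0 : Fin 4) = 1 :=
    if_neg (show ¬ (0 : Fin 4) ∈ ([1] : List (Fin 4)) by decide)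
  have e1 : C.A.res C.J0 (fun i => Units.map (C.ιL i).toMonoidHom a) (1 : Fin 4) =
      Units.map C.kF.subtype.toMonoidHom a :=
    if_pos (show (1 : Fin 4) ∈ ([1] : List (Fin 4)) by decide)
  have h2 := (congrArg₂ (fun x y : Kˣ => x ^ 2 * y⁻¹) e0 e1).symm.trans h1
  simp only [one_pow, one_mul, inv_eq_one] at h2
  exact Units.map_injective (f := C.kF.subtype.toMonoidHom) C.kF.subtype.injective
    (h2.trans (map_one _).symm)

theorem rootHomS_injective : Function.Injective (C.A.rootHom (htor := C.htor) C.paramS) := by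
  refine C.A.rootHom_injective C.paramS fun a ha => ?_
  have h0 := (good_D4.full.hT_eq_one_iff (F := K) _).mp ha (0 : Fin 4) (by decide)
  have h1 := (good_D4.full.hT_eq_one_iff (F := K) _).mp ha (1 : Fin 4) (by decide)
  rw [(C.chi_eq _).2] at h0
  rw [(C.chi_eq _).1] at h1
  let g : Fin chevD4.rank → Kˣ := fun i => Units.map (C.ιS i).toMonoidHom a
  have r0 : C.A.res C.J1 g (0 : Fin 4) = a :=
    (if_pos (show (0 : Fin 4) ∈ ([0, 2, 3] : List (Fin 4)) by decide)).trans (Units.ext rfl)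
  have r1 : C.A.res C.J1 g (1 : Fin 4) = 1 :=
    if_neg (show ¬ (1 : Fin 4) ∈ ([0, 2, 3] : List (Fin 4)) by decide)
  have r2 : C.A.res C.J1 g (2 : Fin 4) = Units.map C.φ.toMonoidHom a :=
    (if_pos (show (2 : Fin 4) ∈ ([0, 2, 3] : List (Fin 4)) by decide)).trans (Units.ext rfl)
  have r3 : C.A.res C.J1 g (3 : Fin 4) = Units.map C.φ.toMonoidHom (Units.map C.φ.toMonoidHom a) :=
    (if_pos (show (3 : Fin 4) ∈ ([0, 2, 3] : List (Fin 4)) by decide)).trans (Units.ext rfl)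
  have h0' := (congrArg₂ (fun x y : Kˣ => x ^ 2 * y⁻¹) r0 r1).symm.trans h0
  simp only [inv_one, mul_one] at h0'
  have e0 : (a : K) = 1 ∨ (a : K) = -1 :=
    sq_eq_one_iff.1 (congrArg Units.val h0')
  have h1' : (a : K)⁻¹ * (C.φ a)⁻¹ * (C.φ (C.φ a))⁻¹ = 1 := by
    change (C.A.res C.J1 g (0 : Fin 4))⁻¹ * C.A.res C.J1 g (1 : Fin 4) ^ 2 *
      (C.A.res C.J1 g (2 : Fin 4))⁻¹ * (C.A.res C.J1 g (3 : Fin 4))⁻¹ = 1 at h1
    rw [r0, r1, r2, r3] at h1
    simpa using congrArg Units.val h1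
  refine Units.ext ?_
  rcases e0 with e | e <;> rw [e] at h1' ⊢
  · rfl
  · simp only [map_neg, map_one, inv_neg, inv_one, mul_neg, mul_one, neg_neg] at h1'
    exact h1'

/-- The relation of the Weyl group. -/
def braid (C : Ctx K q) : List (Fin C.Z.nJ × List (Fin C.Z.nJ) × Fin C.Z.nJ) :=
  [(C.J0, [C.J1, C.J0, C.J1, C.J0, C.J1], C.J0)]

theorem isBraid : ∀ b ∈ C.braid, C.Z.IsBraid b := by
  intro b hb
  obtain rfl := List.mem_singleton.1 hb
  have hw : ∀ (L : List (Fin C.Z.nJ)) (s : Fin chevD4.nroots), (C.Z.pwT L s).val =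
      D4Data.tab.wordT ((L.flatMap (good_D4.oJ orbs)).map Fin.val) s.val := fun L s =>
    good_D4.pw_apply _ _
  obtain ⟨t1, t2, t3⟩ := braidTab
  refine ⟨Equiv.ext fun s => Fin.ext ?_, fun s hs => ?_⟩
  · rw [hw, hw]
    exact t1 s.val s.isLt
  · have hs' : s.val ∈ flipSet (good_D4.full.pw (good_D4.oJ orbs C.J0)) := hs
    obtain ⟨⟨i, hi⟩, e⟩ := (Set.ext_iff.1 (C.A.flip_eq C.J0) _).1 hs'
    rw [C.orb_J0] at hi
    obtain rfl := List.mem_singleton.1 hi
    refine (Set.ext_iff.1 (C.A.flip_eq C.J0) _).2 ⟨⟨(1 : Fin 4), List.mem_singleton_self _⟩, ?_⟩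
    rw [hw, ← e]
    show chevD4.simple 1 = D4Data.tab.wordT [0, 2, 3, 1, 0, 2, 3, 1, 0, 2, 3] (chevD4.simple 1)
    rw [t3, t2]

theorem isPGroup_U1 {p n : ℕ} (hq : q = p ^ n) : IsPGroup p (C.Z.U1.subgroupOf C.Z.G1) :=
  IsPGroup.of_card (n := n * 12) (by
    rw [Nat.card_congr (Subgroup.subgroupOfEquivOfLe C.Z.U1_le).toEquiv, C.card_U1, hq, pow_mul])

theorem not_dvd_index_U1 {p : ℕ} [hp : Fact p.Prime] (hpq : p ∣ q) :
    ¬ p ∣ (C.Z.U1.subgroupOf C.Z.G1).index := by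
  have hmul := (C.Z.U1.subgroupOf C.Z.G1).card_mul_index
  rw [Nat.card_congr (Subgroup.subgroupOfEquivOfLe C.Z.U1_le).toEquiv, C.card_U1, C.card_group,
    mul_assoc, mul_assoc] at hmul
  rw [Nat.eq_of_mul_eq_mul_left (pow_pos C.hq.pos 12) hmul]
  have key : ∀ k, k ≠ 0 → ¬ p ∣ q ^ k - 1 := fun k hk h => by
    have h2 := Nat.dvd_sub (hpq.trans (dvd_pow_self q hk)) h
    rw [Nat.sub_sub_self (Nat.one_le_pow _ _ C.hq.pos)] at h2
    exact hp.out.not_dvd_one h2
  have o3 : ¬ p ∣ q ^ 8 + q ^ 4 + 1 := fun h => hp.out.not_dvd_one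
    ((Nat.dvd_add_right (dvd_add (hpq.trans (dvd_pow_self q (by norm_num)))
      (hpq.trans (dvd_pow_self q (by norm_num))))).1 h)
  exact hp.out.not_dvd_mul (key 2 (by norm_num)) (hp.out.not_dvd_mul (key 6 (by norm_num)) o3)

/-- A stem extension is trivial when the derived group of the preimage of the unipotent subgroup
meets the kernel trivially. -/
theorem ker_eq_bot_of_derived {p n : ℕ} [Fact p.Prime] (hn : n ≠ 0) (hq : q = p ^ n) [CharP K p]
    {Γ : Type u} [Group Γ] [Finite Γ] {σ : Γ →* C.Z.G1} (hσ : Cfsg.IsStemExtension σ)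
    (hD : ∀ z ∈ ⁅(C.Z.U1.subgroupOf C.Z.G1).comap σ, (C.Z.U1.subgroupOf C.Z.G1).comap σ⁆,
      z ∈ σ.ker → z = 1) : σ.ker = ⊥ := by
  have E : CopExt σ p := cop_of_derived hσ _
    (C.not_dvd_index_U1 (hq ▸ dvd_pow_self p hn)) hD
  have hJ : ∀ J : Fin C.Z.nJ, C.Z.nM J ∈ C.Z.LG J := fun J => by
    rcases C.J_cases J with rfl | rfl
    exacts [C.A.nM_mem C.paramL, C.A.nM_mem C.paramS]
  have hgen := C.A.torus_le_iSup (htor := C.htor) fun J c hc => by
    rcases C.J_cases J with rfl | rfl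
    exacts [C.A.res_mem_LG C.paramL hc, C.A.res_mem_LG C.paramS hc]
  have hcard : ∏ J : Fin C.Z.nJ, Nat.card (C.Z.H0.subgroupOf C.Z.G1 ⊓ C.Z.LG J :
      Subgroup C.Z.G1) ≤ Nat.card (C.Z.H0.subgroupOf C.Z.G1) := by
    have e : (Finset.univ : Finset (Fin C.Z.nJ)) = {C.J0, C.J1} := by
      refine (Finset.eq_univ_of_forall fun J => ?_).symm
      rcases C.J_cases J with rfl | rfl <;> simp
    rw [e, Finset.prod_pair (fun h => absurd (congrArg Fin.val h) (Nat.zero_ne_one)),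
      Nat.card_congr (Subgroup.subgroupOfEquivOfLe C.Z.H0_le).toEquiv, C.card_torus]
    refine (Nat.mul_le_mul (C.A.card_torus_le C.paramL) (C.A.card_torus_le C.paramS)).trans ?_
    rw [Nat.card_units, Nat.card_units, C.card_kF, Nat.card_eq_fintype_card, C.hK]
    obtain ⟨r, hr⟩ : ∃ r, q = r + 1 := ⟨q - 1, by have := C.hq.pos; omega⟩
    subst hr
    refine le_of_eq ?_
    zify [Nat.one_le_pow 3 (r + 1) (by omega)]
    push_cast
    ring
  let D := C.Z.splitData p (C.isPGroup_U1 hq) hJ hgen hcard (fun J x hx hne => by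
    rcases C.J_cases J with rfl | rfl
    exacts [C.A.rank_one_rel C.paramL hx hne, C.A.rank_one_rel C.paramS hx hne])
    C.braid C.isBraid
  refine D.ker_eq_bot E (fun J => ?_) (fun Q _ f hf hb w hw => ?_) hσ.2.2
  · rcases C.J_cases J with rfl | rfl
    · haveI : Fintype C.kF := Fintype.ofFinite _
      exact simplyP_sl2 _ C.rootHomL_injective (C.A.rootHom_range C.paramL)
    · exact simplyP_sl2 _ C.rootHomS_injective (C.A.rootHom_range C.paramS)
  · refine C.Z.word_eq_one C.A.xNontrivial CoxeterMatrix.G₂ C.hM f ?_ w hw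
    have hinv : ∀ j, (f j)⁻¹ = f j := fun j => inv_eq_of_mul_eq_one_right (hf j)
    have h6 : (f C.J1 * f C.J0) ^ 6 = 1 := by
      have h : ([C.J1, C.J0, C.J1, C.J0, C.J1].map f).prod * f C.J0 *
          (([C.J1, C.J0, C.J1, C.J0, C.J1].map f).prod)⁻¹ = f C.J0 :=
        hb (C.J0, [C.J1, C.J0, C.J1, C.J0, C.J1], C.J0) (List.mem_singleton_self _)
      have h2 := mul_eq_one_iff_eq_inv.2 (h.trans (hinv C.J0).symm)
      simp only [List.map_cons, List.map_nil, List.prod_cons, List.prod_nil, mul_one,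
        _root_.mul_inv_rev, hinv, mul_assoc] at h2
      simpa only [pow_succ, pow_zero, one_mul, mul_assoc] using h2
    have h6' : (f C.J0 * f C.J1) ^ 6 = 1 := by
      rw [← inv_inj, inv_one, ← inv_pow, _root_.mul_inv_rev, hinv, hinv, h6]
    intro i j
    have d : CoxeterMatrix.G₂ 0 0 = 1 ∧ CoxeterMatrix.G₂ 1 1 = 1 ∧
        CoxeterMatrix.G₂ 0 1 = 6 ∧ CoxeterMatrix.G₂ 1 0 = 6 := by decide +kernel
    rcases C.J_cases i with rfl | rfl <;> rcases C.J_cases j with rfl | rfl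
    · show _ ^ CoxeterMatrix.G₂ 0 0 = 1
      rw [d.1, pow_one]; exact hf _
    · show _ ^ CoxeterMatrix.G₂ 0 1 = 1
      rw [d.2.2.1]; exact h6'
    · show _ ^ CoxeterMatrix.G₂ 1 0 = 1
      rw [d.2.2.2]; exact h6
    · show _ ^ CoxeterMatrix.G₂ 1 1 = 1
      rw [d.2.1, pow_one]; exact hf _

end Ctx

end CfsgLib.Chev.D4Tw
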