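import Cfsg.Agent.TwMult.D4P

/-!
The derived group of the preimage of the unipotent subgroup of `³D₄(q)` meets the kernel trivially.
-/

set_option autoImplicit false
set_option linter.style.haveILetI false
set_option linter.unusedSectionVars false

namespace CfsgLib.Chev.D4Tw

open Cfsg.Lie Tab CfsgLib.TwMult
open scoped MatrixGroups commutatorElement

variable {K : Type*} [Field K] [Fintype K] {q : ℕ}

namespace Ctx

variable {C : Ctx K q} {p : ℕ} [CharP K p] {S : C.Spec p} {Γ : Type*} [Group Γ]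
  {σ : Γ →* C.Z.G1} {X : CExt σ}

namespace Secs

variable (W : Secs S X)
include W

theorem conj_sD {x : Γ} {d : K} {z : C.Z.G1} (hx : σ x = z) :
    x * W.sD (Multiplicative.ofAdd d) * x⁻¹ =
      X.cm z (C.gD d) * W.sD (Multiplicative.ofAdd d) := by
  rw [← X.cm_eq hx (show σ (W.sD (Multiplicative.ofAdd d)) = C.gD d from W.map_sD _),
    commutatorElement_def, inv_mul_cancel_right]

theorem conj_sC {x : Γ} {d : K} {z : C.Z.G1} (hx : σ x = z) :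
    x * W.sC (Multiplicative.ofAdd d) * x⁻¹ =
      X.cm z (C.gC d) * W.sC (Multiplicative.ofAdd d) := by
  rw [← X.cm_eq hx (show σ (W.sC (Multiplicative.ofAdd d)) = C.gC d from W.map_sC _),
    commutatorElement_def, inv_mul_cancel_right]

theorem conj_εE {x : Γ} {e : C.kF} {z : C.Z.G1} (hx : σ x = z) (h : X.cm z (C.gE e) = 1) :
    x * W.εE (Multiplicative.ofAdd e) * x⁻¹ = W.εE (Multiplicative.ofAdd e) := by
  have hc : Commute x (W.εE (Multiplicative.ofAdd e)) :=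
    X.comm_of_cm (by rw [hx, W.map_εE]; exact h)
  rw [hc.eq, mul_inv_cancel_right]

theorem conj_εF {x : Γ} {e : C.kF} {z : C.Z.G1} (hx : σ x = z) (h : X.cm z (C.gF e) = 1) :
    x * W.εF (Multiplicative.ofAdd e) * x⁻¹ = W.εF (Multiplicative.ofAdd e) := by
  have hc : Commute x (W.εF (Multiplicative.ofAdd e)) :=
    X.comm_of_cm (by rw [hx, W.map_εF]; exact h)
  rw [hc.eq, mul_inv_cancel_right]

/-- The lift of the abelian part. -/
def τ : Multiplicative K × Multiplicative C.kF × Multiplicative C.kF →* Γ :=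
  MonoidHom.noncommCoprod W.sD (MonoidHom.noncommCoprod W.εE W.εF fun m n =>
    X.comm_of_cm (by rw [W.map_εE, W.map_εF]; exact cEF S X _ _)) fun m n => by
      rw [MonoidHom.noncommCoprod_apply]
      refine (X.comm_of_cm ?_).mul_right (X.comm_of_cm ?_)
      · rw [W.map_sD, W.map_εE]; exact X.cm_symm (cED S X _ _)
      · rw [W.map_sD, W.map_εF]; exact X.cm_symm (cFD S X _ _)

theorem map_τ (x : Multiplicative K × Multiplicative C.kF × Multiplicative C.kF) :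
    σ (W.τ x) = C.uQ 0 0 x.1.toAdd x.2.1.toAdd x.2.2.toAdd := by
  show σ (W.sD x.1 * (W.εE x.2.1 * W.εF x.2.2)) = _
  rw [map_mul, map_mul, W.map_sD, W.map_εE, W.map_εF, C.uQ_eq', mul_assoc]

theorem eq_one_of_τ {t : Γ} (ht : t ∈ W.τ.range) (h : σ t = 1) : t = 1 := by
  obtain ⟨⟨d, e, f⟩, rfl⟩ := ht
  rw [W.map_τ] at h
  have hB : C.uB 0 = 1 := Subtype.ext C.UC_zero
  obtain ⟨-, -, hd, he, hf⟩ := C.B_uQ_inj (b := 0) (c := 0) (by rw [hB, one_mul]; exact h)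
  rw [show ((d, e, f) : Multiplicative K × Multiplicative C.kF × Multiplicative C.kF) = 1 from
    Prod.ext hd (Prod.ext he hf), map_one]

theorem mem_sD (d : Multiplicative K) : W.sD d ∈ W.τ.range := ⟨(d, 1, 1), by
  show W.sD d * (W.εE 1 * W.εF 1) = _
  rw [map_one, map_one, one_mul, mul_one]⟩

theorem mem_εE (e : Multiplicative C.kF) : W.εE e ∈ W.τ.range := ⟨(1, e, 1), by
  show W.sD 1 * (W.εE e * W.εF 1) = _
  rw [map_one, map_one, one_mul, mul_one]⟩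

theorem mem_εF (e : Multiplicative C.kF) : W.εF e ∈ W.τ.range := ⟨(1, 1, e), by
  show W.sD 1 * (W.εE 1 * W.εF e) = _
  rw [map_one, map_one, one_mul, one_mul]⟩

theorem τ_conj {x : Γ} (hD : ∀ d, x * W.sD (Multiplicative.ofAdd d) * x⁻¹ ∈ W.τ.range)
    (hE' : ∀ e, x * W.εE (Multiplicative.ofAdd e) * x⁻¹ ∈ W.τ.range)
    (hF' : ∀ e, x * W.εF (Multiplicative.ofAdd e) * x⁻¹ ∈ W.τ.range) {t : Γ}
    (ht : t ∈ W.τ.range) : x * t * x⁻¹ ∈ W.τ.range := by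
  obtain ⟨⟨d, e, f⟩, rfl⟩ := ht
  show x * (W.sD d * (W.εE e * W.εF f)) * x⁻¹ ∈ _
  rw [show x * (W.sD d * (W.εE e * W.εF f)) * x⁻¹ =
    (x * W.sD d * x⁻¹) * ((x * W.εE e * x⁻¹) * (x * W.εF f * x⁻¹)) by group]
  exact mul_mem (hD _) (mul_mem (hE' _) (hF' _))

theorem τ_conj_B {x : Γ} {b : K} (hx : σ x = C.uB b) {t : Γ} (ht : t ∈ W.τ.range) :
    x * t * x⁻¹ ∈ W.τ.range := by
  refine W.τ_conj (fun d => ?_) (fun e => ?_) (fun e => ?_) ht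
  · rw [W.conj_sD hx, ← X.cm_inv, W.εE_eq]
    exact mul_mem (inv_mem (W.mem_εE _)) (W.mem_sD _)
  · rw [W.conj_εE hx (X.cm_symm (cEB S X _ _))]; exact W.mem_εE _
  · rw [W.conj_εF hx (X.cm_symm (cFB S X _ _))]; exact W.mem_εF _

theorem τ_conj_C {x : Γ} {b : K} (hx : σ x = C.gC b) {t : Γ} (ht : t ∈ W.τ.range) :
    x * t * x⁻¹ ∈ W.τ.range := by
  refine W.τ_conj (fun d => ?_) (fun e => ?_) (fun e => ?_) ht
  · rw [W.conj_sD hx, ← X.cm_inv, W.εF_eq]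
    exact mul_mem (inv_mem (W.mem_εF _)) (W.mem_sD _)
  · rw [W.conj_εE hx (X.cm_symm (cEC S X _ _))]; exact W.mem_εE _
  · rw [W.conj_εF hx (X.cm_symm (cFC S X _ _))]; exact W.mem_εF _

theorem torus_conj_h (c : C.A.Cσ) :
    σ (X.l (C.tH c)) * S.h * (σ (X.l (C.tH c)))⁻¹ = S.h := by
  rw [X.map_l, Ctx.Spec.h, (C.tH_comm c S.c).eq, mul_inv_cancel_right]

theorem τ_conj_H (c : C.A.Cσ) {t : Γ} (ht : t ∈ W.τ.range) :
    X.l (C.tH c) * t * (X.l (C.tH c))⁻¹ ∈ W.τ.range := by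
  refine W.τ_conj (fun d => ?_) (fun e => ?_) (fun e => ?_) ht
  · have e' : X.l (C.tH c) * W.sD (Multiplicative.ofAdd d) * (X.l (C.tH c))⁻¹ =
        W.sD (Multiplicative.ofAdd (C.cv 20 c * d)) := by
      rw [W.sD_eq, W.sD_eq, X.cm_conj, W.torus_conj_h, X.map_l, C.tH_gD, toAdd_ofAdd, toAdd_ofAdd]
      congr 2
      ring
    rw [e']; exact W.mem_sD _
  · obtain ⟨d, hd⟩ := C.Tk_surjective (-e)
    rw [show e = -C.Tk (C.φ 1 * d) by rw [map_one, one_mul, hd, neg_neg], ← W.εE_eq,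
      X.cm_conj, X.map_l, C.tH_gD, C.tH_uB, W.εE_eq]
    exact W.mem_εE _
  · obtain ⟨d, hd⟩ := C.Tk_surjective (-e)
    rw [show e = -C.Tk (C.φ 1 * d) by rw [map_one, one_mul, hd, neg_neg], ← W.εF_eq,
      X.cm_conj, X.map_l, C.tH_gD, C.tH_gC, W.εF_eq]
    exact W.mem_εF _

/-- The commutators of the two first short families lie in the lift of the abelian part. -/
theorem cm_BC_mem (b c : K) : X.cm (C.uB b) (C.gC c) ∈ W.τ.range := by
  have hex : ∀ b c, ∃ z ∈ σ.ker, z⁻¹ * X.cm (C.uB b) (C.gC c) ∈ W.τ.range := by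
    intro b c
    obtain ⟨e, f, he⟩ := C.brBC b c
    set t := W.τ (Multiplicative.ofAdd (C.φ (C.φ b) * c + b * C.φ (C.φ c)),
      Multiplicative.ofAdd e, Multiplicative.ofAdd f)
    refine ⟨X.cm (C.uB b) (C.gC c) * t⁻¹, ?_, ?_⟩
    · rw [MonoidHom.mem_ker, map_mul, map_inv, X.map_cm, he, W.map_τ]
      exact mul_inv_cancel _
    · rw [show (X.cm (C.uB b) (C.gC c) * t⁻¹)⁻¹ * X.cm (C.uB b) (C.gC c) = t by group]
      exact ⟨_, rfl⟩
  choose ζ hk ht using hex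
  have hcen : ∀ b c (g : Γ), g * ζ b c = ζ b c * g := fun b c g =>
    Subgroup.mem_center_iff.1 (X.central (hk b c)) g
  have huniq : ∀ b c z, z ∈ σ.ker → z⁻¹ * X.cm (C.uB b) (C.gC c) ∈ W.τ.range → ζ b c = z := by
    intro b c z hz hzt
    have h1 : z⁻¹ * ζ b c ∈ W.τ.range := by
      have := mul_mem hzt (inv_mem (ht b c))
      rwa [_root_.mul_inv_rev, inv_inv, ← mul_assoc, mul_inv_cancel_right] at this
    have h2 := W.eq_one_of_τ h1 (by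
      rw [map_mul, map_inv, MonoidHom.mem_ker.1 hz, MonoidHom.mem_ker.1 (hk b c), inv_one,
        one_mul])
    exact (inv_mul_eq_one.1 h2).symm
  have hr : ∀ b c c', ζ b (c + c') = ζ b c * ζ b c' := by
    intro b c c'
    refine huniq _ _ _ (mul_mem (hk _ _) (hk _ _)) ?_
    rw [C.gC_add, X.cm_mul_right]
    have h1 := mul_mem (ht b c) (W.τ_conj_C (X.map_l (C.gC c)) (ht b c'))
    have e : (ζ b c * ζ b c')⁻¹ * (X.cm (C.uB b) (C.gC c) *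
        (X.l (C.gC c) * X.cm (C.uB b) (C.gC c') * (X.l (C.gC c))⁻¹)) =
        (ζ b c)⁻¹ * X.cm (C.uB b) (C.gC c) *
          (X.l (C.gC c) * ((ζ b c')⁻¹ * X.cm (C.uB b) (C.gC c')) * (X.l (C.gC c))⁻¹) := by
      have hc1 : ∀ g : Γ, g * (ζ b c')⁻¹ = (ζ b c')⁻¹ * g := fun g =>
        (Commute.inv_right (hcen b c' g : Commute g (ζ b c'))).eq
      rw [_root_.mul_inv_rev, ← mul_assoc (X.l _) (ζ b c')⁻¹, hc1 (X.l _)]
      simp only [mul_assoc]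
      rw [← mul_assoc _ (ζ b c')⁻¹, hc1 _, mul_assoc, ← mul_assoc (ζ b c)⁻¹ (ζ b c')⁻¹, hc1 _,
        mul_assoc]
    rw [e]
    exact h1
  have hl : ∀ b b' c, ζ (b + b') c = ζ b c * ζ b' c := by
    intro b b' c
    refine huniq _ _ _ (mul_mem (hk _ _) (hk _ _)) ?_
    rw [C.gB_add, X.cm_mul_left]
    have h1 := mul_mem (W.τ_conj_B (X.map_l (C.uB b)) (ht b' c)) (ht b c)
    have e : (ζ b c * ζ b' c)⁻¹ * (X.l (C.uB b) * X.cm (C.uB b') (C.gC c) * (X.l (C.uB b))⁻¹ *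
        X.cm (C.uB b) (C.gC c)) =
        X.l (C.uB b) * ((ζ b' c)⁻¹ * X.cm (C.uB b') (C.gC c)) * (X.l (C.uB b))⁻¹ *
          ((ζ b c)⁻¹ * X.cm (C.uB b) (C.gC c)) := by
      have hc1 : ∀ g : Γ, g * (ζ b' c)⁻¹ = (ζ b' c)⁻¹ * g := fun g =>
        (Commute.inv_right (hcen b' c g : Commute g (ζ b' c))).eq
      have hc2 : ∀ g : Γ, g * (ζ b c)⁻¹ = (ζ b c)⁻¹ * g := fun g =>
        (Commute.inv_right (hcen b c g : Commute g (ζ b c))).eq
      rw [show X.l (C.uB b) * ((ζ b' c)⁻¹ * X.cm (C.uB b') (C.gC c)) * (X.l (C.uB b))⁻¹ =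
        (ζ b' c)⁻¹ * (X.l (C.uB b) * X.cm (C.uB b') (C.gC c) * (X.l (C.uB b))⁻¹) by
          rw [← mul_assoc (X.l _), hc1]; group,
        _root_.mul_inv_rev]
      set A := X.l (C.uB b) * X.cm (C.uB b') (C.gC c) * (X.l (C.uB b))⁻¹
      rw [mul_assoc (ζ b' c)⁻¹ A, ← mul_assoc A, hc2 A]
      group
    rw [e]
    exact h1
  have hinv : ∀ t, t ≠ 0 → ∀ b c, ζ (t ^ 2 * b) (t ^ 2 * c) = ζ b c := by
    intro t ht0 b c
    obtain ⟨k, h18, h19⟩ := C.exists_BC (pow_ne_zero 2 ht0)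
    refine huniq _ _ _ (hk b c) ?_
    have h1 := W.τ_conj_H k (ht b c)
    rw [← mul_assoc (X.l _) (ζ b c)⁻¹,
      (Commute.inv_right (hcen b c (X.l (C.tH k)) : Commute (X.l (C.tH k)) (ζ b c))).eq,
      mul_assoc (ζ b c)⁻¹, mul_assoc (ζ b c)⁻¹, X.cm_conj, X.map_l, C.tH_uB, C.tH_gC, h18,
      h19] at h1
    exact h1
  have h1 := CfsgLib.SL2Mult.pairing_trivial ζ hl hr hinv (card_cond S X).1 (card_cond S X).2 b c
  have h2 := ht b c
  rwa [h1, inv_one, one_mul] at h2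

/-- The lift of the three last families. -/
def C0 : Subgroup Γ :=
  mulSub W.sC.range W.τ.range (by
    rintro x ⟨c, rfl⟩ y hy
    exact W.τ_conj_C (W.map_sC c) hy)

theorem mem_C0_τ {t : Γ} (ht : t ∈ W.τ.range) : t ∈ W.C0 :=
  ⟨1, one_mem _, t, ht, (one_mul t).symm⟩

theorem mem_C0_sC (c : Multiplicative K) : W.sC c ∈ W.C0 :=
  ⟨W.sC c, ⟨c, rfl⟩, 1, one_mem _, (mul_one _).symm⟩

/-- The lift of the radical. -/
def B0 : Subgroup Γ :=
  mulSub W.sB.range W.C0 (by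
    rintro x ⟨b, rfl⟩ y ⟨_, ⟨c, rfl⟩, t, ht, rfl⟩
    rw [show W.sB b * (W.sC c * t) * (W.sB b)⁻¹ =
      (W.sB b * W.sC c * (W.sB b)⁻¹) * (W.sB b * t * (W.sB b)⁻¹) by group]
    refine mul_mem ?_ (W.mem_C0_τ (W.τ_conj_B (W.map_sB b) ht))
    rw [← ofAdd_toAdd c, W.conj_sC (W.map_sB b)]
    exact mul_mem (W.mem_C0_τ (W.cm_BC_mem _ _)) (W.mem_C0_sC _))

theorem mem_B0_τ {t : Γ} (ht : t ∈ W.τ.range) : t ∈ W.B0 :=
  ⟨1, one_mem _, t, W.mem_C0_τ ht, (one_mul t).symm⟩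

theorem mem_B0_sC (c : Multiplicative K) : W.sC c ∈ W.B0 :=
  ⟨1, one_mem _, _, W.mem_C0_sC c, (one_mul _).symm⟩

theorem mem_B0_sB (c : Multiplicative K) : W.sB c ∈ W.B0 :=
  ⟨W.sB c, ⟨c, rfl⟩, 1, one_mem _, (mul_one _).symm⟩

theorem B0_conj {x : Γ} (hB : ∀ b, x * W.sB (Multiplicative.ofAdd b) * x⁻¹ ∈ W.B0)
    (hC : ∀ b, x * W.sC (Multiplicative.ofAdd b) * x⁻¹ ∈ W.B0)
    (hD : ∀ d, x * W.sD (Multiplicative.ofAdd d) * x⁻¹ ∈ W.B0)
    (hE' : ∀ e, x * W.εE (Multiplicative.ofAdd e) * x⁻¹ ∈ W.B0)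
    (hF' : ∀ e, x * W.εF (Multiplicative.ofAdd e) * x⁻¹ ∈ W.B0) {r : Γ} (hr : r ∈ W.B0) :
    x * r * x⁻¹ ∈ W.B0 := by
  obtain ⟨_, ⟨b, rfl⟩, _, ⟨_, ⟨c, rfl⟩, _, ⟨⟨d, e, f⟩, rfl⟩, rfl⟩, rfl⟩ := hr
  show x * (W.sB b * (W.sC c * (W.sD d * (W.εE e * W.εF f)))) * x⁻¹ ∈ _
  rw [show x * (W.sB b * (W.sC c * (W.sD d * (W.εE e * W.εF f)))) * x⁻¹ =
    (x * W.sB b * x⁻¹) * ((x * W.sC c * x⁻¹) * ((x * W.sD d * x⁻¹) *
      ((x * W.εE e * x⁻¹) * (x * W.εF f * x⁻¹)))) by group]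
  exact mul_mem (hB _) (mul_mem (hC _) (mul_mem (hD _) (mul_mem (hE' _) (hF' _))))

theorem exists_preimage (b c d : K) (e f : C.kF) :
    ∃ r ∈ W.B0, σ r = C.uB b * C.uQ 0 c d e f := by
  refine ⟨W.sB (Multiplicative.ofAdd b) * (W.sC (Multiplicative.ofAdd c) *
    W.τ (Multiplicative.ofAdd d, Multiplicative.ofAdd e, Multiplicative.ofAdd f)),
    mul_mem (W.mem_B0_sB _) (mul_mem (W.mem_B0_sC _) (W.mem_B0_τ ⟨_, rfl⟩)), ?_⟩
  rw [map_mul, map_mul, W.map_sB, W.map_sC, W.map_τ, C.uQ_eq c, C.uQ_eq', ← mul_assoc (C.gC _),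
    ← mul_assoc (C.gC _)]
  rfl

theorem eq_one_of_B0 {r : Γ} (hr : r ∈ W.B0) (h : σ r = 1) : r = 1 := by
  obtain ⟨_, ⟨b, rfl⟩, _, ⟨_, ⟨c, rfl⟩, _, ⟨⟨d, e, f⟩, rfl⟩, rfl⟩, rfl⟩ := hr
  rw [map_mul, map_mul, W.map_sB, W.map_sC, W.map_τ, C.uQ_eq', ← mul_assoc (C.gC _),
    ← mul_assoc (C.gC _), ← C.uQ_eq] at h
  obtain ⟨hb, hc, hd, he, hf⟩ := C.B_uQ_inj h
  rw [show b = 1 from hb, show c = 1 from hc,
    show ((d, e, f) : Multiplicative K × Multiplicative C.kF × Multiplicative C.kF) = 1 from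
      Prod.ext hd (Prod.ext he hf), map_one, map_one, map_one, one_mul, one_mul]

theorem h_conj {r : Γ} (hr : r ∈ W.B0) : X.l S.h * r * (X.l S.h)⁻¹ ∈ W.B0 := by
  have hl := X.map_l S.h
  refine W.B0_conj (fun b => ?_) (fun b => ?_) (fun d => ?_) (fun e => ?_) (fun e => ?_) hr
  · rw [show X.l S.h * W.sB (Multiplicative.ofAdd b) * (X.l S.h)⁻¹ =
        W.sB (Multiplicative.ofAdd (S.l * b)) by
      rw [W.sB_eq, W.sB_eq, X.cm_conj, hl, mul_inv_cancel_right, S.move_B, toAdd_ofAdd, toAdd_ofAdd]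
      congr 2
      ring]
    exact W.mem_B0_sB _
  · rw [show X.l S.h * W.sC (Multiplicative.ofAdd b) * (X.l S.h)⁻¹ =
        W.sC (Multiplicative.ofAdd (S.l * b)) by
      rw [W.sC_eq, W.sC_eq, X.cm_conj, hl, mul_inv_cancel_right, S.move_C, toAdd_ofAdd, toAdd_ofAdd]
      congr 2
      ring]
    exact W.mem_B0_sC _
  · rw [show X.l S.h * W.sD (Multiplicative.ofAdd d) * (X.l S.h)⁻¹ =
        W.sD (Multiplicative.ofAdd ((C.φ S.l)⁻¹ * d)) by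
      rw [W.sD_eq, W.sD_eq, X.cm_conj, hl, mul_inv_cancel_right, S.move_D, toAdd_ofAdd, toAdd_ofAdd]
      congr 2
      ring]
    exact W.mem_B0_τ (W.mem_sD _)
  · rw [W.conj_εE hl (hE S X e)]; exact W.mem_B0_τ (W.mem_εE _)
  · rw [W.conj_εF hl (hF S X e)]; exact W.mem_B0_τ (W.mem_εF _)

theorem A_conj (a : C.kF) {x : Γ} (hx : σ x = C.gA a) {r : Γ} (hr : r ∈ W.B0) :
    x * r * x⁻¹ ∈ W.B0 := by
  have hconjB : ∀ b, ∃ r ∈ W.B0, σ r = C.gA a * C.uB b * (C.gA a)⁻¹ := fun b => by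
    obtain ⟨c, d, e, f, h⟩ := C.conj_AB a b
    rw [h]
    exact W.exists_preimage b c d e f
  have hfixC : ∀ c, C.gA a * C.gC c * (C.gA a)⁻¹ = C.gC c := fun c => by
    rw [(C.comm_AC a c).eq, mul_inv_cancel_right]
  have hfixD : ∀ d, C.gA a * C.gD d * (C.gA a)⁻¹ = C.gD d := fun d => by
    rw [(C.comm_AD a d).eq, mul_inv_cancel_right]
  have hh : C.gA a * S.h * (C.gA a)⁻¹ = S.h := by
    rw [← (S.commute_A a).eq, mul_inv_cancel_right]
  refine W.B0_conj (fun b => ?_) (fun b => ?_) (fun d => ?_) (fun e => ?_) (fun e => ?_) hr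
  · obtain ⟨r', hr', e'⟩ := hconjB ((S.l - 1)⁻¹ * b)
    rw [W.sB_eq, X.cm_conj, hx, hh, toAdd_ofAdd, ← X.cm_eq (X.map_l S.h) e',
      commutatorElement_def]
    exact mul_mem (W.h_conj hr') (inv_mem hr')
  · rw [W.sC_eq, X.cm_conj, hx, hh, toAdd_ofAdd, hfixC]
    exact (W.sC_eq (Multiplicative.ofAdd b)) ▸ W.mem_B0_sC _
  · rw [W.sD_eq, X.cm_conj, hx, hh, toAdd_ofAdd, hfixD]
    exact (W.sD_eq (Multiplicative.ofAdd d)) ▸ W.mem_B0_τ (W.mem_sD _)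
  · obtain ⟨d, hd⟩ := C.Tk_surjective (-e)
    rw [show e = -C.Tk (C.φ 1 * d) by rw [map_one, one_mul, hd, neg_neg], ← W.εE_eq, X.cm_conj,
      hx, hfixD]
    obtain ⟨r₁, hr₁, e₁⟩ := hconjB 1
    rw [← X.cm_eq (show σ (W.sD (Multiplicative.ofAdd d)) = C.gD d from W.map_sD _) e₁,
      commutatorElement_def]
    exact mul_mem (mul_mem (mul_mem (W.mem_B0_τ (W.mem_sD _)) hr₁)
      (inv_mem (W.mem_B0_τ (W.mem_sD _)))) (inv_mem hr₁)
  · obtain ⟨d, hd⟩ := C.Tk_surjective (-e)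
    rw [show e = -C.Tk (C.φ 1 * d) by rw [map_one, one_mul, hd, neg_neg], ← W.εF_eq, X.cm_conj,
      hx, hfixD, hfixC, W.εF_eq]
    exact W.mem_B0_τ (W.mem_εF _)

theorem derived_le : ⁅(C.Z.U1.subgroupOf C.Z.G1).comap σ, (C.Z.U1.subgroupOf C.Z.G1).comap σ⁆ ≤
    W.B0 := by
  rw [Subgroup.commutator_le]
  intro u hu v hv
  obtain ⟨a, b, c, d, e, f, hu'⟩ := C.exists_coord hu
  obtain ⟨a', b', c', d', e', f', hv'⟩ := C.exists_coord hv
  obtain ⟨r, hr, er⟩ := W.exists_preimage b c d e f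
  obtain ⟨r', hr', er'⟩ := W.exists_preimage b' c' d' e' f'
  rw [X.cm_eq hu' hv', ← X.cm_eq (a := X.l (C.gA a) * r) (b := X.l (C.gA a') * r')
    (by rw [map_mul, X.map_l, er]) (by rw [map_mul, X.map_l, er'])]
  have hAA : Commute (X.l (C.gA a)) (X.l (C.gA a')) :=
    X.comm_of_cm (by rw [X.map_l, X.map_l]; exact cAA S X a a')
  set x := X.l (C.gA a)
  set y := X.l (C.gA a')
  have key : ⁅x * r, y * r'⁆ = (x * r * x⁻¹) * ((x * y) * (r' * r⁻¹) * (x * y)⁻¹) *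
      (y * r' * y⁻¹)⁻¹ := by
    have e0 : x⁻¹ = y * (x * y)⁻¹ := by group
    have e1 : (x * y)⁻¹ = (y * x)⁻¹ := by rw [hAA.eq]
    rw [commutatorElement_def,
      show (x * r) * (y * r') * (x * r)⁻¹ * (y * r')⁻¹ =
        (x * r * x⁻¹) * ((x * y) * (r' * r⁻¹) * x⁻¹) * (r'⁻¹ * y⁻¹) by group,
      e1, show (y * x)⁻¹ = x⁻¹ * y⁻¹ by group]
    group
  rw [key]
  refine mul_mem (mul_mem (W.A_conj a (X.map_l _) hr)
    (W.A_conj (a + a') (by rw [map_mul, X.map_l, X.map_l, C.gA_add])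
      (mul_mem hr' (inv_mem hr)))) (inv_mem (W.A_conj a' (X.map_l _) hr'))

end Secs

/-- The derived group of the preimage of the unipotent subgroup meets the kernel trivially. -/
theorem derived_inf_ker (C : Ctx K q) {p : ℕ} [Fact p.Prime] [CharP K p] (hpq : p ∣ q)
    {Γ : Type*} [Group Γ] {σ : Γ →* C.Z.G1} (hs : Function.Surjective σ)
    (hc : σ.ker ≤ Subgroup.center Γ) :
    ∀ z ∈ ⁅(C.Z.U1.subgroupOf C.Z.G1).comap σ, (C.Z.U1.subgroupOf C.Z.G1).comap σ⁆,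
      z ∈ σ.ker → z = 1 := by
  obtain ⟨S⟩ := C.exists_spec hpq
  obtain ⟨W⟩ := exists_secs S (⟨hs, hc⟩ : CExt σ)
  exact fun z hz hk => W.eq_one_of_B0 (W.derived_le hz) hk

end Ctx

end CfsgLib.Chev.D4Tw
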