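import Cfsg.Agent.TwMult.F4Rank1

/-!
The split (B, N)-pair of `²F₄(q)` and the reduction of its multiplier to the Sylow subgroup.
-/

set_option autoImplicit false
set_option linter.style.haveILetI false
set_option linter.unusedSectionVars false
set_option maxRecDepth 100000

namespace CfsgLib.Chev.F4Tw

open Cfsg.Lie Matrix Tab CfsgLib.TwMult
open scoped MatrixGroups

universe u

variable {K : Type u} [Field K] [Fintype K] {m : ℕ}

/-- The matrices of determinant one of degree two. -/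
noncomputable def slMat (K : Type u) [Field K] : SpecialLinearGroup (Fin 2) K →*
    Matrix (Fin 2) (Fin 2) K where
  toFun g := g.1
  map_one' := rfl
  map_mul' _ _ := rfl

/-- The matrices of the Suzuki group. -/
noncomputable def szMat (K : Type u) [Field K] (m : ℕ) :
    CfsgLib.Suzuki.SzG K m →* Matrix (Fin 4) (Fin 4) K where
  toFun g := g.1.1
  map_one' := rfl
  map_mul' _ _ := rfl

theorem braidTab : (∀ s < 48, F4Data.tab.wordT
      (([1, 0, 1, 0, 1, 0, 1, 0] : List ℕ).flatMap fun j => words.getD j []) s =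
      F4Data.tab.wordT (([0, 1, 0, 1, 0, 1, 0, 1] : List ℕ).flatMap fun j => words.getD j []) s) ∧
    ∀ s ∈ flips.getD 0 [], F4Data.tab.wordT
      (([1, 0, 1, 0, 1, 0, 1] : List ℕ).flatMap fun j => words.getD j []) s ∈ flips.getD 0 [] := by
  decide +kernel

namespace Ctx

variable (C : Ctx K m)
include C

theorem pow_e_eq_one {v : Kˣ} (h : v ^ 2 ^ m = 1) : v = 1 := by
  rw [← C.units_pow_qq' v, h, one_pow]

theorem pow_twice_eq_one {v : Kˣ} (h : v ^ (2 * 2 ^ m + 2) = 1) : v = 1 := by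
  have h1 : v ^ ((2 * 2 ^ m + 2) * 2 ^ m) = 1 := by rw [pow_mul, h, one_pow]
  rw [show (2 * 2 ^ m + 2) * 2 ^ m = 2 * 2 ^ m * 2 ^ m + 2 * 2 ^ m by ring, pow_add,
    C.pow_q_units] at h1
  rw [pow_add, eq_inv_of_mul_eq_one_right h1] at h
  have h2 : v⁻¹ * v ^ 2 = v := by rw [pow_two, inv_mul_cancel_left]
  exact h2.symm.trans h

/-- The torus acts faithfully on the block of the pair orbit. -/
theorem chi_block0 {p : Kˣ × Kˣ} (h1 : F4Data.tab.chi 34 (C.cvec p) = 1)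
    (h2 : F4Data.tab.chi 27 (C.cvec p) = 1) : p = 1 := by
  rw [C.chi_eq] at h1 h2
  have hc := fun j : Fin 4 => cart_V j
  simp only [show F4Data.tab.cart 0 34 = 1 from (hc 0).2.1, show F4Data.tab.cart 1 34 = 1 from (hc 1).2.1,
    show F4Data.tab.cart 2 34 = -1 from (hc 2).2.1, show F4Data.tab.cart 3 34 = 0 from (hc 3).2.1,
    show F4Data.tab.cart 0 27 = -1 from (hc 0).2.2.2.2,
    show F4Data.tab.cart 1 27 = 2 from (hc 1).2.2.2.2,
    show F4Data.tab.cart 2 27 = -1 from (hc 2).2.2.2.2,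
    show F4Data.tab.cart 3 27 = 0 from (hc 3).2.2.2.2] at h1 h2
  obtain ⟨a, b⟩ := p
  dsimp only at h1 h2
  simp only [_root_.zpow_one, _root_.zpow_zero, mul_one, _root_.zpow_neg] at h1 h2
  rw [show ((b ^ 2 ^ m) ^ (2 : ℤ)) = b ^ 2 ^ m * b ^ 2 ^ m from zpow_two _] at h2
  set A := a ^ 2 ^ m
  set B := b ^ 2 ^ m with hB
  have hA : A = B * B * b⁻¹ := by
    rw [mul_assoc, inv_mul_eq_one] at h2
    exact h2
  have h3 : B * B * B = b * b := by
    rw [hA] at h1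
    have h4 : B * B * B * (b * b)⁻¹ = 1 := by rw [← h1]; simp [mul_comm, mul_left_comm, mul_assoc]
    exact mul_inv_eq_one.1 h4
  have hbB : B ^ (2 * 2 ^ m) = b := C.units_pow_qq' b
  have h5 : b * b * b = B ^ 4 := by
    have e := congrArg (· ^ (2 * 2 ^ m)) h3
    simp only [mul_pow, hbB] at e
    rw [e, show b ^ (2 * 2 ^ m) = B ^ 2 by rw [hB, ← pow_mul, mul_comm], ← pow_add]
  have hb : b = 1 := by
    have e : b ^ 9 = b ^ 8 := by
      calc b ^ 9 = (b * b * b) ^ 3 := by simp only [pow_succ, pow_zero, one_mul, mul_assoc]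
        _ = (B * B * B) ^ 4 := by
          rw [h5, show B * B * B = B ^ 3 by simp [pow_succ]]; exact pow_right_comm B 4 3
        _ = b ^ 8 := by rw [h3, ← pow_two, ← pow_mul]
    rw [pow_succ] at e
    exact mul_eq_left.1 e
  have hA1 : A = 1 := by rw [hA, hB, hb]; simp
  exact Prod.ext (C.pow_e_eq_one hA1) hb

/-- The torus acts faithfully on the block of the quadruple orbit. -/
theorem chi_block1 {p : Kˣ × Kˣ} (h1 : F4Data.tab.chi 33 (C.cvec p) = 1)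
    (h2 : F4Data.tab.chi 35 (C.cvec p) = 1) (h3 : F4Data.tab.chi 37 (C.cvec p) = 1) : p = 1 := by
  rw [C.chi_eq] at h1 h2 h3
  have hc := fun j : Fin 4 => cart_V j
  simp only [show F4Data.tab.cart 0 33 = 2 from (hc 0).1, show F4Data.tab.cart 1 33 = -1 from (hc 1).1,
    show F4Data.tab.cart 2 33 = 0 from (hc 2).1, show F4Data.tab.cart 3 33 = 0 from (hc 3).1,
    show F4Data.tab.cart 0 35 = 1 from (hc 0).2.2.1, show F4Data.tab.cart 1 35 = -1 from (hc 1).2.2.1,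
    show F4Data.tab.cart 2 35 = 1 from (hc 2).2.2.1, show F4Data.tab.cart 3 35 = -1 from (hc 3).2.2.1,
    show F4Data.tab.cart 0 37 = 0 from (hc 0).2.2.2.1, show F4Data.tab.cart 1 37 = 1 from (hc 1).2.2.2.1,
    show F4Data.tab.cart 2 37 = 0 from (hc 2).2.2.2.1,
    show F4Data.tab.cart 3 37 = -1 from (hc 3).2.2.2.1] at h1 h2 h3
  obtain ⟨a, b⟩ := p
  dsimp only at h1 h2 h3
  simp only [_root_.zpow_one, _root_.zpow_zero, mul_one, one_mul, _root_.zpow_neg] at h1 h2 h3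
  rw [show ((a ^ 2 ^ m) ^ (2 : ℤ)) = a ^ 2 ^ m * a ^ 2 ^ m from zpow_two _] at h1
  rw [mul_inv_eq_one] at h3
  rw [mul_inv_eq_one] at h1
  have hb : b = a * a := by
    rw [← mul_inv_eq_one]
    refine C.pow_e_eq_one ?_
    rw [mul_pow, inv_pow, mul_pow, h1, mul_inv_cancel]
  -- the first and the third relation give `b ^ e = a`, `b = a ^ 2`
  have h4 : a ^ 2 ^ m * a ^ 2 ^ m = a := h1.trans h3
  rw [h3, hb] at h2
  have h5 : a ^ 2 ^ m = 1 := by
    rw [← h2]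
    simp [mul_comm, mul_left_comm]
  have ha : a = 1 := C.pow_e_eq_one h5
  exact Prod.ext ha (by rw [hb, ha, mul_one]; rfl)

theorem split0 (t u : K) (p : Kˣ × Kˣ)
    (h : blk V0 (C.U 0 t u).val * blk V0 (C.h p).val = 1) : C.U 0 t u = 1 ∧ p = 1 := by
  rw [show C.U 0 t u = C.U 0 t 0 from rfl, (C.blk_U0 t).2, (C.hT_block V0_inj p).2] at h
  have e := fun i j => congrFun (congrFun h i) j
  have e00 := e 0 0
  have e01 := e 0 1
  have e11 := e 1 1
  simp [V0, Matrix.mul_apply, Fin.sum_univ_two] at e00 e01 e11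
  have ht : t = 0 := e01
  subst ht
  exact ⟨by simp [U, U0, good_F4.full.x_zero], C.chi_block0 (by simpa using e00) (by simpa using e11)⟩

theorem split1 (t u : K) (p : Kˣ × Kˣ)
    (h : blk V1 (C.U 1 t u).val * blk V1 (C.h p).val = 1) : C.U 1 t u = 1 ∧ p = 1 := by
  rw [(C.blk_U t u).2, (C.hT_block V1_inj p).2] at h
  have e := fun i j => congrFun (congrFun h i) j
  have e00 := e 0 0
  have e01 := e 0 1
  have e11 := e 1 1
  have e13 := e 1 3
  have e33 := e 3 3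
  simp [V1, CfsgLib.Suzuki.Umat, Matrix.mul_apply, Fin.sum_univ_four] at e00 e01 e11 e13 e33
  have ht : t = 0 := e01
  subst ht
  rw [zero_pow (Nat.succ_ne_zero _), zero_add] at e13
  subst e13
  exact ⟨by simp [U, U1, P4, good_F4.full.x_zero],
    C.chi_block1 (by simpa using e33) (by simpa using e11) (by simpa using e00)⟩

theorem neg0 (t u : K) (h : ∀ i : Fin 2, i ≠ 0 → blk V0 (C.V 0 t u).val i 0 = 0) :
    C.V 0 t u = 1 := by
  have e := h 1 (by decide)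
  rw [show C.V 0 t u = C.V 0 t 0 from rfl, (C.blk_V0' t).2] at e
  simp at e
  have ht : t = 0 := e
  subst ht
  simp [V, U0, good_F4.full.x_zero]

theorem neg1 (t u : K) (h : ∀ i : Fin 4, i ≠ 0 → blk V1 (C.V 1 t u).val i 0 = 0) :
    C.V 1 t u = 1 := by
  have e1 := h 1 (by decide)
  have e2 := h 2 (by decide)
  rw [(C.blk_V t u).2] at e1 e2
  simp [CfsgLib.Suzuki.Wmat, CfsgLib.Suzuki.Umat, Matrix.mul_apply, Fin.sum_univ_four] at e1 e2
  have ht : t = 0 := e1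
  subst ht
  rw [zero_pow (Nat.succ_ne_zero _), zero_add] at e2
  subst e2
  simp [V, U1, P4, good_F4.full.x_zero]

theorem upper0 (t u : K) : InvBlock V0 (C.U 0 t u).val ∧
    ∀ i : Fin 2, i ≠ 0 → blk V0 (C.U 0 t u).val i 0 = 0 := by
  rw [show C.U 0 t u = C.U 0 t 0 from rfl]
  refine ⟨(C.blk_U0 t).1, fun i hi => ?_⟩
  rw [(C.blk_U0 t).2]
  fin_cases i
  · exact absurd rfl hi
  · simp

theorem upper1 (t u : K) : InvBlock V1 (C.U 1 t u).val ∧
    ∀ i : Fin 4, i ≠ 0 → blk V1 (C.U 1 t u).val i 0 = 0 := by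
  refine ⟨(C.blk_U t u).1, fun i hi => ?_⟩
  rw [(C.blk_U t u).2]
  fin_cases i
  · exact absurd rfl hi
  all_goals simp [CfsgLib.Suzuki.Umat]

theorem U_mem_sl (t u : K) : C.U 0 t u ∈ blockMonoid V0 V0_inj (MonoidHom.mrange (slMat K)) := by
  rw [show C.U 0 t u = C.U 0 t 0 from rfl]
  exact ⟨(C.blk_U0 t).1, ⟨⟨!![1, t ^ 2 ^ m; 0, 1], by simp [Matrix.det_fin_two]⟩,
    (C.blk_U0 t).2.symm⟩⟩

theorem V_mem_sl (t u : K) : C.V 0 t u ∈ blockMonoid V0 V0_inj (MonoidHom.mrange (slMat K)) := by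
  rw [show C.V 0 t u = C.V 0 t 0 from rfl]
  exact ⟨(C.blk_V0' t).1, ⟨⟨!![1, 0; t ^ 2 ^ m, 1], by simp [Matrix.det_fin_two]⟩,
    (C.blk_V0' t).2.symm⟩⟩

theorem U_mem_sz (hm : 1 ≤ m) (t u : K) :
    C.U 1 t u ∈ blockMonoid V1 V1_inj (MonoidHom.mrange (szMat K m)) :=
  ⟨(C.blk_U t u).1, ⟨CfsgLib.Suzuki.uE (C.isSzField hm) _ _, (C.blk_U t u).2.symm⟩⟩

theorem V_mem_sz (hm : 1 ≤ m) (t u : K) :
    C.V 1 t u ∈ blockMonoid V1 V1_inj (MonoidHom.mrange (szMat K m)) :=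
  ⟨(C.blk_V t u).1, ⟨CfsgLib.Suzuki.wE (C.isSzField hm) * CfsgLib.Suzuki.uE (C.isSzField hm) _ _ *
    CfsgLib.Suzuki.wE (C.isSzField hm), (C.blk_V t u).2.symm⟩⟩

/-- A rank one subgroup maps to the group of its blocks. -/
theorem exists_hom {k : ℕ} {Vb : Fin k → Fin chevF4.nroots} (hV : Function.Injective Vb)
    (J : Fin C.Z.nJ) {H : Type u} [Group H] (ι : H →* Matrix (Fin k) (Fin k) K)
    (hι : Function.Injective ι)
    (hU : ∀ t u, C.U J t u ∈ blockMonoid Vb hV (MonoidHom.mrange ι))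
    (hN : ∀ t u, C.V J t u ∈ blockMonoid Vb hV (MonoidHom.mrange ι))
    (hf : ∀ g ∈ C.Z.LG J, blk Vb (g : GL chevF4.Idx K).val = 1 → g = 1) :
    ∃ Φ : C.Z.LG J →* H, Function.Injective Φ ∧
      ∀ g : C.Z.LG J, ι (Φ g) = blk Vb ((g : C.Z.G1) : GL chevF4.Idx K).val := by
  have hmem := fun g : C.Z.LG J => C.LG_block hV J _ hU hN g.2
  choose f hf' using fun g => (hmem g).2
  let Φ : C.Z.LG J →* H := MonoidHom.mk' f fun a b => hι (by
    rw [map_mul, hf', hf', hf', Subgroup.coe_mul, Subgroup.coe_mul, Units.val_mul,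
      blk_mul hV (hmem b).1])
  refine ⟨Φ, (injective_iff_map_eq_one Φ).2 fun g hg => Subtype.ext (hf g g.2 ?_), hf'⟩
  rw [← hf' g, show f g = 1 from hg, map_one]

theorem exists_hom0 : ∃ Φ : C.Z.LG C.j0 →* SpecialLinearGroup (Fin 2) K, Function.Injective Φ ∧
    ∀ g : C.Z.LG C.j0, slMat K (Φ g) = blk V0 ((g : C.Z.G1) : GL chevF4.Idx K).val :=
  C.exists_hom V0_inj C.j0 (slMat K) (fun _ _ e => Subtype.ext e) C.U_mem_sl C.V_mem_sl
    fun _ hg h => C.block_faithful V0_inj C.j0 C.upper0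
      (fun t u => ⟨(C.blk_V0' t).1, C.neg0 t u⟩) C.split0 hg h

theorem exists_hom1 (hm : 1 ≤ m) : ∃ Φ : C.Z.LG C.j1 →* CfsgLib.Suzuki.SzG K m,
    Function.Injective Φ ∧
    ∀ g : C.Z.LG C.j1, szMat K m (Φ g) = blk V1 ((g : C.Z.G1) : GL chevF4.Idx K).val :=
  C.exists_hom V1_inj C.j1 (szMat K m) (fun _ _ e => Subtype.ext (Subtype.ext e)) (C.U_mem_sz hm)
    (C.V_mem_sz hm) fun _ hg h => C.block_faithful V1_inj C.j1 C.upper1
      (fun t u => ⟨(C.blk_V t u).1, C.neg1 t u⟩) C.split1 hg h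

theorem simplyP_LG (hm : 1 ≤ m) (J : Fin C.Z.nJ) [Fact (Nat.Prime 2)] :
    SimplyP.{u} 2 (C.Z.LG J) := by
  haveI : CharP K 2 := (CharP.charP_iff_prime_eq_zero Nat.prime_two).mpr C.hp
  refine simplyP_of_cyclic fun ℓ hℓ hℓ2 P hP => ?_
  have := Fact.mk hℓ
  rcases C.J_cases' J with rfl | rfl
  · obtain ⟨Φ, hΦ, -⟩ := C.exists_hom0
    exact isCyclic_pgroup_of_injective Φ hΦ
      (fun Q => CfsgLib.Linear.SylowDim.isCyclic_sylow_sl (F := K) 2 hℓ2 hℓ2 Q) hP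
  · obtain ⟨Φ, hΦ, -⟩ := C.exists_hom1 hm
    have hS := C.isSzField hm
    haveI := CfsgLib.Suzuki.finite_SL hS
    exact isCyclic_pgroup_of_injective Φ hΦ
      (fun Q => CfsgLib.Suzuki.isCyclic_sylow_odd hS hℓ2 Q) hP

theorem coe_h_blk {k : ℕ} {Vb : Fin k → Fin chevF4.nroots} (hV : Function.Injective Vb)
    {g : C.Z.G1} (hg : g ∈ C.Z.H0.subgroupOf C.Z.G1) {i j : Fin k} (hij : i ≠ j) :
    blk Vb (g : GL chevF4.Idx K).val i j = 0 := by
  obtain ⟨p, hp⟩ := C.H0_eq ▸ (show (g : GL chevF4.Idx K) ∈ C.Z.H0 from hg)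
  rw [← hp, (C.hT_block hV p).2, Matrix.diagonal_apply_ne _ hij]

theorem card_torus_piece (hm : 1 ≤ m) (J : Fin C.Z.nJ) :
    Nat.card (C.Z.H0.subgroupOf C.Z.G1 ⊓ C.Z.LG J : Subgroup C.Z.G1) ≤ 2 ^ (2 * m + 1) - 1 := by
  rw [← C.card_units]
  rcases C.J_cases' J with rfl | rfl
  · obtain ⟨Φ, hΦ, hblk⟩ := C.exists_hom0
    set S := C.Z.H0.subgroupOf C.Z.G1 ⊓ C.Z.LG C.j0
    have hd : ∀ x : S, ∀ i j : Fin 2, i ≠ j → (Φ ⟨x.1, x.2.2⟩).1 i j = 0 := fun x i j hij => by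
      rw [show (Φ ⟨x.1, x.2.2⟩).1 = slMat K (Φ ⟨x.1, x.2.2⟩) from rfl, hblk]
      exact C.coe_h_blk V0_inj x.2.1 hij
    have hdet : ∀ x : S, (Φ ⟨x.1, x.2.2⟩).1 0 0 * (Φ ⟨x.1, x.2.2⟩).1 1 1 = 1 := fun x => by
      have h := (Φ ⟨x.1, x.2.2⟩).2
      rwa [Matrix.det_fin_two, hd x 0 1 (by decide), zero_mul, sub_zero] at h
    let f : S → Kˣ := fun x => Units.mkOfMulEqOne _ _ (hdet x)
    refine Nat.card_le_card_of_injective f fun x y e => ?_
    have e0 : (Φ ⟨x.1, x.2.2⟩).1 0 0 = (Φ ⟨y.1, y.2.2⟩).1 0 0 := congrArg Units.val e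
    refine Subtype.ext (congrArg (fun z : C.Z.LG C.j0 => (z : C.Z.G1))
      (hΦ (Subtype.ext (Matrix.ext fun i j => ?_)) : (⟨x.1, x.2.2⟩ : C.Z.LG C.j0) = ⟨y.1, y.2.2⟩))
    rcases eq_or_ne i j with rfl | hij
    · fin_cases i
      · exact e0
      · have hy := hdet y
        rw [← e0] at hy
        exact mul_left_cancel₀ (left_ne_zero_of_mul_eq_one (hdet x)) ((hdet x).trans hy.symm)
    · rw [hd x i j hij, hd y i j hij]
  · have hS := C.isSzField hm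
    obtain ⟨Φ, hΦ, hblk⟩ := C.exists_hom1 hm
    set S := C.Z.H0.subgroupOf C.Z.G1 ⊓ C.Z.LG C.j1
    haveI := CfsgLib.Suzuki.finite_SL hS
    have hd : ∀ x : S, ∀ i j : Fin 4, i ≠ j → (Φ ⟨x.1, x.2.2⟩).1.1 i j = 0 := fun x i j hij => by
      rw [show (Φ ⟨x.1, x.2.2⟩).1.1 = szMat K m (Φ ⟨x.1, x.2.2⟩) from rfl, hblk]
      exact C.coe_h_blk V1_inj x.2.1 hij
    have hfix : ∀ g : CfsgLib.Suzuki.SzG K m, (∀ i : Fin 4, i ≠ 0 → g.1.1 i 0 = 0) →
        g • CfsgLib.Suzuki.inf K = CfsgLib.Suzuki.inf K := by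
      intro g hg
      show g.1 • CfsgLib.Suzuki.inf K = CfsgLib.Suzuki.inf K
      unfold CfsgLib.Suzuki.inf Cfsg.suzukiPointInfinity
      rw [Projectivization.smul_mk]
      apply CfsgLib.Suzuki.mk_eq_inf <;>
        simp [CfsgLib.Suzuki.smul_eq_mulVec, Matrix.mulVec, dotProduct, Fin.sum_univ_four,
          hg 1 (by decide), hg 2 (by decide), hg 3 (by decide)]
    have ht : ∀ x : S, Φ ⟨x.1, x.2.2⟩ ∈ CfsgLib.Suzuki.torus hS := fun x => by
      refine (CfsgLib.Suzuki.mem_torus_iff hS).2 ⟨hfix _ fun i hi => hd x i 0 hi, ?_⟩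
      set w := CfsgLib.Suzuki.wE hS
      set g := Φ ⟨x.1, x.2.2⟩
      have hwi : w • CfsgLib.Suzuki.inf K = CfsgLib.Suzuki.pt m (0 : K) 0 := CfsgLib.Suzuki.W_smul_inf
      have h1 : (w * g * w) • CfsgLib.Suzuki.inf K = CfsgLib.Suzuki.inf K := hfix _ fun i hi => by
        fin_cases i
        · exact absurd rfl hi
        all_goals
          simp [w, g, CfsgLib.Suzuki.wE, CfsgLib.Suzuki.Wmat, Matrix.mul_apply, Matrix.vecMul, dotProduct, Fin.sum_univ_four,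
            hd x 2 3 (by decide), hd x 1 3 (by decide), hd x 0 3 (by decide)]
      rw [mul_smul, mul_smul, hwi] at h1
      have h2 := congrArg (fun z => w • z) h1
      simp only [hwi, ← mul_smul, w, CfsgLib.Suzuki.wE_mul_wE,
        ← mul_assoc] at h2
      simpa [mul_smul] using h2
    have hle := Nat.card_le_card_of_injective
      (fun x : S => (⟨Φ ⟨x.1, x.2.2⟩, ht x⟩ : CfsgLib.Suzuki.torus hS))
      (fun x y e => Subtype.ext (congrArg (fun z : C.Z.LG C.j1 => (z : C.Z.G1))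
        (hΦ (congrArg Subtype.val e) : (⟨x.1, x.2.2⟩ : C.Z.LG C.j1) = ⟨y.1, y.2.2⟩)))
    rwa [CfsgLib.Suzuki.card_torus, ← Nat.card_units] at hle

theorem torus_le : C.Z.H0.subgroupOf C.Z.G1 ≤ ⨆ J, C.Z.H0.subgroupOf C.Z.G1 ⊓ C.Z.LG J := by
  set S := ⨆ J, C.Z.H0.subgroupOf C.Z.G1 ⊓ C.Z.LG J
  have hH : ∀ p, (⟨C.h p, C.h_mem p⟩ : C.Z.G1) ∈ C.Z.H0.subgroupOf C.Z.G1 := fun p => by
    show C.h p ∈ C.Z.H0
    rw [C.H0_eq]; exact ⟨p, rfl⟩
  have hA : ∀ v : Kˣ, (⟨C.h (v, 1), C.h_mem _⟩ : C.Z.G1) ∈ C.Z.LG C.j0 := fun v => by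
    set U' := fun s : K => (⟨C.U C.j0 s 0, C.U_mem _ s 0⟩ : C.Z.G1)
    set V' := fun s : K => (⟨C.V C.j0 s 0, C.V_mem _ s 0⟩ : C.Z.G1)
    have e : (⟨C.h (v, 1), C.h_mem _⟩ : C.Z.G1) =
        U' v * V' (v : K)⁻¹ * U' v * (U' 1 * V' (1 : K)⁻¹ * U' 1) := Subtype.ext (by
      have h1 := C.nr_pair (1 : K)
      rw [one_pow] at h1
      show C.h (v, 1) = C.U0 33 24 (v : K) * C.U0 14 23 (v : K)⁻¹ * C.U0 33 24 v *
        (C.U0 33 24 1 * C.U0 14 23 1⁻¹ * C.U0 33 24 1)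
      rw [C.h_pair, C.nr_pair, h1])
    rw [e]
    exact mul_mem (mul_mem (mul_mem (C.U_mem_LG _ _ _) (C.V_mem_LG _ _ _)) (C.U_mem_LG _ _ _))
      (mul_mem (mul_mem (C.U_mem_LG _ _ _) (C.V_mem_LG _ _ _)) (C.U_mem_LG _ _ _))
  have hB : ∀ s : Kˣ, (⟨C.h (1, s), C.h_mem _⟩ : C.Z.G1) ∈ C.Z.LG C.j1 := fun s => by
    have hinj : Function.Injective fun v : Kˣ => v ^ (2 * 2 ^ m + 2) := fun a b e => by
      refine mul_inv_eq_one.1 (C.pow_twice_eq_one ?_)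
      simp only [mul_pow, inv_pow] at e ⊢
      rw [e, mul_inv_cancel]
    obtain ⟨v, hv⟩ := Finite.injective_iff_surjective.1 hinj s
    let n := C.gen_data.n (1 : Fin 2)
    have hd : (good_F4.full.nw K (toFins chevF4.rank (words.getD 1 [])))⁻¹ * n ∈
        chevF4.diagonalSubgroup K :=
      C.gen_data.act_diag (J := (1 : Fin 2)) (good_F4.nw_mem_monomial _) (C.gen_data.n_mono _)
        (good_F4.rootAct_nw _) (C.gen_data.n_act _)
    have key : n * C.h (v, 1) * n⁻¹ = C.h (v, v ^ (2 * 2 ^ m + 2)) := by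
      have hc : ∀ d ∈ chevF4.diagonalSubgroup K, d * C.h (v, 1) * d⁻¹ = C.h (v, 1) := by
        intro d hd
        rw [good_F4.full.diagonal_eq_range] at hd
        obtain ⟨c, rfl⟩ := hd
        show F4Data.tab.hT K c * F4Data.tab.hT K _ * _ = F4Data.tab.hT K _
        rw [← map_mul, mul_comm c, map_mul, mul_inv_cancel_right]
      conv_rhs => rw [← C.h_conj_nw, ← hc _ hd]
      group
    set g : C.Z.G1 := ⟨C.h (v, 1), C.h_mem _⟩
    have e : (⟨C.h (1, s), C.h_mem _⟩ : C.Z.G1) = C.Z.nM C.j1 * (g * (C.Z.nM C.j1)⁻¹ * g⁻¹) :=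
      Subtype.ext (by
        show C.h (1, s) = n * (C.h (v, 1) * n⁻¹ * (C.h (v, 1))⁻¹)
        rw [show n * (C.h (v, 1) * n⁻¹ * (C.h (v, 1))⁻¹) = n * C.h (v, 1) * n⁻¹ * (C.h (v, 1))⁻¹ by
          group, key, ← map_inv, ← map_mul]
        congr 1
        simp [hv])
    rw [e]
    exact mul_mem (C.nM_mem_LG _) (C.Z.H0_LG (hH (v, 1)) (inv_mem (C.nM_mem_LG _)))
  intro g hg
  obtain ⟨p, hp⟩ := C.H0_eq ▸ (show (g : GL chevF4.Idx K) ∈ C.Z.H0 from hg)
  rw [show g = (⟨C.h (p.1, 1), C.h_mem _⟩ : C.Z.G1) * ⟨C.h (1, p.2), C.h_mem _⟩ from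
    Subtype.ext (by rw [← hp, Subgroup.coe_mul]; show _ = C.h _ * C.h _; rw [← map_mul]; simp)]
  exact mul_mem (Subgroup.mem_iSup_of_mem C.j0 ⟨hH _, hA _⟩)
    (Subgroup.mem_iSup_of_mem C.j1 ⟨hH _, hB _⟩)

theorem hrank (J : Fin C.Z.nJ) : ∀ x ∈ C.Z.XG J, x ≠ 1 → ∃ a ∈ C.Z.XG J,
    ∃ h ∈ C.Z.H0.subgroupOf C.Z.G1 ⊓ C.Z.LG J, ∃ b ∈ C.Z.XG J,
      C.Z.nM J * x * (C.Z.nM J)⁻¹ = a * h * C.Z.nM J * b := by
  intro x hx hne
  obtain ⟨a, ha, h, hh, b, hb, e⟩ := (C.gen_data.orbit J).rank_one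
    (C.gen_data.le_fix (C.gen_data.n_mem J)) (C.gen_data.n_mono J) (C.gen_data.n_act J)
    (show (x : GL chevF4.Idx K) ∈ C.Z.XJ J from hx) fun e => hne (Subtype.ext e)
  set a' : C.Z.G1 := ⟨a, C.Z.X_le J ha⟩
  set b' : C.Z.G1 := ⟨b, C.Z.X_le J hb⟩
  set h' : C.Z.G1 := ⟨h, C.Z.H0_le hh⟩
  have e' : C.Z.nM J * x * (C.Z.nM J)⁻¹ = a' * h' * C.Z.nM J * b' := Subtype.ext e
  have hL : h' ∈ C.Z.LG J := by
    rw [show h' = a'⁻¹ * (C.Z.nM J * x * (C.Z.nM J)⁻¹) * b'⁻¹ * (C.Z.nM J)⁻¹ by rw [e']; group]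
    exact mul_mem (mul_mem (mul_mem (inv_mem (Subgroup.subset_closure (Or.inl ha)))
      (Subgroup.subset_closure (Or.inr ⟨x, hx, rfl⟩)))
      (inv_mem (Subgroup.subset_closure (Or.inl hb)))) (inv_mem (C.nM_mem_LG J))
  exact ⟨a', ha, h', ⟨hh, hL⟩, b', hb, e'⟩

/-- The relation of the Weyl group. -/
def braid (C : Ctx K m) : List (Fin C.Z.nJ × List (Fin C.Z.nJ) × Fin C.Z.nJ) :=
  [(C.j0, [C.j1, C.j0, C.j1, C.j0, C.j1, C.j0, C.j1], C.j0)]

theorem pwT_val (L : List (Fin C.Z.nJ)) (s : Fin chevF4.nroots) : (C.Z.pwT L s).val =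
    F4Data.tab.wordT ((L.map Fin.val).flatMap fun j => words.getD j []) s.val := by
  show (good_F4.full.pw (L.flatMap C.Z.word) s).val = _
  rw [good_F4.pw_apply, List.map_flatMap, List.flatMap_map]
  congr 1
  exact congrArg (fun f => L.flatMap f) (funext fun j => C.spec.map_word j)

theorem isBraid : ∀ b ∈ C.braid, C.Z.IsBraid b := by
  intro b hb
  obtain rfl := List.mem_singleton.1 hb
  refine ⟨Equiv.ext fun s => Fin.ext ?_, fun s hs => ?_⟩
  · rw [C.pwT_val, C.pwT_val]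
    exact braidTab.1 s.val s.isLt
  · rw [C.flip_w] at hs ⊢
    show (C.Z.pwT _ s).val ∈ flips.getD 0 []
    rw [C.pwT_val]
    exact braidTab.2 s.val hs

theorem not_two_dvd_index (hm : 1 ≤ m) : ¬ 2 ∣ (C.Z.U1.subgroupOf C.Z.G1).index := by
  have hmul := (C.Z.U1.subgroupOf C.Z.G1).card_mul_index
  rw [Nat.card_congr (Subgroup.subgroupOfEquivOfLe C.Z.U1_le).toEquiv, C.card_U1, C.card_group,
    mul_assoc, mul_assoc, mul_assoc] at hmul
  rw [Nat.eq_of_mul_eq_mul_left (pow_pos (Nat.two_pow_pos _) 12) hmul]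
  set q := 2 ^ (2 * m + 1) with hq
  have h2 : 2 ∣ q := dvd_pow_self 2 (by omega)
  have hs : ∀ k, k ≠ 0 → ¬ 2 ∣ q ^ k - 1 := fun k hk h => by
    have h' := Nat.dvd_sub (h2.trans (dvd_pow_self q hk)) h
    rw [Nat.sub_sub_self (Nat.one_le_pow _ _ (Nat.two_pow_pos _))] at h'
    exact Nat.prime_two.not_dvd_one h'
  have ha : ∀ k, k ≠ 0 → ¬ 2 ∣ q ^ k + 1 := fun k hk h =>
    Nat.prime_two.not_dvd_one ((Nat.dvd_add_right (h2.trans (dvd_pow_self q hk))).1 h)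
  have h1 := hs 1 one_ne_zero
  rw [pow_one] at h1
  exact Nat.prime_two.not_dvd_mul h1 (Nat.prime_two.not_dvd_mul (ha 3 (by norm_num))
    (Nat.prime_two.not_dvd_mul (hs 4 (by norm_num)) (ha 6 (by norm_num))))

theorem isPGroup_U1 [Fact (Nat.Prime 2)] : IsPGroup 2 (C.Z.U1.subgroupOf C.Z.G1) :=
  IsPGroup.of_card (n := (2 * m + 1) * 12) (by
    rw [Nat.card_congr (Subgroup.subgroupOfEquivOfLe C.Z.U1_le).toEquiv, C.card_U1, ← pow_mul])

/-- A stem extension is trivial when the derived group of the preimage of the unipotent subgroup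
meets the kernel trivially. -/
theorem ker_eq_bot_of_derived (hm : 1 ≤ m) [Fact (Nat.Prime 2)] {Γ : Type u} [Group Γ] [Finite Γ]
    {σ : Γ →* C.Z.G1} (hσ : Cfsg.IsStemExtension σ)
    (hD : ∀ z ∈ ⁅(C.Z.U1.subgroupOf C.Z.G1).comap σ, (C.Z.U1.subgroupOf C.Z.G1).comap σ⁆,
      z ∈ σ.ker → z = 1) : σ.ker = ⊥ := by
  have E : CopExt σ 2 := cop_of_derived hσ _ (C.not_two_dvd_index hm) hD
  have hcard : ∏ J : Fin C.Z.nJ, Nat.card (C.Z.H0.subgroupOf C.Z.G1 ⊓ C.Z.LG J :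
      Subgroup C.Z.G1) ≤ Nat.card (C.Z.H0.subgroupOf C.Z.G1) := by
    have e : (Finset.univ : Finset (Fin C.Z.nJ)) = {C.j0, C.j1} := by
      refine (Finset.eq_univ_of_forall fun J => ?_).symm
      rcases C.J_cases' J with rfl | rfl <;> simp
    rw [e, Finset.prod_pair (fun h => absurd (congrArg Fin.val h) (Nat.zero_ne_one)),
      Nat.card_congr (Subgroup.subgroupOfEquivOfLe C.Z.H0_le).toEquiv, C.card_torus, pow_two]
    exact Nat.mul_le_mul (C.card_torus_piece hm _) (C.card_torus_piece hm _)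
  let D := C.Z.splitData 2 C.isPGroup_U1 C.nM_mem_LG C.torus_le hcard C.hrank C.braid C.isBraid
  refine D.ker_eq_bot E (fun J => C.simplyP_LG hm J) (fun Q _ f hf hb w hw => ?_) hσ.2.2
  let M : CoxeterMatrix (Fin C.Z.nJ) :=
    { M := Matrix.of fun i j => if i = j then 1 else 8
      isSymm := Matrix.IsSymm.ext fun i j => by simp [eq_comm]
      diagonal := fun i => by simp
      off_diagonal := fun i j h => by simp [h] }
  refine C.Z.word_eq_one C.xNontrivial M (fun i j => C.hM i j) f ?_ w hw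
  have hinv : ∀ j, (f j)⁻¹ = f j := fun j => inv_eq_of_mul_eq_one_right (hf j)
  have h8 : (f C.j1 * f C.j0) ^ 8 = 1 := by
    have h : ([C.j1, C.j0, C.j1, C.j0, C.j1, C.j0, C.j1].map f).prod * f C.j0 *
        (([C.j1, C.j0, C.j1, C.j0, C.j1, C.j0, C.j1].map f).prod)⁻¹ = f C.j0 :=
      hb (C.j0, [C.j1, C.j0, C.j1, C.j0, C.j1, C.j0, C.j1], C.j0) (List.mem_singleton_self _)
    have h2 := mul_eq_one_iff_eq_inv.2 (h.trans (hinv C.j0).symm)
    simp only [List.map_cons, List.map_nil, List.prod_cons, List.prod_nil, mul_one,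
      _root_.mul_inv_rev, hinv, mul_assoc] at h2
    simpa only [pow_succ, pow_zero, one_mul, mul_assoc] using h2
  have h8' : (f C.j0 * f C.j1) ^ 8 = 1 := by
    rw [← _root_.inv_inj, inv_one, ← inv_pow, _root_.mul_inv_rev, hinv, hinv, h8]
  intro i j
  show _ ^ (if i = j then 1 else 8 : ℕ) = 1
  split_ifs with hij
  · subst hij; rw [pow_one]; exact hf _
  · rcases C.J_cases' i with rfl | rfl <;> rcases C.J_cases' j with rfl | rfl
    · exact absurd rfl hij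
    · exact h8'
    · exact h8
    · exact absurd rfl hij

end Ctx

end CfsgLib.Chev.F4Tw
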