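import Cfsg.Agent.TwMult.BNLift
import Cfsg.Agent.Chev.TwistedBN

/-!
The split (B, N)-pair of a twisted group.
-/

set_option autoImplicit false
set_option linter.unusedSectionVars false

namespace CfsgLib.Chev.Tab.Good.Twisted

open Cfsg.Lie Matrix CfsgLib.TwMult
open scoped MatrixGroups

universe u

variable {D : ChevalleyDatum} {T : Tab D} {G : T.Good} {F : Type u} [Field F] {Φ : G.Graph F}
  (Z : Twisted Φ)
include Z

/-- The root group of an orbit inside the twisted group. -/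
noncomputable def XG (J : Fin Z.nJ) : Subgroup Z.G1 := (Z.XJ J).subgroupOf Z.G1

/-- The representative of an orbit inside the twisted group. -/
noncomputable def nM (J : Fin Z.nJ) : Z.G1 := ⟨Z.n J, Z.n_mem J⟩

/-- The rank one subgroup of an orbit. -/
noncomputable def LG (J : Fin Z.nJ) : Subgroup Z.G1 :=
  Subgroup.closure ((Z.XG J : Set Z.G1) ∪ (fun x => Z.nM J * x * (Z.nM J)⁻¹) '' Z.XG J)

theorem coe_nM (L : List (Fin Z.nJ)) : ((L.map Z.nM).prod : GL D.Idx F) = Z.nT L := by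
  rw [nT, Subgroup.val_list_prod, List.map_map]
  rfl

theorem H0_comm {a b : GL D.Idx F} (ha : a ∈ Z.H0) (hb : b ∈ Z.H0) : a * b = b * a := by
  have ha' := Z.H0_diag ha
  have hb' := Z.H0_diag hb
  rw [G.full.diagonal_eq_range] at ha' hb'
  obtain ⟨c, rfl⟩ := ha'
  obtain ⟨d, rfl⟩ := hb'
  rw [← map_mul, mul_comm, map_mul]

theorem nT_H0' (L : List (Fin Z.nJ)) {h : GL D.Idx F} (hh : h ∈ Z.H0) :
    (Z.nT L)⁻¹ * h * Z.nT L ∈ Z.H0 := by
  obtain ⟨k, hk, e⟩ := Z.nT_inv L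
  rw [e, show Z.nT L = (Z.nT L)⁻¹⁻¹ from (inv_inv _).symm, e,
    show k * Z.nT L.reverse * h * (k * Z.nT L.reverse)⁻¹ =
      k * (Z.nT L.reverse * h * (Z.nT L.reverse)⁻¹) * k⁻¹ by group]
  exact mul_mem (mul_mem hk (Z.nT_H0 _ hh)) (inv_mem hk)

theorem H0_XJ {J : Fin Z.nJ} {h x : GL D.Idx F} (hh : h ∈ Z.H0) (hx : x ∈ Z.XJ J) :
    h * x * h⁻¹ ∈ Z.XJ J :=
  Z.H0_conj_US (S := flipSet (Z.w J)) (fun _ ⟨hs, _⟩ => hs) hh hx

theorem H0_LG {J : Fin Z.nJ} {h x : Z.G1} (hh : (h : GL D.Idx F) ∈ Z.H0) (hx : x ∈ Z.LG J) :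
    h * x * h⁻¹ ∈ Z.LG J := by
  have hle : Z.LG J ≤ (Z.LG J).comap (MulAut.conj h).toMonoidHom := by
    refine (Subgroup.closure_le _).2 ?_
    rintro y (hy | ⟨z, hz, rfl⟩)
    · exact Subgroup.subset_closure (Or.inl (Z.H0_XJ hh hy))
    · show h * (Z.nM J * z * (Z.nM J)⁻¹) * h⁻¹ ∈ Z.LG J
      refine Subgroup.subset_closure (Or.inr ⟨((Z.nM J)⁻¹ * h * Z.nM J) * z *
        ((Z.nM J)⁻¹ * h * Z.nM J)⁻¹, ?_, by group⟩)
      refine Z.H0_XJ ?_ hz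
      simpa [nT, nM] using Z.nT_H0' [J] hh
  exact hle hx

theorem move_word {J : Fin Z.nJ} {L : List (Fin Z.nJ)}
    (h : ∀ i ∈ Z.orb J, IsPos D ((Z.pwT L)⁻¹ (G.full.simp' i)).val) {b : GL D.Idx F}
    (hb : b ∈ Z.XJ J) : (Z.nT L)⁻¹ * b * Z.nT L ∈ Z.U1 := by
  obtain ⟨v, hv, e⟩ := Z.move_right h hb
  rwa [mul_assoc, e, inv_mul_cancel_left]

theorem pos_or_flip (J : Fin Z.nJ) (L : List (Fin Z.nJ)) :
    (∀ b ∈ Z.XJ J, (Z.nT L)⁻¹ * b * Z.nT L ∈ Z.U1) ∨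
      ∀ b ∈ Z.XJ J, (Z.nT (J :: L))⁻¹ * b * Z.nT (J :: L) ∈ Z.U1 := by
  have hcomm : ∀ s, (Z.pwT L)⁻¹ (Φ.π s) = Φ.π ((Z.pwT L)⁻¹ s) := fun s => by
    rw [Equiv.Perm.inv_def, Equiv.symm_apply_eq, Z.pwT_comm, Equiv.apply_symm_apply]
  rcases Z.same_sign hcomm J with hpos | hneg
  · exact Or.inl fun b hb => Z.move_word hpos hb
  refine Or.inr fun b hb => Z.move_word (fun i hi => ?_) hb
  obtain ⟨M, hM⟩ := G.exists_rootAct (F := F) (inv_mem (Z.nT_mono L))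
  have eM := G.rootAct_unique (G.rootAct_inv (Z.nT_mono L) (Z.nT_act L)) hM
  rw [Z.pwT_cons, _root_.mul_inv_rev, Equiv.Perm.mul_apply, eM,
    show (Z.w J)⁻¹ (G.full.simp' i) = Z.w J (G.full.simp' i) by
      rw [Equiv.Perm.inv_def, Equiv.symm_apply_eq, Z.w_sq]]
  have hf := Z.neg_of_all_neg (L := M) (fun l hl => by rw [← eM]; exact hneg l hl)
    (Z.neg_w_mem_flip (Z.simp_mem_flip hi))
  rwa [G.negF_pw, G.pos_negF, not_not] at hf

/-- The conditions on a word conjugating one orbit to another. -/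
def IsBraid (b : Fin Z.nJ × List (Fin Z.nJ) × Fin Z.nJ) : Prop :=
  Z.pwT (b.2.1 ++ [b.1]) = Z.pwT (b.2.2 :: b.2.1) ∧
    ∀ s : Fin D.nroots, s.val ∈ flipSet (Z.w b.1) → (Z.pwT b.2.1 s).val ∈ flipSet (Z.w b.2.2)

theorem braid_H' {b : Fin Z.nJ × List (Fin Z.nJ) × Fin Z.nJ} (hb : Z.IsBraid b) :
    Z.nT b.2.1 * Z.n b.1 * (Z.nT b.2.1)⁻¹ * (Z.n b.2.2)⁻¹ ∈ Z.H0 := by
  obtain ⟨c, hc, e⟩ := Z.nT_congr hb.1
  rw [Z.nT_append, Z.nT_cons, Z.nT_cons, show Z.nT [] = 1 from rfl, mul_one] at e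
  rwa [e, show c * (Z.n b.2.2 * Z.nT b.2.1) * (Z.nT b.2.1)⁻¹ * (Z.n b.2.2)⁻¹ = c by group]

theorem braid_X {b : Fin Z.nJ × List (Fin Z.nJ) × Fin Z.nJ} (hb : Z.IsBraid b) {x : GL D.Idx F}
    (hx : x ∈ Z.XJ b.1) : Z.nT b.2.1 * x * (Z.nT b.2.1)⁻¹ ∈ Z.XJ b.2.2 :=
  ⟨Z.fix_conj (Z.le_fix (Z.nT_mem _)) hx.1,
    G.conj_x_act (Z.nT_act b.2.1) (fun s hs => ⟨hs.1, hb.2 ⟨s, hs.1⟩ hs⟩) hx.2⟩

/-- The split (B, N)-pair of the twisted group. -/
noncomputable def splitData (p : ℕ) (hU : IsPGroup p (Z.U1.subgroupOf Z.G1))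
    (hn : ∀ J, Z.nM J ∈ Z.LG J)
    (hgen : Z.H0.subgroupOf Z.G1 ≤ ⨆ J, Z.H0.subgroupOf Z.G1 ⊓ Z.LG J)
    (hcard : ∏ J, Nat.card (Z.H0.subgroupOf Z.G1 ⊓ Z.LG J : Subgroup Z.G1) ≤
      Nat.card (Z.H0.subgroupOf Z.G1))
    (hrank : ∀ J, ∀ x ∈ Z.XG J, x ≠ 1 → ∃ a ∈ Z.XG J, ∃ h ∈ Z.H0.subgroupOf Z.G1 ⊓ Z.LG J,
      ∃ b ∈ Z.XG J, Z.nM J * x * (Z.nM J)⁻¹ = a * h * Z.nM J * b)
    (braid : List (Fin Z.nJ × List (Fin Z.nJ) × Fin Z.nJ)) (hb : ∀ b ∈ braid, Z.IsBraid b) :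
    SplitData Z.G1 p (Fin Z.nJ) where
  U := Z.U1.subgroupOf Z.G1
  hU := hU
  H := Z.H0.subgroupOf Z.G1
  H_comm a ha b hb' := Subtype.ext (Z.H0_comm ha hb')
  H_U h hh u hu := Z.H0_conj_U1 hh hu
  X := Z.XG
  X_le_U J x hx := Z.XJ_le_U1 J hx
  H_X J h hh x hx := Z.H0_XJ hh hx
  n := Z.nM
  n_sq J := Z.n_sq J
  n_conj J h hh := Z.n_conj J _ hh
  L := Z.LG
  X_le_L J x hx := Subgroup.subset_closure (Or.inl hx)
  n_mem_L := hn
  L_gen J := le_refl _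
  H_gen := hgen
  H_card := hcard
  split J u hu := by
    have hu' : (u : GL D.Idx F) ∈ Z.U1 := hu
    have hu2 : (u : GL D.Idx F) ∈ G.US F {r | IsPos D r} := by
      rw [← G.posUnipotent_eq]; exact hu'.2
    obtain ⟨a, ha, b, hb', e⟩ := Z.split_fix J G.closed_pos hu'.1 hu2 fun s ⟨_, h, _⟩ => h
    have haU : a ∈ Z.U1 := ⟨ha.1, by
      rw [G.posUnipotent_eq]; exact G.US_mono (fun s hs => hs.1) ha.2⟩
    refine ⟨⟨a, Z.U1_le haU⟩, haU, ⟨b, Z.X_le J hb'⟩, hb', Subtype.ext e, ?_⟩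
    refine ⟨Z.fix_conj (Z.n_fix J) ha.1, ?_⟩
    rw [G.posUnipotent_eq]
    exact G.conj_x_act (Z.n_act J)
      (fun s hs => by obtain ⟨-, hlt, -, h3⟩ := hs; exact ⟨hlt, h3⟩) ha.2
  rank_one J x hx hne := by
    obtain ⟨a, ha, h, hh, b, hb', e⟩ := hrank J x hx hne
    exact ⟨a, ⟨Z.XJ_le_U1 J ha, Subgroup.subset_closure (Or.inl ha)⟩, h, hh, b, hb', e⟩
  pos_cases J w := by
    rcases Z.pos_or_flip J w with h | h
    · refine Or.inl fun x hx => ?_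
      show _ ∈ Z.U1
      rw [Subgroup.coe_subtype, Subgroup.coe_mul, Subgroup.coe_mul, Subgroup.coe_inv, Z.coe_nM]
      exact h _ hx
    · refine Or.inr ⟨J :: w, ⟨(Z.nT w)⁻¹ * (Z.n J * Z.n J)⁻¹ * Z.nT w,
        Z.H0_le (Z.nT_H0' w (inv_mem (Z.n_sq J)))⟩, Z.nT_H0' w (inv_mem (Z.n_sq J)),
        Subtype.ext ?_, fun x hx => ?_⟩
      · rw [Subgroup.coe_mul, Subgroup.coe_mul, Z.coe_nM, Z.coe_nM, Z.nT_cons]
        show _ = Z.n J * (Z.n J * Z.nT w) * ((Z.nT w)⁻¹ * (Z.n J * Z.n J)⁻¹ * Z.nT w)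
        group
      · show _ ∈ Z.U1
        rw [Subgroup.coe_subtype, Subgroup.coe_mul, Subgroup.coe_mul, Subgroup.coe_inv, Z.coe_nM]
        exact h _ hx
  inter w h hh hwU := by
    refine Subtype.ext ?_
    have hg : Z.nT w * (h : GL D.Idx F) ∈ Z.U1 := by
      rw [← Z.coe_nM, ← Subgroup.coe_mul]; exact hwU
    rw [Subgroup.coe_mul, Z.coe_nM]
    show Z.nT w * (h : GL D.Idx F) = 1
    have hd : Z.nT w * (h : GL D.Idx F) ∈ D.diagonalSubgroup F :=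
      Z.mem_diag_of_borel (Z.U1_le_borel hg) (mul_mem (Z.nT_mono w) (Z.H0_le_mono hh))
    have : Z.nT w * (h : GL D.Idx F) ∈ D.posUnipotent F ⊓ D.diagonalSubgroup F := ⟨hg.2, hd⟩
    rwa [G.pos_inf_diagonal, Subgroup.mem_bot] at this
  gen := by
    intro g _
    have h : Z.G1 ≤ (Subgroup.closure (((Z.U1.subgroupOf Z.G1 : Subgroup Z.G1) : Set Z.G1) ∪
        (Z.H0.subgroupOf Z.G1 : Subgroup Z.G1) ∪ Set.range Z.nM)).map Z.G1.subtype := by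
      refine Z.gen.trans ((Subgroup.closure_le _).2 ?_)
      rintro x (hx | ⟨J, rfl⟩)
      · obtain ⟨J, hJ⟩ := Set.mem_iUnion.mp hx
        exact ⟨⟨x, Z.X_le J hJ⟩, Subgroup.subset_closure (Or.inl (Or.inl (Z.XJ_le_U1 J hJ))), rfl⟩
      · exact ⟨Z.nM J, Subgroup.subset_closure (Or.inr ⟨J, rfl⟩), rfl⟩
    obtain ⟨g', hg', e⟩ := h g.2
    exact (Subtype.ext e : g' = g) ▸ hg'
  braid := braid
  braid_L b hb' x hx := by
    set nw := (b.2.1.map Z.nM).prod with hnw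
    have hco : (nw : GL D.Idx F) = Z.nT b.2.1 := Z.coe_nM _
    have hle : Z.LG b.1 ≤ (Z.LG b.2.2).comap (MulAut.conj nw).toMonoidHom := by
      refine (Subgroup.closure_le _).2 ?_
      have hX : ∀ y ∈ Z.XG b.1, nw * y * nw⁻¹ ∈ Z.XG b.2.2 := fun y hy => by
        show _ ∈ Z.XJ b.2.2
        rw [Subgroup.coe_subtype, Subgroup.coe_mul, Subgroup.coe_mul, Subgroup.coe_inv, hco]
        exact Z.braid_X (hb b hb') hy
      rintro y (hy | ⟨z, hz, rfl⟩)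
      · exact Subgroup.subset_closure (Or.inl (hX y hy))
      · show nw * (Z.nM b.1 * z * (Z.nM b.1)⁻¹) * nw⁻¹ ∈ Z.LG b.2.2
        set c := nw * Z.nM b.1 * nw⁻¹ * (Z.nM b.2.2)⁻¹ with hc
        rw [show nw * (Z.nM b.1 * z * (Z.nM b.1)⁻¹) * nw⁻¹ = c * (Z.nM b.2.2 * (nw * z * nw⁻¹) *
          (Z.nM b.2.2)⁻¹) * c⁻¹ by rw [hc]; group]
        refine Z.H0_LG ?_ (Subgroup.subset_closure (Or.inr ⟨_, hX z hz, rfl⟩))
        simp only [hc, Subgroup.coe_mul, Subgroup.coe_inv, hco]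
        exact Z.braid_H' (hb b hb')
    exact hle hx
  braid_H b hb' := by
    show _ ∈ Z.H0
    simp only [Subgroup.coe_subtype, Subgroup.coe_mul, Subgroup.coe_inv, Z.coe_nM]
    exact Z.braid_H' (hb b hb')

/-- A word in the representatives which lies in the torus is trivial in every group satisfying
the Coxeter relations. -/
theorem word_eq_one (hX : Z.XNontrivial) (M : CoxeterMatrix (Fin Z.nJ))
    (hM : ∀ i j, orderOf (Z.w i * Z.w j) = M i j) {Q : Type*} [Group Q] (f : Fin Z.nJ → Q)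
    (hf : ∀ i j, (f i * f j) ^ M i j = 1) (w : List (Fin Z.nJ))
    (hw : (w.map Z.nM).prod ∈ Z.H0.subgroupOf Z.G1) : (w.map f).prod = 1 := by
  classical
  set P := Z.bnPair hX with hP
  have hcN : ∀ g : P.N, ((g : Z.G1) : GL D.Idx F) ∈ D.monomialSubgroup F := fun g =>
    Z.mem_N1'.mp g.2
  let back : P.N →* (D.monomialSubgroup F ⊓ Z.G1 : Subgroup (GL D.Idx F)) :=
    MonoidHom.mk' (fun m => ⟨((m : Z.G1) : GL D.Idx F),
      Subgroup.mem_inf.mpr ⟨hcN m, m.1.2⟩⟩) fun a b => rfl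
  have := CfsgLib.BN.torus_normal P
  have hker : (Z.wperm.comp back).ker = CfsgLib.BN.torus P := by
    ext m
    rw [MonoidHom.mem_ker, MonoidHom.comp_apply, ← MonoidHom.mem_ker, Z.wperm_ker,
      Subgroup.mem_subgroupOf, Subgroup.mem_subgroupOf, Subgroup.mem_inf, Subgroup.mem_inf]
    exact ⟨fun h => ⟨Z.mem_B1'.mpr (Subgroup.mem_sup_right h.1), m.2⟩,
      fun h => ⟨Z.mem_diag_of_borel (Z.mem_B1'.mp h.1) (Z.mem_N1'.mp m.2), m.1.2⟩⟩
  let π : CfsgLib.BN.Weyl P →* Equiv.Perm (Fin D.nroots) :=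
    QuotientGroup.lift (CfsgLib.BN.torus P) (Z.wperm.comp back) hker.ge
  have hπ : Function.Injective π := by
    rw [injective_iff_map_eq_one]
    intro x hx
    obtain ⟨m, rfl⟩ := QuotientGroup.mk_surjective x
    rw [QuotientGroup.eq_one_iff, ← hker]
    exact hx
  let e₀ : Fin Z.nJ → P.S := fun J => ⟨⟨Z.n J, Z.n_mem J⟩, ⟨J, rfl⟩⟩
  have he₀ : Function.Bijective e₀ := by
    constructor
    · intro i j h
      have h' : Z.n i = Z.n j := congrArg (fun s : P.S => (s.1 : GL D.Idx F)) h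
      exact Z.w_injective (G.rootAct_unique (Z.n_act i) (h' ▸ Z.n_act j))
    · rintro ⟨g, J, hJ⟩
      exact ⟨J, Subtype.ext (Subtype.ext hJ.symm)⟩
  let e := Equiv.ofBijective e₀ he₀
  have hrefl : ∀ J, π (CfsgLib.BN.refl P (e₀ J)) = Z.w J := fun J => Z.wperm_eq (Z.n_act J)
  have hlift : (CfsgLib.BN.cox P).IsLiftable (fun s => f (e.symm s)) := by
    intro s t
    obtain ⟨i, rfl⟩ := e.surjective s
    obtain ⟨j, rfl⟩ := e.surjective t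
    dsimp only
    rw [Equiv.symm_apply_apply, Equiv.symm_apply_apply,
      show CfsgLib.BN.cox P (e i) (e j) = M i j by
        show orderOf (CfsgLib.BN.refl P (e₀ i) * CfsgLib.BN.refl P (e₀ j)) = M i j
        rw [← orderOf_injective π hπ, map_mul, hrefl, hrefl, hM]]
    exact hf i j
  let φ : CfsgLib.BN.Weyl P →* Q := (CfsgLib.BN.coxeterSystem P).lift ⟨_, hlift⟩
  have hφ : ∀ J, φ (CfsgLib.BN.refl P (e₀ J)) = f J := fun J => by
    have := (CfsgLib.BN.coxeterSystem P).lift_apply_simple hlift (e J)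
    rw [CfsgLib.BN.coxeterSystem_simple, Equiv.symm_apply_apply] at this
    exact this
  have hprod : π ((w.map fun J => CfsgLib.BN.refl P (e₀ J)).prod) = Z.pwT w := by
    rw [map_list_prod, List.map_map]
    clear hw
    induction w with
    | nil => simp [Z.pwT_nil]
    | cons J w ih => rw [Z.pwT_cons, List.map_cons, List.prod_cons, ih, Function.comp_apply, hrefl]
  have h1 : Z.pwT w = 1 := by
    refine G.rootAct_unique (Z.nT_act w) (Z.rootAct_eq_one (Z.H0_diag ?_))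
    rw [← Z.coe_nM]
    exact hw
  have h2 : (w.map fun J => CfsgLib.BN.refl P (e₀ J)).prod = 1 :=
    hπ (by rw [hprod, h1, map_one])
  have h3 := congrArg φ h2
  rw [map_one, map_list_prod, List.map_map] at h3
  rw [← h3]
  exact congrArg List.prod (List.map_congr_left fun J _ => (hφ J).symm)

end CfsgLib.Chev.Tab.Good.Twisted
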