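import Cfsg.Agent.TwMult.F4Layers
import Cfsg.Agent.TwMult.TwistedData

/-!
The derived group of the preimage of the unipotent subgroup of `²F₄(q)` meets the kernel trivially.
-/

set_option autoImplicit false
set_option maxRecDepth 100000
set_option linter.style.haveILetI false
set_option linter.unusedSectionVars false

namespace CfsgLib.TwMult.CExt

open scoped commutatorElement

universe u v

variable {Γ : Type u} {G : Type v} [Group Γ] [Group G] {σ : Γ →* G} (E : CExt σ)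
include E

/-- An element centralises the lift of a commutator `⁅a, b⁆` when it centralises that of `a` and
`⁅x, b⁆` centralises those of `a` and `⁅a, b⁆`. -/
theorem cm_comm_eq_one {x a b : G} (hxa : E.cm x a = 1) (hd : E.cm a ⁅x, b⁆ = 1)
    (hdc : E.cm ⁅x, b⁆ ⁅a, b⁆ = 1) : E.cm x ⁅a, b⁆ = 1 := by
  set X := E.l x
  set A := E.l a
  set B := E.l b
  have h1 : Commute X A := E.comm_of_cm (by rw [E.map_l, E.map_l]; exact hxa)
  have h2 : Commute A ⁅X, B⁆ := E.comm_of_cm (by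
    rw [map_commutatorElement, E.map_l, E.map_l, E.map_l]; exact hd)
  have h3 : Commute ⁅X, B⁆ ⁅A, B⁆ := E.comm_of_cm (by
    rw [map_commutatorElement, map_commutatorElement, E.map_l, E.map_l, E.map_l]; exact hdc)
  have h4 : X * ⁅A, B⁆ * X⁻¹ = ⁅A, B⁆ := by
    rw [conjugate_commutatorElement, h1.eq, mul_inv_cancel_right,
      show X * B * X⁻¹ = ⁅X, B⁆ * B by rw [commutatorElement_def]; group,
      show ⁅A, ⁅X, B⁆ * B⁆ = ⁅A, ⁅X, B⁆⁆ * (⁅X, B⁆ * ⁅A, B⁆ * ⁅X, B⁆⁻¹) by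
        simp only [commutatorElement_def]; group,
      commutatorElement_eq_one_iff_commute.2 h2, one_mul, h3.eq, mul_inv_cancel_right]
  rw [← E.cm_eq (E.map_l x)
    (show σ ⁅A, B⁆ = ⁅a, b⁆ by rw [map_commutatorElement, E.map_l, E.map_l]),
    commutatorElement_def ]
  rw [h4, mul_inv_cancel]

end CfsgLib.TwMult.CExt

namespace CfsgLib.Chev.F4Tw

open Cfsg.Lie Tab CfsgLib.Chev.CharTwo CfsgLib.TwMult
open scoped MatrixGroups commutatorElement

attribute [local irreducible] CharTwo.norm keys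

universe u v

variable {K : Type u} [Field K] [Fintype K] {m : ℕ}

namespace Ctx

variable (C : Ctx K m)
include C

theorem coe_gP_comm (v w : Fin 12 → K) : ((⁅C.gP v, C.gP w⁆ : C.Z.G1) : GL chevF4.Idx K) =
    C.PR v * C.PR w * (C.PR v)⁻¹ * (C.PR w)⁻¹ := by
  rw [commutatorElement_def, Subgroup.coe_mul, Subgroup.coe_mul, Subgroup.coe_mul,
    Subgroup.coe_inv, Subgroup.coe_inv, C.coe_gP, C.coe_gP]

theorem xe_zero (k : Fin 12) : C.xe k 0 = 1 := by rw [xe, sg, Pi.single_zero, C.gP_zero]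

theorem mval_var (v w : Fin 12 → K) (a : Fin 12) :
    mval (C.venv v ++ C.venv w) (unit1 (2 * a.val)) = v a ∧
      mval (C.venv v ++ C.venv w) (unit1 (24 + 2 * a.val)) = w a :=
  C.venv_unit v w a

theorem comm_xe {a b : Fin 12} (h : (a.val, b.val) ∈ commPairs) (t u : K) :
    Commute (C.xe a t) (C.xe b u) := by
  have e := C.wv_comm (C.supp_sg a t) (C.supp_sg b u)
  obtain ⟨z, hz, hzi⟩ := C.coords_of_keys (kComm _ h) (env := C.venv (C.sg a t) ++ C.venv (C.sg b u))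
    (e ▸ mul_mem (mul_mem (mul_mem (C.PR_mem _) (C.PR_mem _)) (inv_mem (C.PR_mem _)))
      (inv_mem (C.PR_mem _)))
  have hz0 : z = 0 := funext fun i => by rw [hzi i, C.parOf_kmono]; rfl
  rw [hz0, C.PR_zero] at hz
  refine commutatorElement_eq_one_iff_commute.1 (Subtype.ext ?_)
  rw [xe, xe, C.coe_gP_comm, ← e, hz]
  rfl

theorem xe_add {k : Fin 12} (hk : k.val ∈ [0, 2, 3, 5, 6, 8, 9]) (a b : K) :
    C.xe k (a + b) = C.xe k a * C.xe k b := by
  have e := C.wv_two (C.supp_sg k a) (C.supp_sg k b)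
  obtain ⟨z, hz, hzi⟩ := C.coords_of_keys (kAddOne _ hk)
    (env := C.venv (C.sg k a) ++ C.venv (C.sg k b)) (e ▸ mul_mem (C.PR_mem _) (C.PR_mem _))
  have hz0 : z = C.sg k (a + b) := funext fun i => by
    rw [hzi i, C.parOf_kmono]
    by_cases h : i = k
    · subst h
      rw [if_pos rfl]
      simp only [List.map_cons, List.map_nil, List.sum_cons, List.sum_nil, add_zero,
        (C.mval_var _ _ i).1, (C.mval_var _ _ i).2, sg, Pi.single_eq_same]
      exact add_comm _ _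
    · rw [if_neg fun e => h (Fin.ext e)]
      simp [sg, h]
  rw [hz0] at hz
  refine Subtype.ext ?_
  rw [Subgroup.coe_mul, xe, xe, xe, C.coe_gP, C.coe_gP, C.coe_gP, ← e, hz]

/-- The long root elements as commutators. -/
theorem comm_y {p x y : Fin 12} (h : (p.val, x.val, y.val) ∈ [(0, 4, 2), (3, 7, 5), (6, 10, 8)])
    (s a : K) : ⁅C.xe p s, C.xe x a⁆ = C.xe y (s ^ 2 ^ m * a ^ 2 ^ m) := by
  have e := C.wv_comm (C.supp_sg p s) (C.supp_sg x a)
  obtain ⟨z, hz, hzi⟩ := C.coords_of_keys (kY _ h)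
    (env := C.venv (C.sg p s) ++ C.venv (C.sg x a))
    (e ▸ mul_mem (mul_mem (mul_mem (C.PR_mem _) (C.PR_mem _)) (inv_mem (C.PR_mem _)))
      (inv_mem (C.PR_mem _)))
  have hz0 : z = C.sg y (s ^ 2 ^ m * a ^ 2 ^ m) := funext fun i => by
    rw [hzi i, C.parOf_kmono]
    by_cases hi : i = y
    · subst hi
      rw [if_pos rfl]
      simp only [List.map_cons, List.map_nil, List.sum_cons, List.sum_nil, add_zero, mval_comb,
        pow_one, mval_unit]
      simp only [List.mem_cons, Prod.mk.injEq, List.not_mem_nil, or_false] at h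
      rcases h with ⟨h1, h2, -⟩ | ⟨h1, h2, -⟩ | ⟨h1, h2, -⟩
      · obtain rfl : p = 0 := Fin.ext h1
        obtain rfl : x = 4 := Fin.ext h2
        simp [venv, sg]
      · obtain rfl : p = 3 := Fin.ext h1
        obtain rfl : x = 7 := Fin.ext h2
        simp [venv, sg]
      · obtain rfl : p = 6 := Fin.ext h1
        obtain rfl : x = 10 := Fin.ext h2
        simp [venv, sg]
    · rw [if_neg fun e => hi (Fin.ext e)]
      simp [sg, hi]
  rw [hz0] at hz
  refine Subtype.ext ?_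
  rw [xe, xe, xe, C.coe_gP_comm, C.coe_gP, ← e, hz]

theorem comm_d {x x' d : Fin 12} (h : (x.val, x'.val, d.val) ∈ [(1, 4, 3), (4, 7, 6), (7, 10, 9)])
    (t a : K) : ⁅C.xe x t, C.xe x' a⁆ = C.xe d (t * a) := by
  have e := C.wv_comm (C.supp_sg x t) (C.supp_sg x' a)
  obtain ⟨z, hz, hzi⟩ := C.coords_of_keys (kD _ h)
    (env := C.venv (C.sg x t) ++ C.venv (C.sg x' a))
    (e ▸ mul_mem (mul_mem (mul_mem (C.PR_mem _) (C.PR_mem _)) (inv_mem (C.PR_mem _)))
      (inv_mem (C.PR_mem _)))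
  have hz0 : z = C.sg d (t * a) := funext fun i => by
    rw [hzi i, C.parOf_kmono]
    by_cases hi : i = d
    · subst hi
      rw [if_pos rfl]
      simp only [List.map_cons, List.map_nil, List.sum_cons, List.sum_nil, add_zero, mval_comb,
        pow_one, (C.mval_var _ _ x).1, (C.mval_var _ _ x').2]
      simp [sg]
    · rw [if_neg fun e => hi (Fin.ext e)]
      simp [sg, hi]
  rw [hz0] at hz
  refine Subtype.ext ?_
  rw [xe, xe, xe, C.coe_gP_comm, C.coe_gP, ← e, hz]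

variable {Γ : Type v} [Group Γ] {σ : Γ →* C.Z.G1} (X : CExt σ) (hm : 1 ≤ m)
include X hm

/-- Coordinates separated by the torus which commute have commuting lifts. -/
theorem cm_sep {a b : Fin 12} (hc : (a.val, b.val) ∈ commPairs)
    (hb : b.val ∈ [0, 2, 3, 5, 6, 8, 9])
    (hs : (a.val, b.val) ∉ special ∧ (b.val, a.val) ∉ special) (hne : a ≠ b) (t u : K) :
    X.cm (C.xe a t) (C.xe b u) = 1 := by
  obtain ⟨p, hp1, hp2⟩ := C.exists_sep hm a b hne hs
  refine X.cm_family (h := C.tH p) (y := C.xe b) ?_ (C.xe_add hb) (fun c => C.comm_xe hc t c)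
    (μ := (C.wt b.val p : K)) (fun e => hp2 (Units.ext (e.trans Units.val_one.symm)))
    (fun c => C.tH_xe p b c) u
  have h := C.tH_xe p a t
  rw [hp1, Units.val_one, one_mul] at h
  exact mul_inv_eq_iff_eq_mul.1 h

theorem cm_quad {p x x' y d : Fin 12}
    (hY : (p.val, x'.val, y.val) ∈ [(0, 4, 2), (3, 7, 5), (6, 10, 8)])
    (hD : (x.val, x'.val, d.val) ∈ [(1, 4, 3), (4, 7, 6), (7, 10, 9)])
    (hxp : (x.val, p.val) ∈ commPairs) (hpd : (p.val, d.val) ∈ commPairs)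
    (hdy : (d.val, y.val) ∈ commPairs) (t u : K) : X.cm (C.xe x t) (C.xe y u) = 1 := by
  have hy : C.xe y u = ⁅C.xe p (u ^ (2 * 2 ^ m)), C.xe x' 1⁆ := by
    rw [C.comm_y hY, one_pow, mul_one, C.pow_qq]
  have hmem : p.val ∈ [0, 2, 3, 5, 6, 8, 9] ∧ d.val ∈ [0, 2, 3, 5, 6, 8, 9] ∧
      y.val ∈ [0, 2, 3, 5, 6, 8, 9] := by
    simp only [List.mem_cons, Prod.mk.injEq, List.not_mem_nil, or_false] at hY hD ⊢
    omega
  have hsp : ∀ q ∈ commPairs, q ∉ special ∧ (q.2, q.1) ∉ special ∧ q.1 ≠ q.2 := by decide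
  rw [hy]
  refine X.cm_comm_eq_one ?_ ?_ ?_
  · exact C.cm_sep X hm hxp hmem.1 ⟨(hsp _ hxp).1, (hsp _ hxp).2.1⟩
      (fun e => (hsp _ hxp).2.2 (congrArg Fin.val e)) _ _
  · rw [C.comm_d hD]
    exact C.cm_sep X hm hpd hmem.2.1 ⟨(hsp _ hpd).1, (hsp _ hpd).2.1⟩
      (fun e => (hsp _ hpd).2.2 (congrArg Fin.val e)) _ _
  · rw [C.comm_d hD, C.comm_y hY]
    exact C.cm_sep X hm hdy hmem.2.2 ⟨(hsp _ hdy).1, (hsp _ hdy).2.1⟩
      (fun e => (hsp _ hdy).2.2 (congrArg Fin.val e)) _ _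

theorem cm_y2 (a b : K) : X.cm (C.xe 2 a) (C.xe 2 b) = 1 := by
  rw [show C.xe 2 b = ⁅C.xe 0 (b ^ (2 * 2 ^ m)), C.xe 4 1⁆ by
    rw [C.comm_y (y := 2) (by simp), one_pow, mul_one, C.pow_qq]]
  have hd : ⁅C.xe 2 a, C.xe 4 1⁆ = 1 :=
    commutatorElement_eq_one_iff_commute.2 (C.comm_xe (by decide) _ _)
  refine X.cm_comm_eq_one (C.cm_sep X hm (by decide) (by decide) (by decide) (by decide) _ _) ?_ ?_
  · rw [hd, X.cm_one_right]
  · rw [hd, X.cm_one_left]

omit X hm in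
/-- The reflection of the pair orbit maps the last ray to the second. -/
theorem conj_ray7 {v : Fin 12 → K} (hv : ∀ i : Fin 12, i.val < 10 → v i = 0) :
    ∃ a b : K, C.Z.nM C.j0 * C.gP v * (C.Z.nM C.j0)⁻¹ = C.xe 1 a * C.xe 2 b ∧
      (v 10 = 0 → a = 0) := by
  obtain ⟨c, hc⟩ := C.Z.n_act C.j0
  have hx : ∀ p ∈ [(27, 34), (25, 26), (28, 36), (30, 42)], ∃ k : K, ∀ y : K,
      C.Z.n C.j0 * good_F4.full.x p.1 y * (C.Z.n C.j0)⁻¹ = good_F4.full.x p.2 (k * y) := by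
    intro p hp
    obtain ⟨hw, hlt⟩ := word_ray7 p hp
    refine ⟨(c ⟨p.1, hlt⟩ : K), fun y => ?_⟩
    rw [(hc ⟨p.1, hlt⟩).2.2.2 y]
    congr 1
  obtain ⟨c1, h1⟩ := hx (27, 34) (by simp)
  obtain ⟨c2, h2⟩ := hx (25, 26) (by simp)
  obtain ⟨c3, h3⟩ := hx (28, 36) (by simp)
  obtain ⟨c4, h4⟩ := hx (30, 42) (by simp)
  let f : ℕ → K := fun r => match r with
    | 34 => c1 * v 10 ^ 2 ^ m
    | 26 => c2 * v 10
    | 36 => c3 * (v 10 ^ (2 ^ m + 1) + v 11)
    | 42 => c4 * v 11 ^ (2 * 2 ^ m)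
    | _ => 0
  have h0 : ∀ i : Fin 10, v ⟨i.val, by omega⟩ = 0 := fun i => hv _ i.isLt
  have hPR : C.PR v = C.U1 27 25 28 30 (v 10) (v 11) := by
    simp [PR, U0, U1, P4, good_F4.full.x_zero, hv 0 (by decide), hv 1 (by decide),
      hv 2 (by decide), hv 3 (by decide), hv 4 (by decide), hv 5 (by decide), hv 6 (by decide),
      hv 7 (by decide), hv 8 (by decide), hv 9 (by decide)]
  have e : C.Z.n C.j0 * C.PR v * (C.Z.n C.j0)⁻¹ = C.NF f := by
    rw [hPR, show C.NF f = good_F4.full.x 34 (f 34) * good_F4.full.x 26 (f 26) *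
      (good_F4.full.x 36 (f 36) * good_F4.full.x 42 (f 42)) by
      simp [NF, rayOrd, f, good_F4.full.x_zero, mul_assoc]]
    simp only [f]
    rw [← h1, ← h2, ← h3, ← h4, U1, P4]
    group
  have hU : C.Z.n C.j0 * C.PR v * (C.Z.n C.j0)⁻¹ ∈ C.Z.U1 := by
    refine Subgroup.mem_inf.mpr ⟨C.Z.fix_conj (C.Z.n_fix _) (C.PR_fixed v), ?_⟩
    rw [e, good_F4.posUnipotent_eq]
    exact C.NF_mem f
  have e2 := C.eq_PR_of_NF hU e
  refine ⟨C.par f 1, C.par f 2, ?_, fun h => by simp [par, f, h]⟩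
  refine Subtype.ext ?_
  rw [Subgroup.coe_mul, Subgroup.coe_mul, Subgroup.coe_mul, Subgroup.coe_inv, xe, xe, C.coe_gP,
    C.coe_gP, C.coe_gP]
  show C.Z.n C.j0 * C.PR v * (C.Z.n C.j0)⁻¹ = _
  rw [e2]
  simp [PR, par, f, sg, U0, U1, P4, good_F4.full.x_zero, mul_assoc, pow_succ]
  rw [← mul_assoc (good_F4.full.x 36 _), good_F4.full.x_add]

theorem cm_quad7 (t u : K) : X.cm (C.xe 10 t) (C.xe 11 u) = 1 := by
  have hsg : ∀ (k : Fin 12) (s : K), 10 ≤ k.val → ∀ i : Fin 12, i.val < 10 → C.sg k s i = 0 :=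
    fun k s hk i hi => Pi.single_eq_of_ne (fun e => by rw [e] at hi; omega) _
  obtain ⟨a, b, e1, -⟩ := C.conj_ray7 (hsg 10 t (by decide))
  obtain ⟨a', b', e2, ha'⟩ := C.conj_ray7 (hsg 11 u (by decide))
  rw [ha' (Pi.single_eq_of_ne (by decide) _), C.xe_zero, one_mul] at e2
  have h1 : X.cm (C.xe 1 a) (C.xe 2 b') = 1 :=
    C.cm_quad X hm (p := 0) (x' := 4) (d := 3) (by simp) (by simp) (by decide) (by decide)
      (by decide) a b'
  have h2 : X.cm (C.xe 1 a * C.xe 2 b) (C.xe 2 b') = 1 := by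
    have h3 := C.cm_y2 X hm b b'
    rw [X.cm_mul_left' (by rw [h3]; exact Commute.one_right _), h3, h1, one_mul]
  have h := X.cm_conj (X.l (C.Z.nM C.j0)) (C.xe 10 t) (C.xe 11 u)
  rw [X.map_l, xe, xe, e1, e2, h2] at h
  exact conj_eq_one_iff.1 h

theorem hcase : ∀ k i, k < i → i < (C.layers hm).n → ∀ t,
    (∃ h ∈ (C.layers hm).T, (C.layers hm).w k h = 1 ∧ (C.layers hm).w i h ≠ 1) ∨
      ∀ u, X.cm ((C.layers hm).r k t) ((C.layers hm).r i u) = 1 := by
  intro k i hki hi t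
  have hi' : i < 12 := hi
  by_cases hs : (k, i) ∈ special
  · refine Or.inr fun u => ?_
    show X.cm (C.rep k t) (C.rep i u) = 1
    rw [rep, rep, dif_pos (show k < 12 by omega), dif_pos hi']
    simp only [special, List.mem_cons, Prod.mk.injEq, List.not_mem_nil, or_false] at hs
    rcases hs with ⟨rfl, rfl⟩ | ⟨rfl, rfl⟩ | ⟨rfl, rfl⟩ | ⟨rfl, rfl⟩
    · exact C.cm_quad X hm (p := 0) (x' := 4) (d := 3) (by simp) (by simp) (by simp [commPairs])
        (by simp [commPairs]) (by simp [commPairs]) t u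
    · exact C.cm_quad X hm (p := 3) (x' := 7) (d := 6) (by simp) (by simp) (by simp [commPairs])
        (by simp [commPairs]) (by simp [commPairs]) t u
    · exact C.cm_quad X hm (p := 6) (x' := 10) (d := 9) (by simp) (by simp) (by simp [commPairs])
        (by simp [commPairs]) (by simp [commPairs]) t u
    · exact C.cm_quad7 X hm t u
  · refine Or.inl ?_
    have hs' : (i, k) ∉ special := fun h => by
      simp only [special, List.mem_cons, Prod.mk.injEq, List.not_mem_nil, or_false] at h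
      omega
    obtain ⟨p, hp1, hp2⟩ := C.exists_sep hm ⟨k, by omega⟩ ⟨i, hi'⟩
      (fun e => absurd (congrArg Fin.val e) hki.ne) ⟨hs, hs'⟩
    refine ⟨C.tH p, ⟨p, rfl⟩, ?_, ?_⟩
    · rw [C.layers_w hm ⟨k, by omega⟩, hp1, Units.val_one]
    · rw [C.layers_w hm ⟨i, hi'⟩]
      exact fun e => hp2 (Units.ext (e.trans Units.val_one.symm))

/-- The derived group of the preimage of the unipotent subgroup meets the kernel trivially. -/
theorem derived_inf_ker : ∀ z ∈ ⁅(C.Z.U1.subgroupOf C.Z.G1).comap σ,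
    (C.Z.U1.subgroupOf C.Z.G1).comap σ⁆, z ∈ σ.ker → z = 1 := by
  have h := (C.layers hm).derived_inf_ker X (fun _ => ?_) (fun h => absurd C.two_eq h)
    (C.hcase X hm)
  · rwa [show (C.layers hm).Q 0 = C.Z.U1.subgroupOf C.Z.G1 from C.Qs_zero] at h
  · rw [C.hK]
    calc 4 < 2 ^ 3 := by norm_num
      _ ≤ 2 ^ (2 * m + 1) := Nat.pow_le_pow_right two_pos (by omega)

end Ctx

end CfsgLib.Chev.F4Tw
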