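import Cfsg.Agent.TwMult.TwistedData
import Cfsg.Agent.Chev.TwistedA1Aut

/-!
The homomorphism from `SL₂` attached to an orbit of orthogonal roots.
-/

set_option autoImplicit false
set_option linter.unusedSectionVars false
set_option linter.unusedSimpArgs false

namespace CfsgLib.Chev.Tab.Good.A1Data

open Cfsg.Lie Matrix
open scoped MatrixGroups

universe u w

variable {D : ChevalleyDatum} {T : Tab D} {G : T.Good} {F : Type u} [Field F] [Finite F]
  {Φ : G.Graph F} {orbs : List (List ℕ)}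
  (A : G.A1Data Φ orbs) {htor : ∀ c, T.hT F (Φ.σc c) = T.hT F c → T.hT F (c * c) = 1 → T.hT F c ∈ A.torus}
include A

local notation "o" => G.oJ orbs

/-- The fixed tuples of an orbit are given by one parameter in a field. -/
structure Param (A : G.A1Data Φ orbs) (J : Fin orbs.length) {k : Type w} [Field k]
    (ι : Fin D.rank → (k →+* F)) : Prop where
  tup : ∀ a, A.Tup J fun i => ι i a
  cov : ∀ t, A.Tup J t → ∃ a, ∀ i ∈ o J, t i = ι i a

variable {k : Type w} [Field k] {J : Fin orbs.length} {ι : Fin D.rank → (k →+* F)}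

theorem rankOne_hom_mem (i : Fin D.rank) (g : SL(2, F)) : (G.rankOne F i).hom g ∈ G.K1 F i := by
  have hX : ∀ t, (G.rankOne F i).hom (RankOne.eX t) ∈ G.K1 F i := fun t => by
    show (G.rankOne F i).phi _ ∈ _
    rw [RankOne.phi_eX]; exact G.x_mem_K1 i t
  have hH : ∀ t, (G.rankOne F i).hom (RankOne.eH t) ∈ G.K1 F i := fun t => by
    show (G.rankOne F i).phi _ ∈ _
    rw [RankOne.phi_eH]; exact G.hr_mem_K1 i (t : F)
  have hN : (G.rankOne F i).hom RankOne.eN ∈ G.K1 F i := by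
    show (G.rankOne F i).phi _ ∈ _
    rw [RankOne.phi_eN]; exact G.ns_mem_K1 i
  rcases RankOne.eq_product g with ⟨a, b, rfl⟩ | ⟨p, a, q, rfl⟩
  · rw [map_mul]; exact mul_mem (hH a) (hX b)
  · rw [map_mul, map_mul, map_mul]; exact mul_mem (mul_mem (mul_mem (hX p) (hH a)) hN) (hX q)

/-- The map on `SL₂` into the general linear group. -/
noncomputable def orbHom (A : G.A1Data Φ orbs) (J : Fin orbs.length)
    (ι : Fin D.rank → (k →+* F)) : SL(2, k) →* GL D.Idx F :=
  MonoidHom.mk' (fun g => ((o J).map fun i : Fin D.rank =>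
    (G.rankOne F i).hom (SpecialLinearGroup.map (ι i) g)).prod) fun g h => by
      rw [← A.prod_mul J (fun i => A.rankOne_hom_mem i _) (fun i => A.rankOne_hom_mem i _)]
      exact congrArg List.prod (List.map_congr_left fun i _ => by rw [map_mul, map_mul])

theorem orbHom_eX (t : k) : A.orbHom J ι (RankOne.eX t) = G.PX (o J) fun i => ι i t := by
  refine congrArg List.prod (List.map_congr_left fun i _ => ?_)
  rw [show SpecialLinearGroup.map (ι i) (RankOne.eX t) = RankOne.eX (ι i t) by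
    ext a b; fin_cases a <;> fin_cases b <;> simp [RankOne.coe_eX]]
  exact RankOne.phi_eX _ _

theorem orbHom_eN : A.orbHom J ι RankOne.eN = G.full.nw F (o J) := by
  rw [G.nw_eq]
  refine congrArg List.prod (List.map_congr_left fun i _ => ?_)
  rw [show SpecialLinearGroup.map (ι i) (RankOne.eN (F := k)) = RankOne.eN by
    ext a b; fin_cases a <;> fin_cases b <;> simp [RankOne.coe_eN]]
  exact RankOne.phi_eN _

theorem orbHom_eH (a : kˣ) :
    A.orbHom J ι (RankOne.eH a) = T.hT F (A.res J fun i => Units.map (ι i).toMonoidHom a) := by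
  rw [A.hT_res]
  refine congrArg List.prod (List.map_congr_left fun i _ => ?_)
  rw [show SpecialLinearGroup.map (ι i) (RankOne.eH a) =
      RankOne.eH (Units.map (ι i).toMonoidHom a) by
    ext b c; fin_cases b <;> fin_cases c <;> simp [RankOne.coe_eH]]
  exact RankOne.phi_eH _ _

variable (P : A.Param J ι)
include P

theorem res_units_mem (a : kˣ) : A.res J (fun i => Units.map (ι i).toMonoidHom a) ∈ A.Cσ :=
  A.res_mem fun i hi => P.tup (a : k) i hi

theorem orbHom_mem (g : SL(2, k)) : A.orbHom J ι g ∈ A.grp := by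
  have hX : ∀ t, A.orbHom J ι (RankOne.eX t) ∈ A.grp := fun t => by
    rw [A.orbHom_eX]; exact A.PX_mem (P.tup t)
  have hH : ∀ a, A.orbHom J ι (RankOne.eH a) ∈ A.grp := fun a => by
    rw [A.orbHom_eH]; exact A.torus_le (A.hT_mem_torus (A.res_units_mem P a))
  have hN : A.orbHom J ι RankOne.eN ∈ A.grp := by rw [A.orbHom_eN]; exact A.n_mem J
  rcases RankOne.eq_product g with ⟨a, b, rfl⟩ | ⟨p, a, q, rfl⟩
  · rw [map_mul]; exact mul_mem (hH a) (hX b)
  · rw [map_mul, map_mul, map_mul]; exact mul_mem (mul_mem (mul_mem (hX p) (hH a)) hN) (hX q)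

/-- The homomorphism into the twisted group. -/
noncomputable def rootHom : SL(2, k) →* (A.twisted htor).G1 :=
  (A.orbHom J ι).codRestrict (A.twisted htor).G1 (A.orbHom_mem P)

theorem rootHom_eX_mem (t : k) :
    A.rootHom (htor := htor) P (RankOne.eX t) ∈ (A.twisted htor).XG J := by
  show A.orbHom J ι (RankOne.eX t) ∈ (A.twisted htor).XJ J
  rw [A.orbHom_eX]
  exact A.mem_XJ.mpr ⟨_, P.tup t, rfl⟩

theorem rootHom_eN : A.rootHom (htor := htor) P RankOne.eN = (A.twisted htor).nM J :=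
  Subtype.ext A.orbHom_eN

theorem exists_eX {x : (A.twisted htor).G1} (hx : x ∈ (A.twisted htor).XG J) :
    ∃ t, x = A.rootHom P (RankOne.eX t) := by
  obtain ⟨t, ht, e⟩ := A.mem_XJ.mp (show (x : GL D.Idx F) ∈
    Φ.Fix ⊓ G.US F (flipSet (G.full.pw (o J))) from hx)
  obtain ⟨a, ha⟩ := P.cov t ht
  refine ⟨a, Subtype.ext (e.trans ?_)⟩
  show _ = A.orbHom J ι (RankOne.eX a)
  rw [A.orbHom_eX]
  exact A.PX_congr ha

omit A P in
theorem eH_eN (a : kˣ) :
    RankOne.eX (a : k) * (RankOne.eN * RankOne.eX ((a⁻¹ : kˣ) : k) * RankOne.eN⁻¹) *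
      RankOne.eX (a : k) = RankOne.eH a * RankOne.eN := by
  ext b c
  fin_cases b <;> fin_cases c <;>
    simp [RankOne.coe_eX, RankOne.coe_eN, RankOne.coe_eH, SpecialLinearGroup.coe_mul,
      SpecialLinearGroup.coe_inv, Matrix.adjugate_fin_two]

theorem nM_mem : (A.twisted htor).nM J ∈ (A.twisted htor).LG J := by
  have h := congrArg (A.rootHom (htor := htor) P) (eH_eN (k := k) (1 : kˣ))
  rw [show RankOne.eH (1 : kˣ) = (1 : SL(2, k)) by
    ext b c; fin_cases b <;> fin_cases c <;> simp [RankOne.coe_eH], one_mul] at h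
  simp only [map_mul, map_inv, A.rootHom_eN P] at h
  rw [← h]
  exact mul_mem (mul_mem (Subgroup.subset_closure (Or.inl (A.rootHom_eX_mem P _)))
    (Subgroup.subset_closure (Or.inr ⟨_, A.rootHom_eX_mem P _, rfl⟩)))
    (Subgroup.subset_closure (Or.inl (A.rootHom_eX_mem P _)))

theorem rootHom_eH_mem (a : kˣ) :
    A.rootHom (htor := htor) P (RankOne.eH a) ∈ (A.twisted htor).H0.subgroupOf (A.twisted htor).G1 := by
  show A.orbHom J ι (RankOne.eH a) ∈ A.torus
  rw [A.orbHom_eH]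
  exact A.hT_mem_torus (A.res_units_mem P a)

theorem rootHom_range : (A.rootHom (htor := htor) P).range = (A.twisted htor).LG J := by
  refine le_antisymm ?_ ((Subgroup.closure_le _).2 ?_)
  · have hX : ∀ t, A.rootHom (htor := htor) P (RankOne.eX t) ∈ (A.twisted htor).LG J := fun t =>
      Subgroup.subset_closure (Or.inl (A.rootHom_eX_mem P t))
    have hN : A.rootHom (htor := htor) P RankOne.eN ∈ (A.twisted htor).LG J := by
      rw [A.rootHom_eN P]; exact A.nM_mem P
    have hH : ∀ a, A.rootHom (htor := htor) P (RankOne.eH a) ∈ (A.twisted htor).LG J := fun a => by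
      rw [show RankOne.eH a = RankOne.eH a * RankOne.eN * RankOne.eN⁻¹ by group, ← eH_eN]
      simp only [map_mul, map_inv]
      exact mul_mem (mul_mem (mul_mem (hX _) (mul_mem (mul_mem hN (hX _)) (inv_mem hN))) (hX _))
        (inv_mem hN)
    rintro _ ⟨g, rfl⟩
    rcases RankOne.eq_product g with ⟨a, b, rfl⟩ | ⟨p, a, q, rfl⟩
    · rw [map_mul]; exact mul_mem (hH a) (hX b)
    · rw [map_mul, map_mul, map_mul]; exact mul_mem (mul_mem (mul_mem (hX p) (hH a)) hN) (hX q)
  · rintro y (hy | ⟨z, hz, rfl⟩)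
    · obtain ⟨t, rfl⟩ := A.exists_eX P hy
      exact ⟨_, rfl⟩
    · obtain ⟨t, rfl⟩ := A.exists_eX P hz
      refine ⟨RankOne.eN * RankOne.eX t * RankOne.eN⁻¹, ?_⟩
      rw [map_mul, map_mul, map_inv, A.rootHom_eN P]

/-- The rank one relation. -/
theorem rank_one_rel {x : (A.twisted htor).G1} (hx : x ∈ (A.twisted htor).XG J) (hne : x ≠ 1) :
    ∃ a ∈ (A.twisted htor).XG J,
      ∃ h ∈ (A.twisted htor).H0.subgroupOf (A.twisted htor).G1 ⊓ (A.twisted htor).LG J,
        ∃ b ∈ (A.twisted htor).XG J, (A.twisted htor).nM J * x * ((A.twisted htor).nM J)⁻¹ =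
          a * h * (A.twisted htor).nM J * b := by
  obtain ⟨t, rfl⟩ := A.exists_eX P hx
  have ht : t ≠ 0 := fun h => hne (by
    rw [h, show RankOne.eX (0 : k) = 1 by
      ext b c; fin_cases b <;> fin_cases c <;> simp [RankOne.coe_eX], map_one])
  have e : RankOne.eN * RankOne.eX t * RankOne.eN⁻¹ =
      RankOne.eX (-t⁻¹) * RankOne.eH (Units.mk0 t⁻¹ (inv_ne_zero ht)) * RankOne.eN *
        RankOne.eX (-t⁻¹) := by
    ext b c
    fin_cases b <;> fin_cases c <;>
      simp [RankOne.coe_eX, RankOne.coe_eN, RankOne.coe_eH, SpecialLinearGroup.coe_mul,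
        SpecialLinearGroup.coe_inv, Matrix.adjugate_fin_two, ht]
  refine ⟨_, A.rootHom_eX_mem P (-t⁻¹), _, ⟨A.rootHom_eH_mem P (Units.mk0 t⁻¹ (inv_ne_zero ht)),
    (A.rootHom_range P).le ⟨_, rfl⟩⟩, _, A.rootHom_eX_mem P (-t⁻¹), ?_⟩
  rw [← A.rootHom_eN P, ← map_inv, ← map_mul, ← map_mul, ← map_mul, ← map_mul, ← map_mul, e]

/-- The torus of a rank one subgroup. -/
theorem exists_eH {h : (A.twisted htor).G1}
    (hh : h ∈ (A.twisted htor).H0.subgroupOf (A.twisted htor).G1 ⊓ (A.twisted htor).LG J) :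
    ∃ a, h = A.rootHom P (RankOne.eH a) := by
  obtain ⟨hH, hL⟩ := hh
  obtain ⟨g, rfl⟩ := (A.rootHom_range P).ge hL
  set Z := A.twisted htor
  have hd : A.orbHom J ι g ∈ D.diagonalSubgroup F := Z.H0_diag hH
  have hU : ∀ t, A.orbHom J ι (RankOne.eX t) ∈ Z.U1 := fun t =>
    Z.XJ_le_U1 J (A.rootHom_eX_mem P t)
  rcases RankOne.eq_product g with ⟨a, b, rfl⟩ | ⟨p, a, q, rfl⟩
  · refine ⟨a, ?_⟩
    rw [map_mul] at hd
    have h1 : A.orbHom J ι (RankOne.eX b) ∈ D.posUnipotent F ⊓ D.diagonalSubgroup F :=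
      ⟨(hU b).2, ((D.diagonalSubgroup F).mul_mem_cancel_left
        (Z.H0_diag (A.rootHom_eH_mem (htor := htor) P a))).1 hd⟩
    rw [G.pos_inf_diagonal, Subgroup.mem_bot] at h1
    rw [map_mul, show A.rootHom P (RankOne.eX b) = 1 from Subtype.ext h1, mul_one]
  · exfalso
    rw [map_mul, map_mul, map_mul, A.orbHom_eN] at hd
    set u := A.orbHom J ι (RankOne.eX p) * A.orbHom J ι (RankOne.eH a)
    have hu : u ∈ D.borelSubgroup F :=
      mul_mem (Z.U1_le_borel (hU p)) (Z.H0_le_borel (A.rootHom_eH_mem (htor := htor) P a))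
    have hn : G.full.nw F (o J) ∈ D.borelSubgroup F := by
      rw [show G.full.nw F (o J) = u⁻¹ * (u * G.full.nw F (o J) * A.orbHom J ι (RankOne.eX q)) *
        (A.orbHom J ι (RankOne.eX q))⁻¹ by group]
      exact mul_mem (mul_mem (inv_mem hu) (Subgroup.mem_sup_right hd))
        (inv_mem (Z.U1_le_borel (hU q)))
    have hw : Z.w J = 1 :=
      G.rootAct_unique (Z.n_act J) (Z.rootAct_eq_one (Z.mem_diag_of_borel hn (Z.n_mono J)))
    obtain ⟨s, hs⟩ := Z.invSet_w_nonempty J
    rw [hw, mem_inv] at hs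
    exact hs.2 hs.1

theorem card_torus_le [Finite k] :
    Nat.card ((A.twisted htor).H0.subgroupOf (A.twisted htor).G1 ⊓ (A.twisted htor).LG J :
      Subgroup (A.twisted htor).G1) ≤ Nat.card kˣ := by
  refine Nat.card_le_card_of_surjective (fun a => ⟨A.rootHom P (RankOne.eH a),
    A.rootHom_eH_mem P a, (A.rootHom_range P).le ⟨_, rfl⟩⟩) fun h => ?_
  obtain ⟨a, ha⟩ := A.exists_eH P h.2
  exact ⟨a, Subtype.ext ha.symm⟩

theorem rootHom_injective
    (hker : ∀ a : kˣ, T.hT F (A.res J fun i => Units.map (ι i).toMonoidHom a) = 1 → a = 1) :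
    Function.Injective (A.rootHom (htor := htor) P) := by
  rw [injective_iff_map_eq_one]
  intro g hg
  obtain ⟨a, b, rfl⟩ : ∃ (a : kˣ) (b : k), g = RankOne.eH a * RankOne.eX b := by
    rcases RankOne.eq_product g with h | ⟨p, a, q, rfl⟩
    · exact h
    exfalso
    have hm : A.rootHom (htor := htor) P (RankOne.eX p * RankOne.eH a * RankOne.eN *
        RankOne.eX q) ∈ (A.twisted htor).H0.subgroupOf (A.twisted htor).G1 := by
      rw [hg]; exact one_mem _
    rw [map_mul, map_mul, map_mul, Subgroup.mem_subgroupOf] at hm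
    set Z := A.twisted htor
    have hn : G.full.nw F (o J) ∈ D.borelSubgroup F := by
      rw [Subgroup.coe_mul, Subgroup.coe_mul, Subgroup.coe_mul, A.rootHom_eN P] at hm
      set u := (A.rootHom (htor := htor) P (RankOne.eX p) : GL D.Idx F) *
        (A.rootHom (htor := htor) P (RankOne.eH a) : GL D.Idx F)
      have hu : u ∈ D.borelSubgroup F := mul_mem (Z.U1_le_borel (Z.XJ_le_U1 J
        (A.rootHom_eX_mem P p))) (Z.H0_le_borel (A.rootHom_eH_mem (htor := htor) P a))
      show Z.n J ∈ D.borelSubgroup F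
      rw [show Z.n J = u⁻¹ * (u * Z.n J * (A.rootHom (htor := htor) P (RankOne.eX q) :
        GL D.Idx F)) * (A.rootHom (htor := htor) P (RankOne.eX q) : GL D.Idx F)⁻¹ by group]
      exact mul_mem (mul_mem (inv_mem hu) (Z.H0_le_borel hm))
        (inv_mem (Z.U1_le_borel (Z.XJ_le_U1 J (A.rootHom_eX_mem P q))))
    have hw : Z.w J = 1 :=
      G.rootAct_unique (Z.n_act J) (Z.rootAct_eq_one (Z.mem_diag_of_borel hn (Z.n_mono J)))
    obtain ⟨s, hs⟩ := Z.invSet_w_nonempty J
    rw [hw, mem_inv] at hs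
    exact hs.2 hs.1
  have hg' : A.orbHom J ι (RankOne.eH a) * A.orbHom J ι (RankOne.eX b) = 1 := by
    rw [← map_mul]; exact congrArg Subtype.val hg
  have h1 : A.orbHom J ι (RankOne.eX b) ∈ D.posUnipotent F ⊓ D.diagonalSubgroup F :=
    ⟨((A.twisted htor).XJ_le_U1 J (A.rootHom_eX_mem P b)).2, by
      rw [eq_inv_of_mul_eq_one_right hg']
      exact (D.diagonalSubgroup F).inv_mem
        ((A.twisted htor).H0_diag (A.rootHom_eH_mem (htor := htor) P a))⟩
  rw [G.pos_inf_diagonal, Subgroup.mem_bot] at h1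
  rw [h1, mul_one, A.orbHom_eH] at hg'
  obtain ⟨i, hi⟩ := List.exists_mem_of_ne_nil _ (A.spec.orb_ne J)
  have hb : b = 0 := by
    rw [A.orbHom_eX] at h1
    refine (ι i).injective (((A.PX_inj (t' := fun _ => (0 : F))
      (h1.trans ?_) i hi).trans (map_zero _).symm))
    exact (List.prod_eq_one fun x hx => by
      obtain ⟨j, -, rfl⟩ := List.mem_map.mp hx
      exact G.full.x_zero _).symm
  rw [hker a hg', hb]
  ext c d
  fin_cases c <;> fin_cases d <;> simp [RankOne.coe_eH, RankOne.coe_eX, SpecialLinearGroup.coe_mul]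

theorem res_mem_LG {c : Fin D.rank → Fˣ} (hc : c ∈ A.Cσ) :
    (⟨T.hT F (A.res J c), A.torus_le (A.hT_mem_torus (A.res_mem fun i _ => A.mem_Cσ.mp hc i))⟩ :
      (A.twisted htor).G1) ∈ (A.twisted htor).LG J := by
  obtain ⟨a, ha⟩ := P.cov (fun i => (c i : F)) fun i _ => A.mem_Cσ.mp hc i
  obtain ⟨i₀, hi₀⟩ := List.exists_mem_of_ne_nil _ (A.spec.orb_ne J)
  have ha0 : a ≠ 0 := fun h => (c i₀).ne_zero (by rw [ha i₀ hi₀, h, map_zero])
  rw [← A.rootHom_range P]
  refine ⟨RankOne.eH (Units.mk0 a ha0), Subtype.ext ?_⟩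
  show A.orbHom J ι _ = _
  rw [A.orbHom_eH]
  congr 1
  funext i
  simp only [res]
  split
  · next h => exact Units.ext (ha i h).symm
  · rfl

omit P in
/-- The torus is generated by the tori of the orbits. -/
theorem torus_le_iSup
    (h : ∀ (J : Fin orbs.length) (c : Fin D.rank → Fˣ) (hc : c ∈ A.Cσ),
      (⟨T.hT F (A.res J c), A.torus_le (A.hT_mem_torus (A.res_mem fun i _ => A.mem_Cσ.mp hc i))⟩ :
        (A.twisted htor).G1) ∈ (A.twisted htor).LG J) :
    (A.twisted htor).H0.subgroupOf (A.twisted htor).G1 ≤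
      ⨆ J, (A.twisted htor).H0.subgroupOf (A.twisted htor).G1 ⊓ (A.twisted htor).LG J := by
  intro g hg
  obtain ⟨c, hc, e⟩ := (show (g : GL D.Idx F) ∈ A.torus from hg)
  have hr : ∀ J, T.hT F (A.res J c) ∈ A.torus := fun J =>
    A.hT_mem_torus (A.res_mem fun i _ => A.mem_Cσ.mp hc i)
  have e2 : c = ∏ J : Fin orbs.length, A.res J c := by
    funext i
    obtain ⟨J, hJ⟩ := A.spec.cover i
    rw [Finset.prod_apply, Finset.prod_eq_single (f := fun J => A.res J c i) J
      (fun J' _ hne => if_neg fun h => hne (A.spec.orb_disj J' J i h hJ))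
      (fun h => absurd (Finset.mem_univ J) h)]
    exact (if_pos hJ).symm
  set S : Subgroup (A.twisted htor).G1 :=
    ⨆ J, (A.twisted htor).H0.subgroupOf (A.twisted htor).G1 ⊓ (A.twisted htor).LG J
  have hS : T.hT F c ∈ S.map (A.twisted htor).G1.subtype := by
    rw [e2]
    refine ((S.map (A.twisted htor).G1.subtype).comap (T.hT F)).prod_mem fun J _ => ?_
    exact ⟨_, Subgroup.mem_iSup_of_mem J ⟨hr J, h J c hc⟩, rfl⟩
  obtain ⟨g', hg', e'⟩ := hS
  exact (Subtype.ext (e'.trans e) : g' = g) ▸ hg'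

end CfsgLib.Chev.Tab.Good.A1Data
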