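import Cfsg.Agent.TwMult.Lift
import Mathlib.GroupTheory.NoncommPiCoprod
import Mathlib.GroupTheory.QuotientGroup.Basic

/-!
A split (B, N)-pair lifts through central extensions with kernel prime to the characteristic.
-/

set_option autoImplicit false
set_option linter.unusedSectionVars false

namespace CfsgLib.TwMult

open Subgroup
open scoped commutatorElement

universe u v

/-- The data of a split (B, N)-pair with rank one pieces. -/
structure SplitData (G : Type v) [Group G] (p : ℕ) (ι : Type) [Fintype ι] where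
  /-- the maximal unipotent subgroup -/
  U : Subgroup G
  hU : IsPGroup p U
  /-- the torus -/
  H : Subgroup G
  H_comm : ∀ a ∈ H, ∀ b ∈ H, a * b = b * a
  H_U : ∀ h ∈ H, ∀ u ∈ U, h * u * h⁻¹ ∈ U
  /-- the root groups -/
  X : ι → Subgroup G
  X_le_U : ∀ i, X i ≤ U
  H_X : ∀ i, ∀ h ∈ H, ∀ x ∈ X i, h * x * h⁻¹ ∈ X i
  /-- the representatives of the reflections -/
  n : ι → G
  n_sq : ∀ i, n i * n i ∈ H
  n_conj : ∀ i, ∀ h ∈ H, n i * h * (n i)⁻¹ ∈ H
  /-- the rank one subgroups -/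
  L : ι → Subgroup G
  X_le_L : ∀ i, X i ≤ L i
  n_mem_L : ∀ i, n i ∈ L i
  L_gen : ∀ i, L i ≤ closure ((X i : Set G) ∪ (fun x => n i * x * (n i)⁻¹) '' X i)
  H_gen : H ≤ ⨆ i, H ⊓ L i
  H_card : ∏ i, Nat.card (H ⊓ L i : Subgroup G) ≤ Nat.card H
  split : ∀ i, ∀ u ∈ U, ∃ a ∈ U, ∃ x ∈ X i, u = a * x ∧ n i * a * (n i)⁻¹ ∈ U
  rank_one : ∀ i, ∀ x ∈ X i, x ≠ 1 → ∃ a ∈ U ⊓ L i, ∃ h ∈ H ⊓ L i, ∃ b ∈ X i,
    n i * x * (n i)⁻¹ = a * h * n i * b
  pos_cases : ∀ (i : ι) (w : List ι), (∀ x ∈ X i, ((w.map n).prod)⁻¹ * x * (w.map n).prod ∈ U) ∨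
    ∃ w' : List ι, ∃ h ∈ H, (w.map n).prod = n i * (w'.map n).prod * h ∧
      ∀ x ∈ X i, ((w'.map n).prod)⁻¹ * x * (w'.map n).prod ∈ U
  inter : ∀ (w : List ι), ∀ h ∈ H, (w.map n).prod * h ∈ U → (w.map n).prod * h = 1
  gen : ⊤ ≤ closure ((U : Set G) ∪ H ∪ Set.range n)
  /-- words conjugating one reflection to another -/
  braid : List (ι × List ι × ι)
  braid_L : ∀ b ∈ braid, ∀ x ∈ L b.1,
    (b.2.1.map n).prod * x * ((b.2.1.map n).prod)⁻¹ ∈ L b.2.2
  braid_H : ∀ b ∈ braid,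
    (b.2.1.map n).prod * n b.1 * ((b.2.1.map n).prod)⁻¹ * (n b.2.2)⁻¹ ∈ H

/-- Central extensions with kernel prime to `p` of the subgroup, generated by `p`-elements,
are trivial. -/
def SimplyP {G : Type v} [Group G] (p : ℕ) (L : Subgroup G) : Prop :=
  ∀ (E : Type u) [Group E] [Finite E] (τ : E →* L), CopExt τ p →
    closure {x : E | IsPEl p x} = ⊤ → τ.ker = ⊥

variable {Γ : Type u} {G : Type v} [Group Γ] [Finite Γ] [Group G] {p : ℕ} [Fact p.Prime]
  {ι : Type} [Fintype ι] (D : SplitData G p ι) {σ : Γ →* G} (E : CopExt σ p)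

namespace SplitData

/-- The product of representatives along a word. -/
def nT (w : List ι) : G := (w.map D.n).prod

omit [Fact p.Prime] in
theorem n_conj' (i : ι) {h : G} (hh : h ∈ D.H) : (D.n i)⁻¹ * h * D.n i ∈ D.H := by
  have h2 := D.n_sq i
  rw [show (D.n i)⁻¹ * h * D.n i =
    (D.n i * D.n i)⁻¹ * (D.n i * h * (D.n i)⁻¹) * (D.n i * D.n i) by group]
  exact mul_mem (mul_mem (inv_mem h2) (D.n_conj i h hh)) h2

omit [Fact p.Prime] in
theorem H_L (i : ι) {h x : G} (hh : h ∈ D.H) (hx : x ∈ D.L i) : h * x * h⁻¹ ∈ D.L i := by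
  have hle : D.L i ≤ (D.L i).comap (MulAut.conj h).toMonoidHom := by
    refine (D.L_gen i).trans ((closure_le _).2 ?_)
    rintro y (hy | ⟨z, hz, rfl⟩)
    · exact D.X_le_L i (D.H_X i h hh y hy)
    · show h * (D.n i * z * (D.n i)⁻¹) * h⁻¹ ∈ D.L i
      rw [show h * (D.n i * z * (D.n i)⁻¹) * h⁻¹ = D.n i * (((D.n i)⁻¹ * h * D.n i) * z *
        ((D.n i)⁻¹ * h * D.n i)⁻¹) * (D.n i)⁻¹ by group]
      exact mul_mem (mul_mem (D.n_mem_L i) (D.X_le_L i (D.H_X i _ (D.n_conj' i hh) z hz)))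
        (inv_mem (D.n_mem_L i))
  exact hle hx

omit [Fact p.Prime] in
theorem pEl_X {i : ι} {x : G} (hx : x ∈ D.X i) : IsPEl p x :=
  IsPEl.of_mem D.hU (D.X_le_U i hx)

/-- The lifted rank one subgroup. -/
noncomputable def Lt (i : ι) : Subgroup Γ :=
  closure (E.lift '' ((D.X i : Set G) ∪ (fun x => D.n i * x * (D.n i)⁻¹) '' D.X i))

/-- The pieces of the lifted torus. -/
noncomputable def Hp (i : ι) : Subgroup Γ := D.Lt E i ⊓ D.H.comap σ

/-- The lifted torus. -/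
noncomputable def Ht : Subgroup Γ := ⨆ i, D.Hp E i

theorem pEl_gen {i : ι} {x : G}
    (hx : x ∈ (D.X i : Set G) ∪ (fun x => D.n i * x * (D.n i)⁻¹) '' D.X i) :
    IsPEl p x ∧ x ∈ D.L i := by
  rcases hx with hx | ⟨z, hz, rfl⟩
  · exact ⟨D.pEl_X hx, D.X_le_L i hx⟩
  · exact ⟨(D.pEl_X hz).conj _,
      mul_mem (mul_mem (D.n_mem_L i) (D.X_le_L i hz)) (inv_mem (D.n_mem_L i))⟩

theorem map_Lt (i : ι) : (D.Lt E i).map σ = D.L i := by
  rw [Lt, MonoidHom.map_closure]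
  refine le_antisymm ((closure_le _).2 ?_) ((D.L_gen i).trans ((closure_le _).2 ?_))
  · rintro _ ⟨_, ⟨x, hx, rfl⟩, rfl⟩
    rw [E.map_lift (D.pEl_gen hx).1]
    exact (D.pEl_gen hx).2
  · intro x hx
    exact subset_closure ⟨E.lift x, ⟨x, hx, rfl⟩, E.map_lift (D.pEl_gen hx).1⟩

theorem map_mem_L {i : ι} {γ : Γ} (hγ : γ ∈ D.Lt E i) : σ γ ∈ D.L i :=
  D.map_Lt E i ▸ mem_map_of_mem σ hγ

variable (hL : ∀ i, SimplyP.{u} p (D.L i))
include hL

theorem inj_Lt {i : ι} {γ : Γ} (hγ : γ ∈ D.Lt E i) (h1 : σ γ = 1) : γ = 1 := by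
  let τ : D.Lt E i →* D.L i :=
    (σ.comp (D.Lt E i).subtype).codRestrict (D.L i) fun x => D.map_mem_L E x.2
  have hτ : CopExt τ p := by
    refine ⟨fun y => ?_, fun z hz => ?_, fun z hz hzp => ?_⟩
    · obtain ⟨x, hx, e⟩ := (D.map_Lt E i).ge y.2
      exact ⟨⟨x, hx⟩, Subtype.ext e⟩
    · exact mem_center_iff.2 fun w => Subtype.ext
        (E.comm (MonoidHom.mem_ker.2 (congrArg Subtype.val (MonoidHom.mem_ker.1 hz))) w.1)
    · exact Subtype.ext (E.cop z.1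
        (MonoidHom.mem_ker.2 (congrArg Subtype.val (MonoidHom.mem_ker.1 hz)))
        (congrArg Subtype.val hzp))
  have hgen : closure {x : D.Lt E i | IsPEl p x} = ⊤ := by
    rw [eq_top_iff]
    refine le_of_eq_of_le (closure_closure_coe_preimage
      (k := E.lift '' ((D.X i : Set G) ∪ (fun x => D.n i * x * (D.n i)⁻¹) '' D.X i))).symm
      (closure_mono ?_)
    rintro ⟨x, hx⟩ ⟨g, -, e⟩
    obtain ⟨k, hk⟩ := E.pEl_lift g
    have e' : E.lift g = x := e
    rw [e'] at hk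
    exact ⟨k, Subtype.ext hk⟩
  have := hL i _ τ hτ hgen
  have hm : (⟨γ, hγ⟩ : D.Lt E i) ∈ τ.ker := Subtype.ext h1
  rw [this, mem_bot] at hm
  exact congrArg Subtype.val hm

theorem ext_Lt {i : ι} {γ γ' : Γ} (hγ : γ ∈ D.Lt E i) (hγ' : γ' ∈ D.Lt E i)
    (h : σ γ = σ γ') : γ = γ' :=
  (inv_mul_eq_one.1 (D.inj_Lt E hL (mul_mem (inv_mem hγ') hγ)
    (by rw [map_mul, map_inv, h, inv_mul_cancel]))).symm

theorem lift_mem_Lt {i : ι} {y : G} (hy : y ∈ D.L i) (hp : IsPEl p y) : E.lift y ∈ D.Lt E i := by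
  obtain ⟨x, hx, rfl⟩ := (D.map_Lt E i).ge hy
  obtain ⟨k, hk⟩ := hp
  have hxp : x ^ p ^ k = 1 := D.inj_Lt E hL (pow_mem hx _) (by rw [map_pow, hk])
  rwa [E.lift_map ⟨k, hxp⟩]

theorem conj_Lt {i j : ι} {γ : Γ} (hc : ∀ x ∈ D.L i, σ γ * x * (σ γ)⁻¹ ∈ D.L j) {x : Γ}
    (hx : x ∈ D.Lt E i) : γ * x * γ⁻¹ ∈ D.Lt E j := by
  have hle : D.Lt E i ≤ (D.Lt E j).comap (MulAut.conj γ).toMonoidHom := by
    refine (closure_le _).2 ?_
    rintro _ ⟨y, hy, rfl⟩
    obtain ⟨hp, hyL⟩ := D.pEl_gen hy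
    show γ * E.lift y * γ⁻¹ ∈ D.Lt E j
    rw [E.conj_lift hp]
    exact D.lift_mem_Lt E hL (hc y hyL) (hp.conj _)
  exact hle hx

theorem exists_Hp {i : ι} {h : G} (hh : h ∈ D.H ⊓ D.L i) : ∃ k ∈ D.Hp E i, σ k = h := by
  obtain ⟨x, hx, rfl⟩ := (D.map_Lt E i).ge hh.2
  exact ⟨x, ⟨hx, hh.1⟩, rfl⟩

theorem Hp_comm {i : ι} {a b : Γ} (ha : a ∈ D.Hp E i) (hb : σ b ∈ D.H) : b * a = a * b := by
  have hc : b * a * b⁻¹ ∈ D.Lt E i := D.conj_Lt E hL (fun x hx => D.H_L i hb hx) ha.1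
  have := D.ext_Lt E hL hc ha.1 (by
    rw [map_mul, map_mul, map_inv, D.H_comm _ hb _ ha.2, mul_inv_cancel_right])
  exact mul_inv_eq_iff_eq_mul.1 this

omit hL in
theorem map_Hp_le (i : ι) {k : Γ} (hk : k ∈ D.Hp E i) : σ k ∈ D.H := hk.2

theorem Ht_le : D.Ht E ≤ D.H.comap σ := iSup_le fun i => inf_le_right

theorem map_Ht {k : Γ} (hk : k ∈ D.Ht E) : σ k ∈ D.H := D.Ht_le E hL hk

theorem map_Ht_eq : (D.Ht E).map σ = D.H := by
  refine le_antisymm (map_le_iff_le_comap.2 (D.Ht_le E hL)) (D.H_gen.trans ?_)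
  refine iSup_le fun i h hh => ?_
  obtain ⟨k, hk, rfl⟩ := D.exists_Hp E hL hh
  exact mem_map_of_mem σ (mem_iSup_of_mem i hk)

theorem exists_Ht {h : G} (hh : h ∈ D.H) : ∃ k ∈ D.Ht E, σ k = h :=
  (D.map_Ht_eq E hL).ge hh

theorem inj_Ht {k : Γ} (hk : k ∈ D.Ht E) (h1 : σ k = 1) : k = 1 := by
  classical
  have hG : Finite G := Finite.of_surjective σ E.surj
  have hcomm : Pairwise fun i j => ∀ x y : Γ, x ∈ D.Hp E i → y ∈ D.Hp E j → Commute x y :=
    fun i j _ x y hx hy => (D.Hp_comm E hL hx hy.2).symm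
  have hr : (noncommPiCoprod hcomm).range = D.Ht E := noncommPiCoprod_range
  have hcardp : ∀ i, Nat.card (D.Hp E i) = Nat.card (D.H ⊓ D.L i : Subgroup G) := fun i => by
    refine Nat.card_eq_of_bijective
      (fun x => (⟨σ x.1, x.2.2, D.map_mem_L E x.2.1⟩ : (D.H ⊓ D.L i : Subgroup G))) ⟨?_, ?_⟩
    · intro a b e
      exact Subtype.ext (D.ext_Lt E hL a.2.1 b.2.1 (congrArg Subtype.val e))
    · rintro ⟨h, hh⟩
      obtain ⟨a, ha, e⟩ := D.exists_Hp E hL hh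
      exact ⟨⟨a, ha⟩, Subtype.ext e⟩
  have hle : Nat.card (D.Ht E) ≤ Nat.card D.H := by
    refine le_trans ?_ D.H_card
    rw [← hr]
    refine (Nat.card_le_card_of_surjective _
      (MonoidHom.rangeRestrict_surjective (noncommPiCoprod hcomm))).trans ?_
    rw [Nat.card_pi]
    exact le_of_eq (Finset.prod_congr rfl fun i _ => hcardp i)
  let f : D.Ht E → D.H := fun x => ⟨σ x.1, D.map_Ht E hL x.2⟩
  have hsurj : Function.Surjective f := fun h => by
    obtain ⟨a, ha, e⟩ := D.exists_Ht E hL h.2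
    exact ⟨⟨a, ha⟩, Subtype.ext e⟩
  have hb := hsurj.bijective_of_nat_card_le hle
  exact congrArg Subtype.val (hb.1 (a₁ := ⟨k, hk⟩) (a₂ := 1) (Subtype.ext (by simpa [f] using h1)))

/-- The lifted representatives. -/
noncomputable def nt (i : ι) : Γ := ((D.map_Lt E i).ge (D.n_mem_L i)).choose

omit hL in
theorem nt_mem (i : ι) : D.nt E i ∈ D.Lt E i :=
  ((D.map_Lt E i).ge (D.n_mem_L i)).choose_spec.1

omit hL in
theorem map_nt (i : ι) : σ (D.nt E i) = D.n i :=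
  ((D.map_Lt E i).ge (D.n_mem_L i)).choose_spec.2

/-- The product of lifted representatives along a word. -/
noncomputable def ntT (w : List ι) : Γ := (w.map (D.nt E)).prod

omit hL in
theorem map_ntT (w : List ι) : σ (D.ntT E w) = D.nT w := by
  rw [ntT, nT, map_list_prod, List.map_map]
  exact congrArg List.prod (List.map_congr_left fun i _ => D.map_nt E i)

omit hL in
theorem ntT_cons (i : ι) (w : List ι) : D.ntT E (i :: w) = D.nt E i * D.ntT E w := rfl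

omit hL in
theorem nt_sq (i : ι) : D.nt E i * D.nt E i ∈ D.Ht E :=
  mem_iSup_of_mem i ⟨mul_mem (D.nt_mem E i) (D.nt_mem E i), by
    show σ _ ∈ D.H
    rw [map_mul, D.map_nt]
    exact D.n_sq i⟩

theorem nt_norm (i : ι) : D.nt E i ∈ normalizer (D.Ht E : Set Γ) := by
  have hle : D.Ht E ≤ (D.Ht E).comap (MulAut.conj (D.nt E i)).toMonoidHom := by
    refine iSup_le fun j k hk => ?_
    show D.nt E i * k * (D.nt E i)⁻¹ ∈ D.Ht E
    rw [show D.nt E i * k * (D.nt E i)⁻¹ = D.nt E i * (k * (D.nt E i)⁻¹ * k⁻¹) * k by group]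
    refine mul_mem (mem_iSup_of_mem i ⟨mul_mem (D.nt_mem E i) (D.conj_Lt E hL
      (fun x hx => D.H_L i hk.2 hx) (inv_mem (D.nt_mem E i))), ?_⟩) (mem_iSup_of_mem j hk)
    show σ _ ∈ D.H
    rw [map_mul, map_mul, map_mul, map_inv, map_inv, D.map_nt,
      show D.n i * (σ k * (D.n i)⁻¹ * (σ k)⁻¹) = D.n i * σ k * (D.n i)⁻¹ * (σ k)⁻¹ by group]
    exact mul_mem (D.n_conj i _ hk.2) (inv_mem hk.2)
  exact mem_normalizer_iff_map_conj_eq.2
    (Subgroup.eq_of_le_of_card_ge (map_le_iff_le_comap.2 hle)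
      (card_map_of_injective (MulAut.conj (D.nt E i)).injective).ge)

theorem ntT_norm (w : List ι) : D.ntT E w ∈ normalizer (D.Ht E : Set Γ) :=
  list_prod_mem fun x hx => by
    obtain ⟨i, -, rfl⟩ := List.mem_map.1 hx
    exact D.nt_norm E hL i

theorem Ht_ntT (w : List ι) {h : Γ} (hh : h ∈ D.Ht E) :
    ∃ h' ∈ D.Ht E, h * D.ntT E w = D.ntT E w * h' :=
  ⟨(D.ntT E w)⁻¹ * h * D.ntT E w, by
    simpa using (mem_normalizer_iff.1 (inv_mem (D.ntT_norm E hL w)) h).1 hh, by group⟩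

include E in
theorem nT_norm (w : List ι) {h : G} (hh : h ∈ D.H) :
    D.nT w * h * (D.nT w)⁻¹ ∈ D.H ∧ (D.nT w)⁻¹ * h * D.nT w ∈ D.H := by
  obtain ⟨k, hk, rfl⟩ := D.exists_Ht E hL hh
  rw [← D.map_ntT E w, ← map_inv σ, ← map_mul, ← map_mul, ← map_mul, ← map_mul]
  exact ⟨D.map_Ht E hL ((mem_normalizer_iff.1 (D.ntT_norm E hL w) k).1 hk),
    D.map_Ht E hL (by simpa using (mem_normalizer_iff.1 (inv_mem (D.ntT_norm E hL w)) k).1 hk)⟩

include E in
theorem nT_reverse (w : List ι) : D.nT w.reverse * D.nT w ∈ D.H := by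
  induction w with
  | nil => simp [nT]
  | cons i w ih =>
    have e : D.nT (i :: w).reverse * D.nT (i :: w) =
        D.nT w.reverse * D.nT w * ((D.nT w)⁻¹ * (D.n i * D.n i) * D.nT w) := by
      simp only [nT, List.reverse_cons, List.map_append, List.prod_append, List.map_cons,
        List.map_nil, List.prod_cons, List.prod_nil, mul_one]
      group
    rw [e]
    exact mul_mem ih (D.nT_norm E hL w (D.n_sq i)).2

variable (hW : ∀ (Q : Type u) [Group Q] (f : ι → Q), (∀ i, f i * f i = 1) →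
  (∀ b ∈ D.braid, ((b.2.1.map f).prod * f b.1 * ((b.2.1.map f).prod)⁻¹) = f b.2.2) →
  ∀ w : List ι, (w.map D.n).prod ∈ D.H → (w.map f).prod = 1)
include hW

/-- Words in the lifts follow the Weyl group. -/
theorem ntT_mem_Ht {w : List ι} (hw : D.nT w ∈ D.H) : D.ntT E w ∈ D.Ht E := by
  let N := normalizer (D.Ht E : Set Γ)
  let K := (D.Ht E).subgroupOf N
  have : K.Normal := normal_subgroupOf_of_le_normalizer le_rfl
  let f : ι → N ⧸ K := fun i => (⟨D.nt E i, D.nt_norm E hL i⟩ : N)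
  have hf : ∀ v : List ι, (v.map f).prod = ((⟨D.ntT E v, D.ntT_norm E hL v⟩ : N) : N ⧸ K) := by
    intro v
    induction v with
    | nil => exact (QuotientGroup.eq_one_iff _).2 (by simp [K, mem_subgroupOf, ntT]) |>.symm
    | cons i v ih =>
      rw [List.map_cons, List.prod_cons, ih]
      rfl
  have h1 := hW (N ⧸ K) f (fun i => (QuotientGroup.eq_one_iff _).2
    (mem_subgroupOf.2 (D.nt_sq E i))) (fun b hb => ?_) w hw
  · rw [hf, QuotientGroup.eq_one_iff] at h1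
    exact mem_subgroupOf.1 h1
  · obtain ⟨i, v, k⟩ := b
    have hL' : ∀ x ∈ D.L i, σ (D.ntT E v) * x * (σ (D.ntT E v))⁻¹ ∈ D.L k := by
      rw [D.map_ntT]
      exact D.braid_L _ hb
    have hm : D.ntT E v * D.nt E i * (D.ntT E v)⁻¹ * (D.nt E k)⁻¹ ∈ D.Ht E :=
      mem_iSup_of_mem k ⟨(D.Lt E k).mul_mem (D.conj_Lt E hL hL' (D.nt_mem E i))
        ((D.Lt E k).inv_mem (D.nt_mem E k)), by
        show σ _ ∈ D.H
        rw [map_mul, map_mul, map_mul, map_inv, map_inv, D.map_ntT, D.map_nt, D.map_nt]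
        exact D.braid_H _ hb⟩
    show (v.map f).prod * f i * ((v.map f).prod)⁻¹ = f k
    rw [hf, ← mul_inv_eq_one]
    exact (QuotientGroup.eq_one_iff _).2 (mem_subgroupOf.2 hm)

theorem ntT_congr {w w' : List ι} (h : (D.nT w)⁻¹ * D.nT w' ∈ D.H) :
    (D.ntT E w)⁻¹ * D.ntT E w' ∈ D.Ht E := by
  have app : ∀ v v' : List ι, D.nT (v ++ v') = D.nT v * D.nT v' ∧
      D.ntT E (v ++ v') = D.ntT E v * D.ntT E v' := fun v v' => by simp [nT, ntT]
  have h1 := D.ntT_mem_Ht E hL hW (w := w.reverse ++ w') (by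
    rw [(app _ _).1, show D.nT w.reverse * D.nT w' =
      D.nT w.reverse * D.nT w * ((D.nT w)⁻¹ * D.nT w') by group]
    exact mul_mem (D.nT_reverse E hL w) h)
  have h2 := D.ntT_mem_Ht E hL hW (w := w.reverse ++ w) (by
    rw [(app _ _).1]
    exact D.nT_reverse E hL w)
  rw [(app _ _).2] at h1 h2
  rw [show (D.ntT E w)⁻¹ * D.ntT E w' =
    (D.ntT E w.reverse * D.ntT E w)⁻¹ * (D.ntT E w.reverse * D.ntT E w') by group]
  exact mul_mem (inv_mem h2) h1

omit hW in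
theorem lift_Ht {u : G} (hu : u ∈ D.U) {h : Γ} (hh : h ∈ D.Ht E) :
    h * E.lift u = E.lift (σ h * u * (σ h)⁻¹) * h ∧
      E.lift u * h = h * E.lift ((σ h)⁻¹ * u * σ h) := by
  refine ⟨by rw [← E.conj_lift (IsPEl.of_mem D.hU hu) h, inv_mul_cancel_right], ?_⟩
  have := E.conj_lift (IsPEl.of_mem D.hU hu) h⁻¹
  rw [map_inv, inv_inv, inv_inv] at this
  rw [← this, ← mul_assoc, ← mul_assoc, mul_inv_cancel, one_mul]

omit hL hW in
/-- The products lying over the double cosets. -/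
def InY (D : SplitData G p ι) (E : CopExt σ p) (z : Γ) : Prop :=
  ∃ u ∈ D.U, ∃ w : List ι, ∃ h ∈ D.Ht E, ∃ v ∈ D.U,
    z = E.lift u * D.ntT E w * h * E.lift v

omit hW in
theorem inY_lift_mul {u : G} (hu : u ∈ D.U) {z : Γ} (hz : D.InY E z) :
    D.InY E (E.lift u * z) := by
  obtain ⟨u', hu', w, h, hh, v, hv, rfl⟩ := hz
  exact ⟨u * u', mul_mem hu hu', w, h, hh, v, hv, by
    rw [E.lift_mul D.hU hu hu']; simp only [mul_assoc]⟩

omit hW in
theorem inY_Ht_mul {k : Γ} (hk : k ∈ D.Ht E) {z : Γ} (hz : D.InY E z) : D.InY E (k * z) := by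
  obtain ⟨u, hu, w, h, hh, v, hv, rfl⟩ := hz
  obtain ⟨k', hk', e⟩ := D.Ht_ntT E hL w hk
  refine ⟨_, D.H_U _ (D.map_Ht E hL hk) u hu, w, k' * h, mul_mem hk' hh, v, hv, ?_⟩
  calc k * (E.lift u * D.ntT E w * h * E.lift v)
      = k * E.lift u * D.ntT E w * h * E.lift v := by simp only [mul_assoc]
    _ = E.lift (σ k * u * (σ k)⁻¹) * (k * D.ntT E w) * h * E.lift v := by
      rw [(D.lift_Ht E hL hu hk).1]; simp only [mul_assoc]
    _ = E.lift (σ k * u * (σ k)⁻¹) * D.ntT E w * (k' * h) * E.lift v := by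
      rw [e]; simp only [mul_assoc]

omit hW in
/-- Moving an element of the positive root group across a word and a torus element. -/
theorem pos_move {w : List ι} {x v : G} (hx : IsPEl p x) (hxw : (D.nT w)⁻¹ * x * D.nT w ∈ D.U)
    {h : Γ} (hh : h ∈ D.Ht E) (hv : v ∈ D.U) :
    ∃ v' ∈ D.U, E.lift x * D.ntT E w * h * E.lift v = D.ntT E w * h * E.lift v' := by
  have e1 : E.lift x * D.ntT E w = D.ntT E w * E.lift ((D.nT w)⁻¹ * x * D.nT w) := by
    have := E.conj_lift hx (D.ntT E w)⁻¹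
    rw [map_inv, D.map_ntT, inv_inv, inv_inv] at this
    rw [← this, ← mul_assoc, ← mul_assoc, mul_inv_cancel, one_mul]
  set x' := (D.nT w)⁻¹ * x * D.nT w
  have hx' : (σ h)⁻¹ * x' * σ h ∈ D.U := by
    have := D.H_U _ (inv_mem (D.map_Ht E hL hh)) _ hxw
    rwa [inv_inv] at this
  refine ⟨(σ h)⁻¹ * x' * σ h * v, mul_mem hx' hv, ?_⟩
  rw [E.lift_mul D.hU hx' hv, e1, mul_assoc (D.ntT E w) _ h, (D.lift_Ht E hL hxw hh).2]
  simp only [mul_assoc]

theorem inY_nt_mul (i : ι) {z : Γ} (hz : D.InY E z) : D.InY E (D.nt E i * z) := by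
  obtain ⟨u, hu, w, h, hh, v, hv, rfl⟩ := hz
  obtain ⟨a, ha, x, hx, rfl, ha'⟩ := D.split i u hu
  have e0 : D.nt E i * (E.lift (a * x) * D.ntT E w * h * E.lift v) =
      E.lift (D.n i * a * (D.n i)⁻¹) *
        (D.nt E i * (E.lift x * D.ntT E w * h * E.lift v)) := by
    rw [E.lift_mul D.hU ha (D.X_le_U i hx), ← D.map_nt E i,
      ← E.conj_lift (IsPEl.of_mem D.hU ha) (D.nt E i)]
    group
  rw [e0]
  refine D.inY_lift_mul E hL ha' ?_
  rcases D.pos_cases i w with hp | ⟨w', k, hk, ew, hp⟩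
  · obtain ⟨v', hv', e⟩ := D.pos_move E hL (D.pEl_X hx) (hp x hx) hh hv
    exact ⟨1, one_mem _, i :: w, h, hh, v', hv', by
      rw [E.lift_one, one_mul, e, D.ntT_cons]; simp only [mul_assoc]⟩
  · -- the word begins with the reflection
    have hH : (D.ntT E (i :: w'))⁻¹ * D.ntT E w ∈ D.Ht E := D.ntT_congr E hL hW (by
      rw [show D.nT w = D.nT (i :: w') * k from ew.trans (by simp [nT]), inv_mul_cancel_left]
      exact hk)
    set k' := (D.ntT E (i :: w'))⁻¹ * D.ntT E w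
    have e1 : D.ntT E w * h = D.nt E i * D.ntT E w' * (k' * h) := by
      rw [← D.ntT_cons]; simp only [k']; group
    rw [mul_assoc (E.lift x), e1]
    by_cases hx1 : x = 1
    · subst hx1
      obtain ⟨h', hh', e⟩ := D.Ht_ntT E hL w' (D.nt_sq E i)
      refine ⟨1, one_mem _, w', h' * (k' * h), mul_mem hh' (mul_mem hH hh), v, hv, ?_⟩
      rw [E.lift_one, one_mul, one_mul]
      simp only [← mul_assoc]
      rw [e]
    obtain ⟨a', ha'', c, hc, b, hb, e⟩ := D.rank_one i x hx hx1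
    obtain ⟨c', hc', rfl⟩ := D.exists_Hp E hL hc
    have key : D.nt E i * E.lift x * (D.nt E i)⁻¹ =
        E.lift a' * c' * D.nt E i * E.lift b := by
      refine D.ext_Lt E hL (mul_mem (mul_mem (D.nt_mem E i)
        (D.lift_mem_Lt E hL (D.X_le_L i hx) (D.pEl_X hx))) (inv_mem (D.nt_mem E i)))
        (mul_mem (mul_mem (mul_mem (D.lift_mem_Lt E hL ha''.2 (IsPEl.of_mem D.hU ha''.1)) hc'.1)
          (D.nt_mem E i)) (D.lift_mem_Lt E hL (D.X_le_L i hb) (D.pEl_X hb))) ?_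
      simp only [map_mul, map_inv, D.map_nt, E.map_lift (D.pEl_X hx), E.map_lift (D.pEl_X hb),
        E.map_lift (IsPEl.of_mem D.hU ha''.1), e]
    obtain ⟨h', hh', e2⟩ := D.Ht_ntT E hL w' (D.nt_sq E i)
    obtain ⟨v', hv', e3⟩ := D.pos_move E hL (D.pEl_X hb) (hp b hb)
      (mul_mem hh' (mul_mem hH hh)) hv
    have e4 : D.nt E i * (E.lift x * (D.nt E i * D.ntT E w' * (k' * h)) * E.lift v) =
        E.lift a' * (c' * (D.nt E i * (D.ntT E w' * (h' * (k' * h)) * E.lift v'))) := by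
      calc D.nt E i * (E.lift x * (D.nt E i * D.ntT E w' * (k' * h)) * E.lift v)
          = (D.nt E i * E.lift x * (D.nt E i)⁻¹) * (D.nt E i * D.nt E i * D.ntT E w') *
              (k' * h) * E.lift v := by group
        _ = E.lift a' * c' * D.nt E i *
              (E.lift b * D.ntT E w' * (h' * (k' * h)) * E.lift v) := by
            rw [key, e2]; simp only [mul_assoc]
        _ = _ := by rw [e3]; simp only [mul_assoc]
    rw [e4]
    refine D.inY_lift_mul E hL ha''.1 (D.inY_Ht_mul E hL (mem_iSup_of_mem i hc') ?_)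
    exact ⟨1, one_mem _, i :: w', h' * (k' * h), mul_mem hh' (mul_mem hH hh), v', hv', by
      rw [E.lift_one, one_mul, D.ntT_cons]; simp only [mul_assoc]⟩

include E in
/-- A stem extension with kernel prime to `p` is trivial. -/
theorem ker_eq_bot (hstem : σ.ker ≤ commutator Γ) : σ.ker = ⊥ := by
  set S : Set Γ := E.lift '' D.U ∪ D.Ht E ∪ Set.range (D.nt E) with hS
  let M : Submonoid Γ :=
    { carrier := {g | ∀ z, D.InY E z → D.InY E (g * z)}
      one_mem' := fun z hz => by rwa [one_mul]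
      mul_mem' := fun {a b} ha hb z hz => by rw [mul_assoc]; exact ha _ (hb _ hz) }
  have hSM : Subgroup.closure S ≤
      { M with
        inv_mem' := fun {a} ha => by
          have e : a⁻¹ = a ^ (orderOf a - 1) :=
            inv_eq_of_mul_eq_one_right (by
              rw [← pow_succ', Nat.sub_add_cancel (orderOf_pos a), pow_orderOf_eq_one])
          show a⁻¹ ∈ M
          rw [e]
          exact pow_mem ha _ } := by
    refine (closure_le _).2 ?_
    rintro g ((⟨u, hu, rfl⟩ | hg) | ⟨i, rfl⟩)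
    · exact fun z hz => D.inY_lift_mul E hL hu hz
    · exact fun z hz => D.inY_Ht_mul E hL hg hz
    · exact fun z hz => D.inY_nt_mul E hL hW i hz
  have hY : ∀ g ∈ closure S, D.InY E g := fun g hg => by
    have h := hSM hg 1 ⟨1, one_mem _, [], 1, one_mem _, 1, one_mem _, by simp [E.lift_one, ntT]⟩
    rwa [mul_one] at h
  have hmap : (closure S).map σ = ⊤ := by
    rw [eq_top_iff]
    refine D.gen.trans ((closure_le _).2 ?_)
    rintro g ((hg | hg) | ⟨i, rfl⟩)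
    · exact ⟨E.lift g, subset_closure (Or.inl (Or.inl ⟨g, hg, rfl⟩)),
        E.map_lift (IsPEl.of_mem D.hU hg)⟩
    · obtain ⟨k, hk, e⟩ := D.exists_Ht E hL hg
      exact ⟨k, subset_closure (Or.inl (Or.inr hk)), e⟩
    · exact ⟨D.nt E i, subset_closure (Or.inr ⟨i, rfl⟩), D.map_nt E i⟩
  have hcomm : commutator Γ ≤ closure S := by
    rw [commutator_def, Subgroup.commutator_le]
    intro a _ b _
    obtain ⟨a', ha, ea⟩ := hmap.ge (mem_top (σ a))
    obtain ⟨b', hb, eb⟩ := hmap.ge (mem_top (σ b))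
    rw [commutator_congr E.central ea.symm eb.symm]
    exact mul_mem (mul_mem (mul_mem ha hb) (inv_mem ha)) (inv_mem hb)
  rw [eq_bot_iff]
  intro z hz
  obtain ⟨u, hu, w, h, hh, v, hv, rfl⟩ := hY z (hcomm (hstem hz))
  have h1 := MonoidHom.mem_ker.1 hz
  rw [map_mul, map_mul, map_mul, E.map_lift (IsPEl.of_mem D.hU hu),
    E.map_lift (IsPEl.of_mem D.hU hv), D.map_ntT] at h1
  have hwU : D.nT w * σ h ∈ D.U := by
    rw [show D.nT w * σ h = u⁻¹ * (u * D.nT w * σ h * v) * v⁻¹ by group, h1, mul_one]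
    exact mul_mem (inv_mem hu) (inv_mem hv)
  have h2 : D.nT w * σ h = 1 := D.inter w _ (D.map_Ht E hL hh) hwU
  have hwH : D.nT w ∈ D.H := by
    rw [eq_inv_of_mul_eq_one_left h2]
    exact inv_mem (D.map_Ht E hL hh)
  have h3 : D.ntT E w * h = 1 := D.inj_Ht E hL (mul_mem (D.ntT_mem_Ht E hL hW hwH) hh) (by
    rw [map_mul, D.map_ntT, h2])
  have huv : u * v = 1 := by rwa [mul_assoc u, h2, mul_one] at h1
  rw [mem_bot, mul_assoc (E.lift u), h3, mul_one, ← E.lift_mul D.hU hu hv, huv, E.lift_one]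

end SplitData

end CfsgLib.TwMult
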