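import Cfsg.Agent.TwMult.BNLift
import Cfsg.Agent.TwMult.RankOneCop
import Cfsg.Agent.Chev.TwistedBN

/-!
Representations on blocks of root vectors, and rank one subgroups with cyclic odd Sylow subgroups.
-/

set_option autoImplicit false
set_option linter.unusedSectionVars false

namespace CfsgLib.TwMult

open Cfsg.Lie Matrix Subgroup
open scoped MatrixGroups

section Block

variable {D : ChevalleyDatum} {F : Type*} [Field F] {k : ℕ} (V : Fin k → Fin D.nroots)

/-- The span of the root vectors of the block is invariant. -/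
def InvBlock (M : Matrix D.Idx D.Idx F) : Prop :=
  ∀ (row : D.Idx) (j : Fin k), (∀ i, row ≠ Sum.inr (V i)) → M row (Sum.inr (V j)) = 0

/-- The block of a matrix. -/
def blk (M : Matrix D.Idx D.Idx F) : Matrix (Fin k) (Fin k) F :=
  Matrix.of fun i j => M (Sum.inr (V i)) (Sum.inr (V j))

variable {V} (hV : Function.Injective V)
include hV

theorem invBlock_one : InvBlock V (1 : Matrix D.Idx D.Idx F) := fun row j h =>
  Matrix.one_apply_ne (h j)

theorem blk_one : blk V (1 : Matrix D.Idx D.Idx F) = 1 := by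
  ext i j
  by_cases h : i = j
  · subst h; simp [blk]
  · simp [blk, Matrix.one_apply_ne h, hV.ne h]

theorem mul_apply_block {M N : Matrix D.Idx D.Idx F} (hN : InvBlock V N) (row : D.Idx) (j : Fin k) :
    (M * N) row (Sum.inr (V j)) = ∑ l, M row (Sum.inr (V l)) * N (Sum.inr (V l)) (Sum.inr (V j)) := by
  rw [Matrix.mul_apply]
  refine (Fintype.sum_of_injective (fun l => (Sum.inr (V l) : D.Idx))
    (Sum.inr_injective.comp hV) _ _ (fun x hx => ?_) fun l => rfl).symm
  rw [hN x j fun i e => hx ⟨i, e.symm⟩, mul_zero]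

theorem invBlock_mul {M N : Matrix D.Idx D.Idx F} (hM : InvBlock V M) (hN : InvBlock V N) :
    InvBlock V (M * N) := fun row j h => by
  rw [mul_apply_block hV hN]
  exact Finset.sum_eq_zero fun l _ => by rw [hM row l h, zero_mul]

theorem blk_mul {M N : Matrix D.Idx D.Idx F} (hN : InvBlock V N) :
    blk V (M * N) = blk V M * blk V N := by
  ext i j
  exact mul_apply_block hV hN _ j

variable (V) in
/-- The elements leaving the block invariant whose block lies in a submonoid. -/
def blockMonoid (T : Submonoid (Matrix (Fin k) (Fin k) F)) : Submonoid (GL D.Idx F) where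
  carrier := {g | InvBlock V (g : Matrix D.Idx D.Idx F) ∧ blk V (g : Matrix D.Idx D.Idx F) ∈ T}
  one_mem' := ⟨by rw [Units.val_one]; exact invBlock_one hV,
    by rw [Units.val_one, blk_one hV]; exact one_mem T⟩
  mul_mem' := by
    rintro a b ⟨ha, ha'⟩ ⟨hb, hb'⟩
    exact ⟨by rw [Units.val_mul]; exact invBlock_mul hV ha hb,
      by rw [Units.val_mul, blk_mul hV hb]; exact mul_mem ha' hb'⟩

/-- In a finite group, generators in the monoid suffice. -/
theorem mem_blockMonoid {G1 : Subgroup (GL D.Idx F)} [Finite G1]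
    (T : Submonoid (Matrix (Fin k) (Fin k) F)) {S : Set G1}
    (hS : ∀ g ∈ S, (g : GL D.Idx F) ∈ blockMonoid V hV T) {g : G1} (hg : g ∈ closure S) :
    (g : GL D.Idx F) ∈ blockMonoid V hV T := by
  induction hg using Subgroup.closure_induction with
  | mem x hx => exact hS x hx
  | one => exact one_mem _
  | mul x y _ _ hx hy => exact mul_mem hx hy
  | inv x _ hx =>
    have e : x⁻¹ = x ^ (orderOf x - 1) :=
      inv_eq_of_mul_eq_one_right (by
        rw [← pow_succ', Nat.sub_add_cancel (orderOf_pos x), pow_orderOf_eq_one])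
    rw [e, Subgroup.coe_pow]
    exact pow_mem hx _

end Block

section Cyclic

universe u v w

variable {p : ℕ} [Fact p.Prime]

/-- A subgroup with cyclic `ℓ`-subgroups for `ℓ ≠ p` has no nontrivial extension with kernel prime
to `p`. -/
theorem simplyP_of_cyclic {G : Type v} [Group G] {L : Subgroup G} [Finite L]
    (h : ∀ ℓ : ℕ, ℓ.Prime → ℓ ≠ p → ∀ P : Subgroup L, IsPGroup ℓ P → IsCyclic P) :
    SimplyP.{u} p L := by
  intro E _ _ τ hτ hgen
  have hst := isStemExtension_of_gen hτ hgen
  refine CfsgLib.SL2Mult.ker_eq_bot_of_sylow fun ℓ hℓ P => ?_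
  have hstem := CfsgLib.SL2Mult.isStemExtension_sylow hst P
  rcases eq_or_ne ℓ p with rfl | hℓp
  · rw [eq_bot_iff]
    intro z hz
    have hz' : (z : E) ∈ τ.ker := congrArg Subtype.val (MonoidHom.mem_ker.1 hz)
    exact mem_bot.2 (Subtype.ext (hτ.eq_one_of_pEl hz' (IsPEl.of_mem P.2 z.2)))
  · have : IsCyclic ((P : Subgroup E).map τ) := h ℓ hℓ.out hℓp _ (P.2.map τ)
    exact CfsgLib.StemExt.ker_eq_bot_of_isCyclic hstem

/-- Cyclic Sylow subgroups pull back along injective maps. -/
theorem isCyclic_pgroup_of_injective {L : Type v} {H : Type w} [Group L] [Group H] [Finite H] {ℓ : ℕ}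
    [Fact ℓ.Prime] (f : L →* H) (hf : Function.Injective f)
    (hH : ∀ P : Sylow ℓ H, IsCyclic P) {P : Subgroup L} (hP : IsPGroup ℓ P) : IsCyclic P := by
  obtain ⟨Q, hQ⟩ := (hP.map f).exists_le_sylow
  have := hH Q
  have : IsCyclic (P.map f) :=
    _root_.isCyclic_of_injective (Subgroup.inclusion hQ) (Subgroup.inclusion_injective hQ)
  exact _root_.isCyclic_of_injective (P.equivMapOfInjective f hf).toMonoidHom
    (P.equivMapOfInjective f hf).injective

end Cyclic

end CfsgLib.TwMult
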