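import Cfsg.Agent.TwMult.Lift
import Cfsg.Agent.SL2Mult.Pairing
import Mathlib.FieldTheory.Finite.Basic

/-!
The commutators of lifts in a central extension.
-/

set_option autoImplicit false
set_option linter.unusedSectionVars false

namespace CfsgLib.TwMult

open Subgroup
open scoped commutatorElement

universe u v

/-- A central extension. -/
structure CExt {Γ : Type u} {G : Type v} [Group Γ] [Group G] (σ : Γ →* G) : Prop where
  surj : Function.Surjective σ
  central : σ.ker ≤ center Γ

namespace CExt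

variable {Γ : Type u} {G : Type v} [Group Γ] [Group G] {σ : Γ →* G} (E : CExt σ)
include E

/-- A preimage. -/
noncomputable def l (E : CExt σ) (x : G) : Γ := Function.surjInv E.surj x

theorem map_l (x : G) : σ (E.l x) = x := Function.surjInv_eq E.surj x

/-- The commutator of lifts. -/
noncomputable def cm (E : CExt σ) (x y : G) : Γ := ⁅E.l x, E.l y⁆

theorem cm_eq {a b : Γ} {x y : G} (ha : σ a = x) (hb : σ b = y) : ⁅a, b⁆ = E.cm x y :=
  commutator_congr E.central (ha.trans (E.map_l x).symm) (hb.trans (E.map_l y).symm)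

theorem map_cm (x y : G) : σ (E.cm x y) = ⁅x, y⁆ := by
  rw [cm, map_commutatorElement, E.map_l, E.map_l]

theorem cm_conj (g : Γ) (x y : G) :
    g * E.cm x y * g⁻¹ = E.cm (σ g * x * (σ g)⁻¹) (σ g * y * (σ g)⁻¹) := by
  rw [cm, conjugate_commutatorElement]
  exact E.cm_eq (by simp [E.map_l]) (by simp [E.map_l])

theorem cm_inv (x y : G) : (E.cm x y)⁻¹ = E.cm y x := commutatorElement_inv _ _

theorem cm_symm {x y : G} (h : E.cm x y = 1) : E.cm y x = 1 := by
  rw [← E.cm_inv, h, inv_one]

theorem comm_of_cm {a b : Γ} (h : E.cm (σ a) (σ b) = 1) : Commute a b := by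
  rw [← E.cm_eq rfl rfl] at h
  exact commutatorElement_eq_one_iff_commute.1 h

theorem cm_eq_one_iff {a b : Γ} {x y : G} (ha : σ a = x) (hb : σ b = y) :
    E.cm x y = 1 ↔ Commute a b := by
  rw [← E.cm_eq ha hb]
  exact commutatorElement_eq_one_iff_commute

theorem cm_central {x y : G} (h : Commute x y) (g : Γ) : Commute g (E.cm x y) := by
  have hk : E.cm x y ∈ σ.ker := by
    rw [MonoidHom.mem_ker, E.map_cm]
    exact commutatorElement_eq_one_iff_commute.2 h
  exact mem_center_iff.1 (E.central hk) g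

theorem cm_one_left (y : G) : E.cm 1 y = 1 := by
  rw [← E.cm_eq (map_one σ) (E.map_l y)]
  simp [commutatorElement_def]

theorem cm_one_right (x : G) : E.cm x 1 = 1 := E.cm_symm (E.cm_one_left x)

theorem cm_mul_right (x y z : G) :
    E.cm x (y * z) = E.cm x y * (E.l y * E.cm x z * (E.l y)⁻¹) := by
  rw [← E.cm_eq (E.map_l x) (show σ (E.l y * E.l z) = y * z by rw [map_mul, E.map_l, E.map_l]),
    cm, cm, commutatorElement_def, commutatorElement_def, commutatorElement_def]
  group

theorem cm_mul_left (x y z : G) :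
    E.cm (x * y) z = E.l x * E.cm y z * (E.l x)⁻¹ * E.cm x z := by
  rw [← E.cm_eq (show σ (E.l x * E.l y) = x * y by rw [map_mul, E.map_l, E.map_l]) (E.map_l z),
    cm, cm, commutatorElement_def, commutatorElement_def, commutatorElement_def]
  group

theorem cm_mul_right' {x y z : G} (h : Commute (E.l y) (E.cm x z)) :
    E.cm x (y * z) = E.cm x y * E.cm x z := by
  rw [E.cm_mul_right, h.eq, mul_inv_cancel_right]

theorem cm_mul_left' {x y z : G} (h : Commute (E.l x) (E.cm y z)) :
    E.cm (x * y) z = E.cm y z * E.cm x z := by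
  rw [E.cm_mul_left, h.eq, mul_inv_cancel_right]

/-- A preimage of a product commutes with what both factors commute with. -/
theorem cm_mul_eq_one {x y z : G} (hy : E.cm x y = 1) (hz : E.cm x z = 1) :
    E.cm x (y * z) = 1 := by
  rw [E.cm_mul_right, hy, hz, mul_one, mul_inv_cancel, mul_one]

theorem cm_inv_eq_one {x y : G} (h : E.cm x y = 1) : E.cm x y⁻¹ = 1 := by
  have h1 := E.cm_mul_right x y y⁻¹
  rw [mul_inv_cancel, E.cm_one_right, h, one_mul] at h1
  exact conj_eq_one_iff.1 h1.symm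

/-- The elements whose lifts centralise the lifts of `x`. -/
def cen (E : CExt σ) (x : G) : Subgroup G where
  carrier := {y | E.cm x y = 1}
  one_mem' := E.cm_one_right x
  mul_mem' := E.cm_mul_eq_one
  inv_mem' := E.cm_inv_eq_one

theorem mem_cen {x y : G} : y ∈ E.cen x ↔ E.cm x y = 1 := Iff.rfl

theorem cm_pow_left {x y : G} (h : Commute x y) (k : ℕ) : E.cm (x ^ k) y = E.cm x y ^ k := by
  induction k with
  | zero => rw [pow_zero, pow_zero, E.cm_one_left]
  | succ k ih =>
    rw [pow_succ' x, E.cm_mul_left' (E.cm_central (h.pow_left k) _), ih, ← pow_succ]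

/-- An element of order prime to `p` centralises the preimages of the fixed elements of order
`p`. -/
theorem cm_of_fix {h x : G} {p n : ℕ} (hh : h ^ n = 1) (hx : x ^ p = 1) (hc : Nat.Coprime n p)
    (hfix : Commute h x) : E.cm h x = 1 := by
  have h1 : E.cm h x ^ n = 1 := by rw [← E.cm_pow_left hfix, hh, E.cm_one_left]
  have h2 : E.cm h x ^ p = 1 := by
    have h3 := E.cm_pow_left hfix.symm p
    rw [hx, E.cm_one_left, ← E.cm_inv, inv_pow, eq_comm, inv_eq_one] at h3
    exact h3
  have h3 := orderOf_dvd_of_pow_eq_one h1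
  have h4 := orderOf_dvd_of_pow_eq_one h2
  exact orderOf_eq_one_iff.1 (Nat.eq_one_of_dvd_coprimes hc h3 h4)

variable {R : Type*} [Field R]

/-- A lift fixed by `h` centralises the lifts of a family moved by `h`. -/
theorem cm_family {h x : G} (hhx : Commute h x) {y : R → G}
    (hy : ∀ a b, y (a + b) = y a * y b) (hxy : ∀ a, Commute x (y a)) {μ : R} (hμ : μ ≠ 1)
    (hhy : ∀ a, h * y a * h⁻¹ = y (μ * a)) (a : R) : E.cm x (y a) = 1 := by
  have hadd : ∀ a b, E.cm x (y (a + b)) = E.cm x (y a) * E.cm x (y b) := fun a b => by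
    rw [hy, E.cm_mul_right' (E.cm_central (hxy b) _)]
  have hinv : ∀ a, E.cm x (y (μ * a)) = E.cm x (y a) := fun a => by
    have h1 := E.cm_conj (E.l h) x (y a)
    rw [E.map_l, hhx.eq, mul_inv_cancel_right, hhy] at h1
    rw [← h1, (E.cm_central (hxy a) (E.l h)).eq, mul_inv_cancel_right]
  have h1 : a = (μ - 1) * ((μ - 1)⁻¹ * a) := by
    rw [← mul_assoc, mul_inv_cancel₀ (sub_ne_zero.2 hμ), one_mul]
  have h2 := hadd ((μ - 1) * ((μ - 1)⁻¹ * a)) ((μ - 1)⁻¹ * a)
  rw [← h1, show a + (μ - 1)⁻¹ * a = μ * ((μ - 1)⁻¹ * a) by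
    field_simp [sub_ne_zero.2 hμ]; ring, hinv] at h2
  exact mul_eq_right.1 h2.symm

/-- Two commuting families scaled by all squares have commuting lifts. -/
theorem cm_pair [Fintype R] {x y : R → G} (hx : ∀ a b, x (a + b) = x a * x b)
    (hy : ∀ a b, y (a + b) = y a * y b) (hxy : ∀ a b, Commute (x a) (y b))
    (hscale : ∀ t : R, t ≠ 0 → ∃ g : G, (∀ a, g * x a * g⁻¹ = x (t ^ 2 * a)) ∧
      ∀ a, g * y a * g⁻¹ = y (t ^ 2 * a))
    (h2 : (2 : R) = 0 → 4 < Fintype.card R) (h3 : (2 : R) ≠ 0 → 10 < Fintype.card R) (a b : R) :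
    E.cm (x a) (y b) = 1 := by
  refine CfsgLib.SL2Mult.pairing_trivial (fun a b => E.cm (x a) (y b)) (fun a b c => ?_)
    (fun a b c => ?_) (fun t ht a b => ?_) h2 h3 a b
  · show E.cm _ _ = E.cm _ _ * E.cm _ _
    rw [hx, E.cm_mul_left' (E.cm_central (hxy b c) _)]
    exact ((E.cm_central (hxy b c) _).eq).symm
  · show E.cm _ _ = E.cm _ _ * E.cm _ _
    rw [hy, E.cm_mul_right' (E.cm_central (hxy a c) _)]
  · obtain ⟨g, hgx, hgy⟩ := hscale t ht
    have h1 := E.cm_conj (E.l g) (x a) (y b)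
    rw [E.map_l, hgx, hgy, (E.cm_central (hxy a b) (E.l g)).eq, mul_inv_cancel_right] at h1
    exact h1.symm

end CExt

end CfsgLib.TwMult
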