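import Cfsg.Agent.Chev.D4TwQ
import Cfsg.Agent.Chev.D4TwOut

/-!
Relations in the unipotent subgroup of `³D₄(q)` used for its multiplier.
-/

set_option autoImplicit false
set_option linter.style.haveILetI false
set_option linter.unusedSectionVars false

namespace CfsgLib.Chev.D4Tw

open Cfsg.Lie Tab
open scoped MatrixGroups commutatorElement

variable {K : Type*} [Field K] [Fintype K] {q : ℕ}

theorem simpleTab : chevD4.simple 0 = 18 ∧ chevD4.simple 1 = 14 ∧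
    ∀ i : Fin 4, D4Data.tab.cart i 19 = D4Data.tab.cart i 14 + D4Data.tab.cart i 18 := by
  decide +kernel

namespace Ctx

variable (C : Ctx K q)
include C

/-- The long fundamental root group. -/
noncomputable def gA (C : Ctx K q) (a : C.kF) : C.Z.G1 := C.uQ a 0 0 0 0

/-- The third root group. -/
noncomputable def gC (C : Ctx K q) (c : K) : C.Z.G1 := C.uQ 0 c 0 0 0

/-- The fourth root group. -/
noncomputable def gD (C : Ctx K q) (d : K) : C.Z.G1 := C.uQ 0 0 d 0 0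

/-- The fifth root group. -/
noncomputable def gE (C : Ctx K q) (e : C.kF) : C.Z.G1 := C.uQ 0 0 0 e 0

/-- The highest root group. -/
noncomputable def gF (C : Ctx K q) (f : C.kF) : C.Z.G1 := C.uQ 0 0 0 0 f

theorem uQ_eq (c d : K) (e f : C.kF) :
    C.uQ 0 c d e f = C.gC c * C.gD d * C.gE e * C.gF f := by
  simp [gC, gD, gE, gF, C.uQ_mul]

theorem gA_add (a a' : C.kF) : C.gA (a + a') = C.gA a * C.gA a' := by simp [gA, C.uQ_mul]

theorem gC_add (c c' : K) : C.gC (c + c') = C.gC c * C.gC c' := by simp [gC, C.uQ_mul]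

theorem gD_add (d d' : K) : C.gD (d + d') = C.gD d * C.gD d' := by simp [gD, C.uQ_mul]

theorem gE_add (e e' : C.kF) : C.gE (e + e') = C.gE e * C.gE e' := by simp [gE, C.uQ_mul]

theorem gF_add (f f' : C.kF) : C.gF (f + f') = C.gF f * C.gF f' := by simp [gF, C.uQ_mul]

theorem gB_add (b b' : K) : C.uB (b + b') = C.uB b * C.uB b' := by
  refine Subtype.ext ?_
  show C.UC 0 (b + b') 0 0 0 0 = C.UC 0 b 0 0 0 0 * C.UC 0 b' 0 0 0 0
  rw [C.UC_mul (map_zero _)]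
  congr 1 <;> simp [mulD, mulE, mulF]

theorem comm_AC (a : C.kF) (c : K) : Commute (C.gA a) (C.gC c) := by
  simp [Commute, SemiconjBy, gA, gC, C.uQ_mul]

theorem comm_AD (a : C.kF) (d : K) : Commute (C.gA a) (C.gD d) := by
  simp [Commute, SemiconjBy, gA, gD, C.uQ_mul]

theorem comm_AF (a f : C.kF) : Commute (C.gA a) (C.gF f) := by
  simp [Commute, SemiconjBy, gA, gF, C.uQ_mul]

theorem comm_EC (e : C.kF) (c : K) : Commute (C.gE e) (C.gC c) := by
  simp [Commute, SemiconjBy, gE, gC, C.uQ_mul]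

theorem comm_ED (e : C.kF) (d : K) : Commute (C.gE e) (C.gD d) := by
  simp [Commute, SemiconjBy, gE, gD, C.uQ_mul]

theorem comm_FC (f : C.kF) (c : K) : Commute (C.gF f) (C.gC c) := by
  simp [Commute, SemiconjBy, gF, gC, C.uQ_mul]

theorem comm_FD (f : C.kF) (d : K) : Commute (C.gF f) (C.gD d) := by
  simp [Commute, SemiconjBy, gF, gD, C.uQ_mul]

theorem comm_CC (c c' : K) : Commute (C.gC c) (C.gC c') := by
  rw [Commute, SemiconjBy, ← C.gC_add, ← C.gC_add, add_comm]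

theorem comm_DD (d d' : K) : Commute (C.gD d) (C.gD d') := by
  rw [Commute, SemiconjBy, ← C.gD_add, ← C.gD_add, add_comm]

theorem comm_BB (b b' : K) : Commute (C.uB b) (C.uB b') := by
  rw [Commute, SemiconjBy, ← C.gB_add, ← C.gB_add, add_comm]

theorem comm_EB (e : C.kF) (b : K) : Commute (C.gE e) (C.uB b) := by
  have h := C.conj_B b 0 e 0
  simp only [mul_zero, map_zero, sub_zero] at h
  exact h

theorem comm_FB (f : C.kF) (b : K) : Commute (C.gF f) (C.uB b) := by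
  have h := C.conj_B b 0 0 f
  simp only [mul_zero, map_zero, sub_zero] at h
  exact h

theorem brDB (d b : K) : ⁅C.gD d, C.uB b⁆ = C.gE (-C.Tk (C.φ b * d)) := by
  have h := C.conj_B b d 0 0
  rw [show C.uQ 0 0 d (0 - C.Tk (C.φ b * d)) 0 = C.gD d * C.gE (-C.Tk (C.φ b * d)) by
    simp [gD, gE, C.uQ_mul]] at h
  rw [commutatorElement_def, show C.gD d * C.uB b = C.uB b * (C.gD d * C.gE _) from h,
    (C.comm_ED _ d).symm.eq,
    show C.uB b * (C.gE (-C.Tk (C.φ b * d)) * C.gD d) * (C.gD d)⁻¹ * (C.uB b)⁻¹ =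
      C.uB b * C.gE (-C.Tk (C.φ b * d)) * (C.uB b)⁻¹ by group, (C.comm_EB _ b).symm.eq,
    mul_inv_cancel_right]

theorem brDC (d c : K) : ⁅C.gD d, C.gC c⁆ = C.gF (-C.Tk (C.φ c * d)) := by
  have h : C.gD d * C.gC c = C.gC c * (C.gD d * C.gF (-C.Tk (C.φ c * d))) := by
    simp [gC, gD, gF, C.uQ_mul]
  rw [commutatorElement_def, h, (C.comm_FD _ d).symm.eq,
    show C.gC c * (C.gF (-C.Tk (C.φ c * d)) * C.gD d) * (C.gD d)⁻¹ * (C.gC c)⁻¹ =
      C.gC c * C.gF (-C.Tk (C.φ c * d)) * (C.gC c)⁻¹ by group, (C.comm_FC _ c).symm.eq,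
    mul_inv_cancel_right]

theorem brBC (b c : K) : ∃ e f : C.kF,
    ⁅C.uB b, C.gC c⁆ = C.uQ 0 0 (C.φ (C.φ b) * c + b * C.φ (C.φ c)) e f := by
  obtain ⟨e, f, h⟩ : ∃ e f : C.kF, C.gC (-c) * C.uB (-b) = C.uB (-b) * C.gC (-c) *
      C.uQ 0 0 (-(C.φ (C.φ b) * c + b * C.φ (C.φ c))) e f := by
    refine ⟨C.Tk (-c * C.φ (-b) * C.φ (C.φ (-b))),
      C.Tk (-c * C.φ (-c) * C.φ (C.φ (-b))), ?_⟩
    refine Subtype.ext ?_
    show C.UC 0 0 (-c) 0 0 0 * C.UC 0 (-b) 0 0 0 0 = C.UC 0 (-b) 0 0 0 0 * C.UC 0 0 (-c) 0 0 0 *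
      C.UC 0 0 0 (-(C.φ (C.φ b) * c + b * C.φ (C.φ c))) _ _
    rw [C.UC_mul (map_zero _), C.UC_mul (map_zero _), C.UC_mul (map_zero _)]
    congr 1 <;> simp [mulD, mulE, mulF, Tk, C.φ_cube] <;> ring
  refine ⟨-e, -f, ?_⟩
  have hB : C.uB b = (C.uB (-b))⁻¹ := eq_inv_of_mul_eq_one_left (by
    rw [← C.gB_add, add_neg_cancel]; exact Subtype.ext C.UC_zero)
  have hC : C.gC c = (C.gC (-c))⁻¹ := eq_inv_of_mul_eq_one_left (by
    rw [← C.gC_add, add_neg_cancel]; exact C.uQ_zero)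
  rw [hB, hC, commutatorElement_def, inv_inv, inv_inv,
    show (C.uB (-b))⁻¹ * (C.gC (-c))⁻¹ * C.uB (-b) * C.gC (-c) =
      (C.gC (-c) * C.uB (-b))⁻¹ * (C.uB (-b) * C.gC (-c)) by group, h,
    _root_.mul_inv_rev, inv_mul_cancel_right]
  exact inv_eq_of_mul_eq_one_right (by simp [C.uQ_mul, C.uQ_zero])

theorem conj_AB (a : C.kF) (b : K) : ∃ (c d : K) (e f : C.kF),
    C.gA a * C.uB b * (C.gA a)⁻¹ = C.uB b * C.uQ 0 c d e f := by
  obtain ⟨F, h⟩ := C.conj_B_a b a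
  refine ⟨(a : K) * b, -((a : K) * b * C.φ (C.φ b)), a * C.Nk b, F + a * (a * C.Nk b), ?_⟩
  rw [mul_inv_eq_iff_eq_mul, gA, h, mul_assoc (C.uB b), C.uQ_mul]
  simp

theorem conj_AE (a e : C.kF) : ∃ f : C.kF, C.gA a * C.gE e * (C.gA a)⁻¹ = C.gE e * C.gF f := by
  refine ⟨a * e, ?_⟩
  rw [mul_inv_eq_iff_eq_mul]
  simp [gA, gE, gF, C.uQ_mul]

theorem exists_coord {g : C.Z.G1} (hg : g ∈ C.Z.U1.subgroupOf C.Z.G1) :
    ∃ (a : C.kF) (b c d : K) (e f : C.kF), g = C.gA a * (C.uB b * C.uQ 0 c d e f) := by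
  obtain ⟨a, b, c, d, e, f, ha, he, hf, eq⟩ := C.mem_U1.mp (show (g : GL chevD4.Idx K) ∈ C.Z.U1 from hg)
  refine ⟨⟨a, ha⟩, b, c, d, ⟨e, he⟩, ⟨f, hf⟩, Subtype.ext (eq.trans ?_)⟩
  show _ = C.UC a 0 0 0 0 0 * (C.UC 0 b 0 0 0 0 * C.UC 0 0 c d e f)
  have e2 : C.UC 0 b 0 0 0 0 * C.UC 0 0 c d e f = C.UC 0 b c d e f := by
    rw [C.UC_mul (map_zero _)]
    congr 1 <;> simp [mulD, mulE, mulF]
  rw [e2, C.UC_mul (map_zero _)]
  congr 1 <;> simp [mulD, mulE, mulF]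

theorem B_uQ_inj {b c d : K} {e f : C.kF} (h : C.uB b * C.uQ 0 c d e f = 1) :
    b = 0 ∧ c = 0 ∧ d = 0 ∧ e = 0 ∧ f = 0 := by
  have h1 : C.UC 0 b 0 0 0 0 * C.UC 0 0 c d e f = C.UC 0 0 0 0 0 0 := by
    rw [C.UC_zero]; exact congrArg Subtype.val h
  rw [C.UC_mul (map_zero _)] at h1
  obtain ⟨-, hb, hc, hd, he, hf⟩ := C.UC_inj h1
  simp [mulD, mulE, mulF] at hb hc hd he hf
  exact ⟨hb, hc, hd, he, hf⟩

theorem tH_uB (c : C.A.Cσ) (b : K) :
    C.tH c * C.uB b * (C.tH c)⁻¹ = C.uB (C.cv 18 c * b) := by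
  refine Subtype.ext ((C.tH_UC c (map_zero _) (map_zero _) (map_zero _)).trans ?_)
  simp only [mul_zero]
  rfl

theorem tH_gA (c : C.A.Cσ) (a : C.kF) :
    C.tH c * C.gA a * (C.tH c)⁻¹ = C.gA (⟨C.cv 14 c, (C.cv_fixed c).1⟩ * a) := by
  rw [gA, C.tH_conj]; simp [gA]

theorem tH_gC (c : C.A.Cσ) (x : K) :
    C.tH c * C.gC x * (C.tH c)⁻¹ = C.gC (C.cv 19 c * x) := by
  rw [gC, C.tH_conj]; simp [gC]

theorem tH_gD (c : C.A.Cσ) (x : K) :
    C.tH c * C.gD x * (C.tH c)⁻¹ = C.gD (C.cv 20 c * x) := by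
  rw [gD, C.tH_conj]; simp [gD]

theorem tH_gE (c : C.A.Cσ) (e : C.kF) :
    C.tH c * C.gE e * (C.tH c)⁻¹ = C.gE (⟨C.cv 22 c, (C.cv_fixed c).2.1⟩ * e) := by
  rw [gE, C.tH_conj]; simp [gE]

theorem tH_gF (c : C.A.Cσ) (f : C.kF) :
    C.tH c * C.gF f * (C.tH c)⁻¹ = C.gF (⟨C.cv 23 c, (C.cv_fixed c).2.2⟩ * f) := by
  rw [gF, C.tH_conj]; simp [gF]

theorem tH_comm (c c' : C.A.Cσ) : Commute (C.tH c) (C.tH c') := Subtype.ext (by
  show D4Data.tab.hT K c.1 * D4Data.tab.hT K c'.1 = D4Data.tab.hT K c'.1 * D4Data.tab.hT K c.1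
  rw [← map_mul, ← map_mul, mul_comm])

theorem cv18_genC (t : Kˣ) : C.cv 18 ⟨C.genC t, C.genC_mem t⟩ = (t : K) ^ 2 := by
  have h := congrArg Units.val (C.chi_eq (C.genC t)).2
  show ((D4Data.tab.chi (F := K) 18 (C.genC t) : Kˣ) : K) = _
  rw [← simpleTab.1]
  refine h.trans ?_
  simp [genC]

theorem cv_add (c : C.A.Cσ) : C.cv 19 c = C.cv 14 c * C.cv 18 c := by
  have e : D4Data.tab.chi (F := K) 19 c.1 =
      D4Data.tab.chi (F := K) 14 c.1 * D4Data.tab.chi (F := K) 18 c.1 := by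
    show ∏ i : Fin 4, c.1 i ^ D4Data.tab.cart i 19 =
      (∏ i : Fin 4, c.1 i ^ D4Data.tab.cart i 14) * ∏ i : Fin 4, c.1 i ^ D4Data.tab.cart i 18
    rw [← Finset.prod_mul_distrib]
    exact Finset.prod_congr rfl fun i _ => by rw [simpleTab.2.2 i, _root_.zpow_add]
  show ((D4Data.tab.chi (F := K) 19 c.1 : Kˣ) : K) = _
  rw [e, Units.val_mul]
  rfl

theorem exists_sq_B {t : K} (ht : t ≠ 0) : ∃ c : C.A.Cσ, C.cv 18 c = t ^ 2 :=
  ⟨_, C.cv18_genC (Units.mk0 t ht)⟩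

theorem exists_sq_C {t : K} (ht : t ≠ 0) : ∃ c : C.A.Cσ, C.cv 19 c = t ^ 2 := by
  set u : Kˣ := (Units.map C.φ.toMonoidHom (Units.mk0 t ht) *
    Units.map C.φ.toMonoidHom (Units.map C.φ.toMonoidHom (Units.mk0 t ht)))⁻¹ with hu
  refine ⟨⟨C.genC u, C.genC_mem u⟩, ((C.chi_genC u).2.2.2.2.2.1).trans ?_⟩
  have h1 : C.φ t ≠ 0 := (map_ne_zero C.φ).2 ht
  have h2 : C.φ (C.φ t) ≠ 0 := (map_ne_zero C.φ).2 h1
  simp [hu, C.φ_cube]
  field_simp

theorem exists_sq_D {t : K} (ht : t ≠ 0) : ∃ c : C.A.Cσ, C.cv 20 c = t ^ 2 := by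
  set u : Kˣ := Units.map C.φ.toMonoidHom (Units.mk0 t ht) * Units.mk0 t ht with hu
  refine ⟨⟨C.genC u, C.genC_mem u⟩, ((C.chi_genC u).2.2.2.2.2.2).trans ?_⟩
  have h1 : C.φ t ≠ 0 := (map_ne_zero C.φ).2 ht
  have h2 : C.φ (C.φ t) ≠ 0 := (map_ne_zero C.φ).2 h1
  simp [hu, C.φ_cube]
  field_simp

theorem exists_BC {t : K} (ht : t ≠ 0) :
    ∃ c : C.A.Cσ, C.cv 18 c = t ∧ C.cv 19 c = t := by
  obtain ⟨c, h1, h2⟩ := C.exists_chi (a := 1) (b := Units.mk0 t ht) (one_pow q)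
  have e18 : C.cv 18 c = t := by
    show ((D4Data.tab.chi (F := K) 18 c.1 : Kˣ) : K) = t
    rw [← simpleTab.1]
    exact congrArg Units.val h2
  have e14 : C.cv 14 c = 1 := by
    show ((D4Data.tab.chi (F := K) 14 c.1 : Kˣ) : K) = 1
    rw [← simpleTab.2.1]
    exact congrArg Units.val h1
  exact ⟨c, e18, by rw [C.cv_add, e14, one_mul, e18]⟩

/-- A torus element fixing the long root groups and moving the short ones by a generator of the
field. -/
theorem exists_special {p : ℕ} [Fact p.Prime] (hpq : p ∣ q) :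
    ∃ (c : C.A.Cσ) (l : K) (n : ℕ), C.cv 14 c = 1 ∧ C.cv 22 c = 1 ∧ C.cv 23 c = 1 ∧
      C.cv 18 c = l ∧ C.cv 19 c = l ∧ C.cv 20 c = (C.φ l)⁻¹ ∧ l ≠ 0 ∧ l ≠ 1 ∧
      (∀ S : Subfield K, l ∈ S → S = ⊤) ∧ C.tH c ^ n = 1 ∧ n.Coprime p := by
  obtain ⟨g, hg⟩ := IsCyclic.exists_generator (α := Kˣ)
  have hq := C.hq.two_le
  set n := q ^ 2 + q + 1 with hn
  obtain ⟨x, hx⟩ : ∃ x, x = g ^ (q - 1) := ⟨_, rfl⟩
  have hord : orderOf x = n := by
    have h1 : orderOf g = (q - 1) * n := by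
      rw [orderOf_gen hg C.hq C.hK, hn]
      zify [Nat.one_le_pow 3 q (by omega), show 1 ≤ q by omega]
      ring
    rw [hx, orderOf_pow_of_dvd (by omega) (h1 ▸ dvd_mul_right _ _), h1,
      Nat.mul_div_cancel_left _ (by omega)]
  have hxn : x ^ n = 1 := hord ▸ pow_orderOf_eq_one x
  have hodd : n.Coprime 2 := by
    rw [Nat.coprime_two_right, hn, Nat.odd_iff]
    have := Nat.even_mul_succ_self q
    rw [Nat.even_iff] at this
    rw [show q ^ 2 + q + 1 = q * (q + 1) + 1 by ring]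
    omega
  have hord2 : orderOf (x ^ 2) = n := by
    rw [(Nat.Coprime.orderOf_pow (by rw [hord]; exact hodd)), hord]
  have hcop : n.Coprime p := by
    obtain ⟨r, hr⟩ := hpq
    refine ((Fact.out : p.Prime).coprime_iff_not_dvd.2 fun hd => ?_).symm
    rw [hn, hr, show (p * r) ^ 2 + p * r + 1 = p * (p * r * r + r) + 1 by ring,
      Nat.dvd_add_right (dvd_mul_right _ _)] at hd
    exact (Fact.out : p.Prime).not_dvd_one hd
  have hN : (x : K) * C.φ x * C.φ (C.φ x) = 1 := by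
    rw [C.hφ, C.hφ, ← Units.val_pow_eq_pow_val, ← Units.val_pow_eq_pow_val, ← Units.val_mul,
      ← Units.val_mul, Units.val_eq_one, ← pow_mul, show x * x ^ q * x ^ (q * q) = x ^ n by
        rw [← pow_succ', ← pow_add, hn]; ring_nf]
    exact hxn
  refine ⟨⟨C.genC x, C.genC_mem x⟩, (x : K) ^ 2, n, ?_, (C.chi_genC x).2.2.1.trans hN,
    (C.chi_genC x).2.2.2.2.1, C.cv18_genC x, ?_, ?_, pow_ne_zero _ x.ne_zero, fun h => ?_,
    fun S hS => ?_, ?_, hcop⟩
  · exact (C.chi_genC x).1.trans (by rw [hN, inv_one])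
  · refine ((C.chi_genC x).2.2.2.2.2.1).trans ?_
    have h1 : C.φ (x : K) * C.φ (C.φ x) ≠ 0 :=
      mul_ne_zero ((map_ne_zero C.φ).2 x.ne_zero)
        ((map_ne_zero C.φ).2 ((map_ne_zero C.φ).2 x.ne_zero))
    rw [div_eq_iff h1]
    linear_combination (-(x : K)) * hN
  · refine ((C.chi_genC x).2.2.2.2.2.2).trans ?_
    have h1 : C.φ (x : K) ≠ 0 := (map_ne_zero C.φ).2 x.ne_zero
    rw [map_pow]
    field_simp
    linear_combination hN
  · have h' : x ^ 2 = 1 := Units.ext (by rw [Units.val_pow_eq_pow_val]; exact h)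
    rw [h', orderOf_one] at hord2
    omega
  · classical
    haveI : Fintype S := Fintype.ofFinite S
    have hcard : Fintype.card K = Fintype.card S ^ Module.finrank S K :=
      Module.card_eq_pow_finrank
    rw [C.hK] at hcard
    rcases Nat.lt_or_ge (Module.finrank S K) 2 with hd | hd
    · have hpos : 0 < Module.finrank S K := Module.finrank_pos
      rw [show Module.finrank S K = 1 by omega, pow_one] at hcard
      exact Subfield.ext fun y => iff_of_true (by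
        have hb : Function.Bijective (Subtype.val : S → K) :=
          (Fintype.bijective_iff_injective_and_card _).2 ⟨Subtype.val_injective, by rw [C.hK, hcard]⟩
        obtain ⟨s, rfl⟩ := hb.2 y
        exact s.2) trivial
    · exfalso
      have hle : Fintype.card S ^ 2 ≤ q ^ 3 := hcard ▸
        Nat.pow_le_pow_right Fintype.card_pos hd
      have hs : (⟨_, hS⟩ : S) ^ (Fintype.card S - 1) = 1 :=
        FiniteField.pow_card_sub_one_eq_one _ fun h0 =>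
          pow_ne_zero 2 x.ne_zero (congrArg Subtype.val h0)
      have hs' : (x ^ 2) ^ (Fintype.card S - 1) = 1 := Units.ext (by
        have := congrArg Subtype.val hs
        simpa using this)
      have hdvd := orderOf_dvd_of_pow_eq_one hs'
      rw [hord2] at hdvd
      have h1 : 1 < Fintype.card S := Fintype.one_lt_card
      have h2 := Nat.le_of_dvd (by omega) hdvd
      have h3 : q ^ 2 < Fintype.card S := by omega
      have h4 : (q ^ 2) ^ 2 < Fintype.card S ^ 2 := Nat.pow_lt_pow_left h3 (by norm_num)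
      have h5 : q ^ 3 ≤ (q ^ 2) ^ 2 := by
        rw [← pow_mul]; exact Nat.pow_le_pow_right (by omega) (by norm_num)
      omega
  · refine Subtype.ext ?_
    show D4Data.tab.hT K (C.genC x) ^ n = 1
    have key : ∀ i : Fin 4, (![x, 1, x ^ q, (x ^ q) ^ q] : Fin 4 → Kˣ) i ^ n = 1 := by
      have h : ∀ y : Kˣ, y ^ n = 1 → (y ^ q) ^ n = 1 := fun y hy => by
        rw [← pow_mul, mul_comm, pow_mul, hy, one_pow]
      intro i
      fin_cases i <;> simp [hxn, h x hxn, h _ (h x hxn)]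
    have e : C.genC x ^ n = 1 := funext key
    rw [← map_pow, e, map_one]

/-- An element of trace zero is a difference of conjugates. -/
theorem exists_of_Tk_zero {v : K} (hv : C.Tk v = 0) : ∃ z, C.φ z - z = v := by
  classical
  let f : K →+ K := C.φ.toAddMonoidHom - AddMonoidHom.id K
  have hle : f.range ≤ C.Tk.ker := by
    rintro _ ⟨z, rfl⟩
    show C.Tk (C.φ z - z) = 0
    rw [map_sub, C.Tk_φ, sub_self]
  have hk : f.ker.carrier = (C.kF : Set K) := by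
    ext z
    show C.φ z - z = 0 ↔ C.φ z = z
    exact sub_eq_zero
  have hkc : Nat.card f.ker = q := by
    rw [← C.card_kF]
    exact Nat.card_congr (Equiv.setCongr hk)
  have h1 : Nat.card f.ker * Nat.card f.range = q ^ 3 := by
    rw [← C.hK, ← Nat.card_eq_fintype_card, ← AddSubgroup.index_ker f, AddSubgroup.card_mul_index]
  have h2 : Nat.card C.Tk.ker * q = q ^ 3 := by
    have h := C.Tk.ker.card_mul_index
    rwa [AddSubgroup.index_ker, AddMonoidHom.range_eq_top.2 C.Tk_surjective, AddSubgroup.card_top,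
      C.card_kF, Nat.card_eq_fintype_card (α := K), C.hK] at h
  rw [hkc, mul_comm] at h1
  have h3 : Nat.card C.Tk.ker ≤ Nat.card f.range :=
    le_of_eq (Nat.eq_of_mul_eq_mul_right C.hq.pos (h2.trans h1.symm))
  have : f.range = C.Tk.ker := AddSubgroup.eq_of_le_of_card_ge hle h3
  exact (this.ge (show v ∈ C.Tk.ker from hv))

end Ctx

end CfsgLib.Chev.D4Tw
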