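import Cfsg.Agent.TwMult.CmTools
import Cfsg.Agent.TwMult.D4Rel

/-!
Central extensions of the unipotent subgroup of `³D₄(q)` which extend to the Borel subgroup.
-/

set_option autoImplicit false
set_option linter.style.haveILetI false
set_option linter.unusedSectionVars false

namespace CfsgLib.Chev.D4Tw

open Cfsg.Lie Tab CfsgLib.TwMult
open scoped MatrixGroups commutatorElement

/-- The subgroup of products of two subgroups, the first normalising the second. -/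
def mulSub {M : Type*} [Group M] (H N : Subgroup M) (hn : ∀ x ∈ H, ∀ y ∈ N, x * y * x⁻¹ ∈ N) :
    Subgroup M where
  carrier := {g | ∃ x ∈ H, ∃ y ∈ N, g = x * y}
  one_mem' := ⟨1, one_mem _, 1, one_mem _, (one_mul 1).symm⟩
  mul_mem' := by
    rintro a b ⟨x, hx, y, hy, rfl⟩ ⟨x', hx', y', hy', rfl⟩
    exact ⟨x * x', mul_mem hx hx', x'⁻¹ * y * x'⁻¹⁻¹ * y',
      mul_mem (hn _ (inv_mem hx') y hy) hy', by group⟩
  inv_mem' := by
    rintro a ⟨x, hx, y, hy, rfl⟩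
    exact ⟨x⁻¹, inv_mem hx, x * y⁻¹ * x⁻¹, hn x hx _ (inv_mem hy), by group⟩

variable {K : Type*} [Field K] [Fintype K] {q : ℕ}

namespace Ctx

variable (C : Ctx K q)
include C

/-- The torus element used for the multiplier. -/
structure Spec (C : Ctx K q) (p : ℕ) where
  /-- its parameter -/
  c : C.A.Cσ
  /-- its value on a short root -/
  l : K
  /-- a bound for its order -/
  n : ℕ
  h14 : C.cv 14 c = 1
  h22 : C.cv 22 c = 1
  h23 : C.cv 23 c = 1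
  h18 : C.cv 18 c = l
  h19 : C.cv 19 c = l
  h20 : C.cv 20 c = (C.φ l)⁻¹
  l_ne_zero : l ≠ 0
  l_ne_one : l ≠ 1
  gen : ∀ S : Subfield K, l ∈ S → S = ⊤
  pow_n : C.tH c ^ n = 1
  cop : n.Coprime p

theorem exists_spec {p : ℕ} [Fact p.Prime] (hpq : p ∣ q) : Nonempty (C.Spec p) := by
  obtain ⟨c, l, n, h1, h2, h3, h4, h5, h6, h7, h8, h9, h10, h11⟩ := C.exists_special (p := p) hpq
  exact ⟨⟨c, l, n, h1, h2, h3, h4, h5, h6, h7, h8, h9, h10, h11⟩⟩

variable {p : ℕ} [CharP K p] (S : C.Spec p)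

namespace Spec

variable {C}

/-- The torus element. -/
noncomputable def h : C.Z.G1 := C.tH S.c

theorem fix_A (a : C.kF) : S.h * C.gA a * S.h⁻¹ = C.gA a := by
  rw [h, C.tH_gA]; congr 1; exact Subtype.ext (by simp [S.h14])

theorem fix_E (e : C.kF) : S.h * C.gE e * S.h⁻¹ = C.gE e := by
  rw [h, C.tH_gE]; congr 1; exact Subtype.ext (by simp [S.h22])

theorem fix_F (f : C.kF) : S.h * C.gF f * S.h⁻¹ = C.gF f := by
  rw [h, C.tH_gF]; congr 1; exact Subtype.ext (by simp [S.h23])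

theorem move_B (b : K) : S.h * C.uB b * S.h⁻¹ = C.uB (S.l * b) := by
  rw [h, C.tH_uB, S.h18]

theorem move_C (b : K) : S.h * C.gC b * S.h⁻¹ = C.gC (S.l * b) := by
  rw [h, C.tH_gC, S.h19]

theorem move_D (b : K) : S.h * C.gD b * S.h⁻¹ = C.gD ((C.φ S.l)⁻¹ * b) := by
  rw [h, C.tH_gD, S.h20]

theorem μD_ne_one : (C.φ S.l)⁻¹ ≠ 1 := fun e => S.l_ne_one (C.φ.injective (by
  rw [map_one]; exact inv_eq_one.1 e))

theorem commute_A (a : C.kF) : Commute S.h (C.gA a) := mul_inv_eq_iff_eq_mul.1 (S.fix_A a)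

theorem commute_E (e : C.kF) : Commute S.h (C.gE e) := mul_inv_eq_iff_eq_mul.1 (S.fix_E e)

theorem commute_F (f : C.kF) : Commute S.h (C.gF f) := mul_inv_eq_iff_eq_mul.1 (S.fix_F f)

end Spec

theorem uQ_eq' (d : K) (e f : C.kF) : C.uQ 0 0 d e f = C.gD d * C.gE e * C.gF f := by
  simp [gD, gE, gF, C.uQ_mul]

theorem exists_brDB (e : C.kF) : ∃ d, ⁅C.gD d, C.uB 1⁆ = C.gE e := by
  obtain ⟨d, hd⟩ := C.Tk_surjective (-e)
  exact ⟨d, by rw [C.brDB, map_one, one_mul, hd, neg_neg]⟩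

theorem exists_brDC (f : C.kF) : ∃ d, ⁅C.gD d, C.gC 1⁆ = C.gF f := by
  obtain ⟨d, hd⟩ := C.Tk_surjective (-f)
  exact ⟨d, by rw [C.brDC, map_one, one_mul, hd, neg_neg]⟩

theorem nsmul_p (x : K) : p • x = 0 := by rw [nsmul_eq_mul, CharP.cast_eq_zero, zero_mul]

omit C in
theorem pow_of_add {R M : Type*} [AddMonoid R] [Group M] {y : R → M}
    (hy : ∀ a b, y (a + b) = y a * y b) (a : R) (k : ℕ) : y a ^ k = y (k • a) := by
  induction k with
  | zero =>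
    rw [pow_zero, zero_smul]
    have := hy 0 0
    rw [add_zero] at this
    exact (mul_eq_left.1 this.symm).symm
  | succ k ih => rw [pow_succ, ih, succ_nsmul, hy]

theorem pow_p_kF {y : C.kF → C.Z.G1} (hy : ∀ a b, y (a + b) = y a * y b) (a : C.kF) :
    y a ^ p = 1 := by
  rw [pow_of_add hy, show p • a = (0 : C.kF) from Subtype.ext (by
    rw [AddSubmonoidClass.coe_nsmul]; exact C.nsmul_p _)]
  have := hy 0 0
  rw [add_zero] at this
  exact mul_eq_left.1 this.symm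

section Lifts

variable {C}
variable {Γ : Type*} [Group Γ] {σ : Γ →* C.Z.G1} (X : CExt σ)
include X S

theorem hA (a : C.kF) : X.cm S.h (C.gA a) = 1 :=
  X.cm_of_fix S.pow_n (C.pow_p_kF C.gA_add a) S.cop (S.commute_A a)

theorem hE (e : C.kF) : X.cm S.h (C.gE e) = 1 :=
  X.cm_of_fix S.pow_n (C.pow_p_kF C.gE_add e) S.cop (S.commute_E e)

theorem hF (f : C.kF) : X.cm S.h (C.gF f) = 1 :=
  X.cm_of_fix S.pow_n (C.pow_p_kF C.gF_add f) S.cop (S.commute_F f)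

theorem cAC (a : C.kF) (c : K) : X.cm (C.gA a) (C.gC c) = 1 :=
  X.cm_family (S.commute_A a) C.gC_add (C.comm_AC a) S.l_ne_one S.move_C c

theorem cAD (a : C.kF) (c : K) : X.cm (C.gA a) (C.gD c) = 1 :=
  X.cm_family (S.commute_A a) C.gD_add (C.comm_AD a) S.μD_ne_one S.move_D c

theorem cEB (e : C.kF) (c : K) : X.cm (C.gE e) (C.uB c) = 1 :=
  X.cm_family (S.commute_E e) C.gB_add (C.comm_EB e) S.l_ne_one S.move_B c

theorem cEC (e : C.kF) (c : K) : X.cm (C.gE e) (C.gC c) = 1 :=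
  X.cm_family (S.commute_E e) C.gC_add (C.comm_EC e) S.l_ne_one S.move_C c

theorem cED (e : C.kF) (c : K) : X.cm (C.gE e) (C.gD c) = 1 :=
  X.cm_family (S.commute_E e) C.gD_add (C.comm_ED e) S.μD_ne_one S.move_D c

theorem cFB (e : C.kF) (c : K) : X.cm (C.gF e) (C.uB c) = 1 :=
  X.cm_family (S.commute_F e) C.gB_add (C.comm_FB e) S.l_ne_one S.move_B c

theorem cFC (e : C.kF) (c : K) : X.cm (C.gF e) (C.gC c) = 1 :=
  X.cm_family (S.commute_F e) C.gC_add (C.comm_FC e) S.l_ne_one S.move_C c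

theorem cFD (e : C.kF) (c : K) : X.cm (C.gF e) (C.gD c) = 1 :=
  X.cm_family (S.commute_F e) C.gD_add (C.comm_FD e) S.μD_ne_one S.move_D c

theorem E_mem_cen {x : C.Z.G1} (hD : ∀ d, X.cm x (C.gD d) = 1) (hB : ∀ b, X.cm x (C.uB b) = 1)
    (e : C.kF) : X.cm x (C.gE e) = 1 := by
  obtain ⟨d, hd⟩ := C.exists_brDB e
  rw [← hd, commutatorElement_def]
  exact (X.cen x).mul_mem ((X.cen x).mul_mem ((X.cen x).mul_mem (hD d) (hB 1))
    ((X.cen x).inv_mem (hD d))) ((X.cen x).inv_mem (hB 1))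

theorem F_mem_cen {x : C.Z.G1} (hD : ∀ d, X.cm x (C.gD d) = 1) (hC : ∀ b, X.cm x (C.gC b) = 1)
    (e : C.kF) : X.cm x (C.gF e) = 1 := by
  obtain ⟨d, hd⟩ := C.exists_brDC e
  rw [← hd, commutatorElement_def]
  exact (X.cen x).mul_mem ((X.cen x).mul_mem ((X.cen x).mul_mem (hD d) (hC 1))
    ((X.cen x).inv_mem (hD d))) ((X.cen x).inv_mem (hC 1))

theorem cEE (e e' : C.kF) : X.cm (C.gE e) (C.gE e') = 1 :=
  E_mem_cen S X (cED S X e) (cEB S X e) e'

theorem cEF (e e' : C.kF) : X.cm (C.gE e) (C.gF e') = 1 :=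
  F_mem_cen S X (cED S X e) (cEC S X e) e'

theorem cFF (e e' : C.kF) : X.cm (C.gF e) (C.gF e') = 1 :=
  F_mem_cen S X (cFD S X e) (cFC S X e) e'

theorem cAF (a f : C.kF) : X.cm (C.gA a) (C.gF f) = 1 :=
  F_mem_cen S X (cAD S X a) (cAC S X a) f

theorem cAA (a a' : C.kF) : X.cm (C.gA a) (C.gA a') = 1 := by
  obtain ⟨k, l, m, hk, hl, hm, -, he, -⟩ := C.n1_conj
  have hc : ∀ a, (C.Z.nG C.J1)⁻¹ * C.gE (l⁻¹ * a) * C.Z.nG C.J1 = C.gA a := fun a => by
    rw [mul_assoc, gE, he, inv_mul_cancel_left, mul_inv_cancel_left₀ hl]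
    rfl
  have h1 := X.cm_conj (X.l (C.Z.nG C.J1)⁻¹) (C.gE (l⁻¹ * a)) (C.gE (l⁻¹ * a'))
  rw [cEE S X, mul_one, mul_inv_cancel, X.map_l, inv_inv, hc, hc] at h1
  exact h1.symm

theorem card_cond : ((2 : K) = 0 → 4 < Fintype.card K) ∧ ((2 : K) ≠ 0 → 10 < Fintype.card K) := by
  rw [C.hK]
  refine ⟨fun _ => ?_, fun h => ?_⟩
  · calc 4 < 2 ^ 3 := by norm_num
      _ ≤ q ^ 3 := Nat.pow_le_pow_left C.hq.two_le 3
  · have h3 : 3 ≤ q := by
      by_contra h'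
      have h2 : q = 2 := by have := C.hq.two_le; omega
      refine h ?_
      obtain ⟨x, hx⟩ : ∃ x : K, x = 2 := ⟨2, rfl⟩
      have h8 := FiniteField.cast_card_eq_zero K
      rw [C.hK, h2] at h8
      have h8' : (2 : K) ^ 3 = 0 := by exact_mod_cast h8
      exact (pow_eq_zero_iff (by norm_num)).1 h8'
    calc 10 < 3 ^ 3 := by norm_num
      _ ≤ q ^ 3 := Nat.pow_le_pow_left h3 3

theorem cBB (b b' : K) : X.cm (C.uB b) (C.uB b') = 1 :=
  X.cm_pair C.gB_add C.gB_add C.comm_BB (fun t ht => by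
    obtain ⟨c, hc⟩ := C.exists_sq_B ht
    exact ⟨C.tH c, fun a => by rw [C.tH_uB, hc], fun a => by rw [C.tH_uB, hc]⟩)
    (card_cond S X).1 (card_cond S X).2 b b'

theorem cCC (b b' : K) : X.cm (C.gC b) (C.gC b') = 1 :=
  X.cm_pair C.gC_add C.gC_add C.comm_CC (fun t ht => by
    obtain ⟨c, hc⟩ := C.exists_sq_C ht
    exact ⟨C.tH c, fun a => by rw [C.tH_gC, hc], fun a => by rw [C.tH_gC, hc]⟩)
    (card_cond S X).1 (card_cond S X).2 b b'

theorem cDD (b b' : K) : X.cm (C.gD b) (C.gD b') = 1 :=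
  X.cm_pair C.gD_add C.gD_add C.comm_DD (fun t ht => by
    obtain ⟨c, hc⟩ := C.exists_sq_D ht
    exact ⟨C.tH c, fun a => by rw [C.tH_gD, hc], fun a => by rw [C.tH_gD, hc]⟩)
    (card_cond S X).1 (card_cond S X).2 b b'

/-- The commutators of a short family with the fourth one only depend on a product. -/
theorem exists_Phi {P : K → C.Z.G1} (hP : ∀ a b, P (a + b) = P a * P b)
    (hh : ∀ b, S.h * P b * S.h⁻¹ = P (S.l * b))
    (hvh : ∀ d b, X.cm S.h ⁅C.gD d, P b⁆ = 1)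
    (hvD : ∀ d b d', X.cm (C.gD d') ⁅C.gD d, P b⁆ = 1)
    (hvP : ∀ d b b', X.cm (P b') ⁅C.gD d, P b⁆ = 1) :
    ∃ Φ : K → Γ, (∀ u v, Φ (u + v) = Φ u * Φ v) ∧
      ∀ d b, X.cm (C.gD d) (P b) = Φ (C.φ b * d) := by
  have hcD : ∀ d b d', Commute (X.l (C.gD d')) (X.cm (C.gD d) (P b)) := fun d b d' =>
    X.comm_of_cm (by rw [X.map_l, X.map_cm]; exact hvD d b d')
  have hcP : ∀ d b b', Commute (X.l (P b')) (X.cm (C.gD d) (P b)) := fun d b b' =>
    X.comm_of_cm (by rw [X.map_l, X.map_cm]; exact hvP d b b')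
  let γ : K → K → Γ := fun y d => X.cm (C.gD d) (P (C.φ (C.φ y)))
  have hr : ∀ y d d', γ y (d + d') = γ y d' * γ y d := fun y d d' => by
    show X.cm _ _ = X.cm _ _ * X.cm _ _
    rw [C.gD_add, X.cm_mul_left' (hcD _ _ d)]
  have hl : ∀ y y' d, γ (y + y') d = γ y d * γ y' d := fun y y' d => by
    show X.cm _ _ = X.cm _ _ * X.cm _ _
    rw [map_add, map_add, hP, X.cm_mul_right' (hcP _ _ _)]
  have hcomm : ∀ y d y' d', Commute (γ y d) (γ y' d') := fun y d y' d' =>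
    X.comm_of_cm (by
      show X.cm (σ (X.cm _ _)) (σ (X.cm _ _)) = 1
      rw [X.map_cm, X.map_cm]
      refine X.cm_symm ?_
      rw [commutatorElement_def (C.gD d) (P _)]
      exact (X.cen _).mul_mem ((X.cen _).mul_mem ((X.cen _).mul_mem
        (X.cm_symm (hvD _ _ _)) (X.cm_symm (hvP _ _ _)))
        ((X.cen _).inv_mem (X.cm_symm (hvD _ _ _)))) ((X.cen _).inv_mem (X.cm_symm (hvP _ _ _))))
  have hz1 : ∀ d, γ 0 d = 1 := fun d => by simpa using hl 0 0 d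
  have hz2 : ∀ y, γ y 0 = 1 := fun y => by simpa using hr y 0 0
  have hφl : C.φ S.l ≠ 0 := (map_ne_zero C.φ).2 S.l_ne_zero
  have hinv : ∀ y d, γ (C.φ S.l * y) ((C.φ S.l)⁻¹ * d) = γ y d := fun y d => by
    have h1 := X.cm_conj (X.l S.h) (C.gD d) (P (C.φ (C.φ y)))
    have hc : Commute (X.l S.h) (X.cm (C.gD d) (P (C.φ (C.φ y)))) :=
      X.comm_of_cm (by rw [X.map_l, X.map_cm]; exact hvh d _)
    rw [hc.eq, mul_inv_cancel_right, X.map_l, S.move_D, hh] at h1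
    show X.cm _ _ = X.cm _ _
    rw [h1, map_mul, map_mul, C.φ_cube]
  let R : Subfield K :=
    { carrier := {u | ∀ y d, γ (u * y) d = γ y (u * d)}
      one_mem' := fun y d => by rw [one_mul, one_mul]
      zero_mem' := fun y d => by rw [zero_mul, zero_mul, hz1, hz2]
      add_mem' := fun {u v} hu hv y d => by
        rw [add_mul, add_mul, hl, hr, hu, hv]
        exact (hcomm _ _ _ _).eq
      neg_mem' := fun {u} hu y d => by
        rw [neg_mul, neg_mul]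
        have h1 : γ (-(u * y)) d = (γ (u * y) d)⁻¹ := eq_inv_of_mul_eq_one_left (by
          rw [← hl, neg_add_cancel, hz1])
        have h2 : γ y (-(u * d)) = (γ y (u * d))⁻¹ := eq_inv_of_mul_eq_one_right (by
          rw [← hr, neg_add_cancel, hz2])
        rw [h1, h2, hu]
      mul_mem' := fun {u v} hu hv y d => by
        rw [mul_assoc, hu, hv, ← mul_assoc, mul_comm v u]
      inv_mem' := fun u hu y d => by
        rcases eq_or_ne u 0 with rfl | h0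
        · rw [inv_zero, zero_mul, zero_mul, hz1, hz2]
        · have := hu (u⁻¹ * y) (u⁻¹ * d)
          rw [mul_inv_cancel_left₀ h0, mul_inv_cancel_left₀ h0] at this
          exact this.symm }
  have htop : R = ⊤ := by
    have hl' : S.l ∈ R.comap C.φ := fun y d => by
      have := hinv y (C.φ S.l * d)
      rwa [inv_mul_cancel_left₀ hφl] at this
    rw [eq_top_iff]
    intro z _
    obtain ⟨w, rfl⟩ := (Finite.injective_iff_surjective.1 C.φ.injective) z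
    exact ((S.gen _ hl').ge (Subfield.mem_top w) : w ∈ R.comap C.φ)
  have hall : ∀ u y d, γ (u * y) d = γ y (u * d) := fun u => (htop.ge (Subfield.mem_top u) : u ∈ R)
  refine ⟨fun v => γ 1 v, fun u v => ?_, fun d b => ?_⟩
  · show γ 1 (u + v) = γ 1 u * γ 1 v
    rw [hr]; exact (hcomm _ _ _ _).eq
  · show _ = γ 1 (C.φ b * d)
    rw [← hall, mul_one]
    show _ = X.cm (C.gD d) (P (C.φ (C.φ (C.φ b))))
    rw [C.φ_cube]

theorem hall_identity {x y z : Γ} (hxy : Commute x y) (hc : Commute ⁅x, z⁆ ⁅y, z⁆) :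
    ⁅x, ⁅y, z⁆⁆ = ⁅y, ⁅x, z⁆⁆ := by
  have h1 : ⁅x, ⁅y, z⁆⁆ * ⁅y, z⁆ = ⁅y, ⁅x, z⁆⁆ * (⁅x, z⁆ * ⁅y, z⁆ * ⁅x, z⁆⁻¹) := by
    simp only [commutatorElement_def]
    have e : x⁻¹ * y⁻¹ * x = y⁻¹ := by
      rw [mul_assoc, hxy.symm.inv_left.eq, inv_mul_cancel_left]
    calc x * (y * z * y⁻¹ * z⁻¹) * x⁻¹ * (y * z * y⁻¹ * z⁻¹)⁻¹ * (y * z * y⁻¹ * z⁻¹)
        = (x * y) * z * y⁻¹ * z⁻¹ * x⁻¹ := by group
      _ = (y * x) * z * (x⁻¹ * y⁻¹ * x) * z⁻¹ * x⁻¹ := by rw [e, hxy.eq]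
      _ = _ := by group
  rw [hc.eq, mul_inv_cancel_right] at h1
  exact mul_right_cancel h1

/-- The commutators vanish on the elements of trace zero. -/
theorem Phi_eq_one {P R : K → C.Z.G1} {Φ : K → Γ} (hΦa : ∀ u v, Φ (u + v) = Φ u * Φ v)
    (hΦ : ∀ d b, X.cm (C.gD d) (P b) = Φ (C.φ b * d))
    (hPP : ∀ u v, X.cm (P u) (P v) = 1) (hPE : ∀ u e, X.cm (P u) (C.gE e) = 1)
    (hPF : ∀ u f, X.cm (P u) (C.gF f) = 1)
    (hdec : ∀ v w, ∃ e f, ⁅P v, R w⁆ =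
      C.uQ 0 0 (C.φ (C.φ v) * w + v * C.φ (C.φ w)) e f) {v : K} (hv : C.Tk v = 0) : Φ v = 1 := by
  let δ : K → K → K := fun v w => C.φ (C.φ v) * w + v * C.φ (C.φ w)
  have hz : Φ 0 = 1 := by simpa using hΦa 0 0
  have hval : ∀ u v w, ⁅X.l (P u), ⁅X.l (P v), X.l (R w)⁆⁆ = (Φ (C.φ u * δ v w))⁻¹ := by
    intro u v w
    obtain ⟨e, f, he⟩ := hdec v w
    rw [X.cm_eq (X.map_l _) (show σ ⁅X.l (P v), X.l (R w)⁆ =
      C.gD (δ v w) * (C.gE e * C.gF f) by
        rw [map_commutatorElement, X.map_l, X.map_l, he, C.uQ_eq', mul_assoc]),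
      X.cm_mul_right, X.cm_mul_eq_one (hPE u e) (hPF u f), mul_one, mul_inv_cancel, mul_one,
      ← X.cm_inv, hΦ]
  have hcc : ∀ u v w, Commute ⁅X.l (P u), X.l (R w)⁆ ⁅X.l (P v), X.l (R w)⁆ := by
    intro u v w
    obtain ⟨e, f, he⟩ := hdec u w
    obtain ⟨e', f', he'⟩ := hdec v w
    refine X.comm_of_cm ?_
    rw [map_commutatorElement, map_commutatorElement, X.map_l, X.map_l, X.map_l, he, he',
      C.uQ_eq', C.uQ_eq']
    have hD : ∀ d, X.cm (C.gD d) (C.gD (δ v w) * C.gE e' * C.gF f') = 1 := fun d =>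
      X.cm_mul_eq_one (X.cm_mul_eq_one (cDD S X d _) (X.cm_symm (cED S X e' d)))
        (X.cm_symm (cFD S X f' d))
    have hE' : ∀ d, X.cm (C.gE d) (C.gD (δ v w) * C.gE e' * C.gF f') = 1 := fun d =>
      X.cm_mul_eq_one (X.cm_mul_eq_one (cED S X d _) (cEE S X d e')) (cEF S X d f')
    have hF' : ∀ d, X.cm (C.gF d) (C.gD (δ v w) * C.gE e' * C.gF f') = 1 := fun d =>
      X.cm_mul_eq_one (X.cm_mul_eq_one (cFD S X d _) (X.cm_symm (cEF S X e' d))) (cFF S X d f')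
    exact X.cm_symm (X.cm_mul_eq_one (X.cm_mul_eq_one (X.cm_symm (hD _)) (X.cm_symm (hE' _)))
      (X.cm_symm (hF' _)))
  have key : ∀ u v w, Φ (C.φ u * δ v w) = Φ (C.φ v * δ u w) := fun u v w => by
    rw [← inv_inj, ← hval, ← hval]
    exact hall_identity S X (X.comm_of_cm (by rw [X.map_l, X.map_l]; exact hPP u v)) (hcc u v w)
  have hsub : ∀ a b, Φ (a - b) * Φ b = Φ a := fun a b => by rw [← hΦa, sub_add_cancel]
  obtain ⟨a₀, ha₀⟩ : ∃ v, C.φ v - v ≠ 0 := by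
    obtain ⟨d, hd⟩ := C.exists_Tk
    by_contra hall
    simp only [not_exists, not_not, sub_eq_zero] at hall
    have hkK : Nat.card C.kF = Nat.card K :=
      Nat.card_congr (Equiv.subtypeUnivEquiv fun x => hall x)
    rw [C.card_kF, Nat.card_eq_fintype_card, C.hK] at hkK
    have := Nat.pow_lt_pow_right (a := q) C.hq.two_le (show 1 < 3 by norm_num)
    rw [pow_one] at this
    omega
  have hinv : ∀ z, Φ (C.φ z - z) = 1 := fun z => by
    set a := C.φ a₀ - a₀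
    set w := C.φ (z / a)
    have h1 := key 1 a₀ w
    have h0 : C.φ a * w - a * C.φ (C.φ w) = C.φ z - z := by
      show C.φ a * C.φ (z / a) - a * C.φ (C.φ (C.φ (z / a))) = _
      rw [C.φ_cube, ← map_mul, mul_div_cancel₀ _ ha₀]
    have h2 : C.φ 1 * δ a₀ w - C.φ a₀ * δ 1 w = C.φ a * w - a * C.φ (C.φ w) := by
      simp only [δ, a, map_one, map_sub]; ring
    have h3 := hsub (C.φ 1 * δ a₀ w) (C.φ a₀ * δ 1 w)
    rw [h2, h0, h1] at h3
    exact mul_eq_right.1 h3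
  obtain ⟨z, rfl⟩ := C.exists_of_Tk_zero hv
  exact hinv z

/-- The lifts of a long root group as values of commutators. -/
theorem exists_eps {P R : K → C.Z.G1} (hP : ∀ a b, P (a + b) = P a * P b)
    (hh : ∀ b, S.h * P b * S.h⁻¹ = P (S.l * b))
    (hvh : ∀ d b, X.cm S.h ⁅C.gD d, P b⁆ = 1)
    (hvD : ∀ d b d', X.cm (C.gD d') ⁅C.gD d, P b⁆ = 1)
    (hvP : ∀ d b b', X.cm (P b') ⁅C.gD d, P b⁆ = 1)
    (hPP : ∀ u v, X.cm (P u) (P v) = 1) (hPE : ∀ u e, X.cm (P u) (C.gE e) = 1)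
    (hPF : ∀ u f, X.cm (P u) (C.gF f) = 1)
    (hdec : ∀ v w, ∃ e f, ⁅P v, R w⁆ =
      C.uQ 0 0 (C.φ (C.φ v) * w + v * C.φ (C.φ w)) e f) :
    ∃ ε : C.kF → Γ, (∀ u v, ε (u + v) = ε u * ε v) ∧
      ∀ d b, X.cm (C.gD d) (P b) = ε (-C.Tk (C.φ b * d)) := by
  obtain ⟨Φ, hΦa, hΦ⟩ := exists_Phi S X hP hh hvh hvD hvP
  have hker : ∀ u v, C.Tk u = C.Tk v → Φ u = Φ v := fun u v h => by
    have h1 := hΦa (u - v) v
    have h2 : Φ (u - v) = 1 :=
      Phi_eq_one S X hΦa hΦ hPP hPE hPF hdec (by rw [map_sub, h, sub_self])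
    rw [sub_add_cancel, h2, one_mul] at h1
    exact h1
  refine ⟨fun e => Φ (Function.surjInv C.Tk_surjective (-e)), fun u v => ?_, fun d b => ?_⟩
  · rw [← hΦa]
    refine hker _ _ ?_
    rw [map_add, Function.surjInv_eq C.Tk_surjective, Function.surjInv_eq C.Tk_surjective,
      Function.surjInv_eq C.Tk_surjective, neg_add]
  · rw [hΦ]
    exact hker _ _ (by rw [Function.surjInv_eq C.Tk_surjective, neg_neg])

/-- The compatible lifts of the root groups. -/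
structure Secs where
  /-- lifts of the fifth root group -/
  εE : Multiplicative C.kF →* Γ
  /-- lifts of the highest root group -/
  εF : Multiplicative C.kF →* Γ
  /-- lifts of the second root group -/
  sB : Multiplicative K →* Γ
  /-- lifts of the third root group -/
  sC : Multiplicative K →* Γ
  /-- lifts of the fourth root group -/
  sD : Multiplicative K →* Γ
  map_εE : ∀ e, σ (εE e) = C.gE e.toAdd
  map_εF : ∀ e, σ (εF e) = C.gF e.toAdd
  map_sB : ∀ e, σ (sB e) = C.uB e.toAdd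
  map_sC : ∀ e, σ (sC e) = C.gC e.toAdd
  map_sD : ∀ e, σ (sD e) = C.gD e.toAdd
  εE_eq : ∀ d b, X.cm (C.gD d) (C.uB b) = εE (Multiplicative.ofAdd (-C.Tk (C.φ b * d)))
  εF_eq : ∀ d c, X.cm (C.gD d) (C.gC c) = εF (Multiplicative.ofAdd (-C.Tk (C.φ c * d)))
  sB_eq : ∀ b, sB b = X.cm S.h (C.uB ((S.l - 1)⁻¹ * b.toAdd))
  sC_eq : ∀ b, sC b = X.cm S.h (C.gC ((S.l - 1)⁻¹ * b.toAdd))
  sD_eq : ∀ b, sD b = X.cm S.h (C.gD (((C.φ S.l)⁻¹ - 1)⁻¹ * b.toAdd))

theorem exists_section {P : K → C.Z.G1} (hP : ∀ a b, P (a + b) = P a * P b) {μ : K} (hμ : μ ≠ 1)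
    (hh : ∀ b, S.h * P b * S.h⁻¹ = P (μ * b)) (hPP : ∀ u v, X.cm (P u) (P v) = 1) :
    ∃ s : Multiplicative K →* Γ, (∀ b, σ (s b) = P b.toAdd) ∧
      ∀ b, s b = X.cm S.h (P ((μ - 1)⁻¹ * b.toAdd)) := by
  have hP0 : P 0 = 1 := by
    have := hP 0 0
    rw [add_zero] at this
    exact mul_eq_left.1 this.symm
  have hmap : ∀ b, σ (X.cm S.h (P ((μ - 1)⁻¹ * b))) = P b := fun b => by
    have hn : ∀ a, (P a)⁻¹ = P (-a) := fun a => inv_eq_of_mul_eq_one_right (by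
      rw [← hP, add_neg_cancel, hP0])
    rw [X.map_cm, commutatorElement_def, hh, hn, ← hP]
    congr 1
    field_simp [sub_ne_zero.2 hμ]
    ring
  refine ⟨MonoidHom.mk' (fun b => X.cm S.h (P ((μ - 1)⁻¹ * b.toAdd))) fun a b => ?_,
    fun b => hmap _, fun b => rfl⟩
  rw [toAdd_mul, mul_add, hP]
  exact X.cm_mul_right' (X.comm_of_cm (by rw [X.map_l, hmap]; exact hPP _ _))

theorem exists_secs : Nonempty (Secs S X) := by
  obtain ⟨εE, hEa, hEeq⟩ := exists_eps S X (P := C.uB) (R := C.gC) C.gB_add S.move_B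
    (fun d b => by rw [C.brDB]; exact hE S X _)
    (fun d b d' => by rw [C.brDB]; exact X.cm_symm (cED S X _ _))
    (fun d b b' => by rw [C.brDB]; exact X.cm_symm (cEB S X _ _))
    (cBB S X) (fun u e => X.cm_symm (cEB S X e u)) (fun u e => X.cm_symm (cFB S X e u))
    (fun v w => by
      obtain ⟨e, f, h⟩ := C.brBC v w
      exact ⟨e, f, h⟩)
  obtain ⟨εF, hFa, hFeq⟩ := exists_eps S X (P := C.gC) (R := fun w => C.uB (-w)) C.gC_add S.move_C
    (fun d b => by rw [C.brDC]; exact hF S X _)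
    (fun d b d' => by rw [C.brDC]; exact X.cm_symm (cFD S X _ _))
    (fun d b b' => by rw [C.brDC]; exact X.cm_symm (cFC S X _ _))
    (cCC S X) (fun u e => X.cm_symm (cEC S X e u)) (fun u e => X.cm_symm (cFC S X e u))
    (fun v w => by
      obtain ⟨e, f, h⟩ := C.brBC (-w) v
      refine ⟨-e, -f, ?_⟩
      rw [← commutatorElement_inv, h]
      refine inv_eq_of_mul_eq_one_right ?_
      rw [C.uQ_mul, ← C.uQ_zero]
      congr 1 <;> simp <;> ring)
  obtain ⟨sB, hB, hBe⟩ := exists_section S X C.gB_add S.l_ne_one S.move_B (cBB S X)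
  obtain ⟨sC, hC, hCe⟩ := exists_section S X C.gC_add S.l_ne_one S.move_C (cCC S X)
  obtain ⟨sD, hD, hDe⟩ := exists_section S X C.gD_add S.μD_ne_one S.move_D (cDD S X)
  refine ⟨⟨MonoidHom.mk' (fun e => εE e.toAdd) (fun a b => hEa _ _),
    MonoidHom.mk' (fun e => εF e.toAdd) (fun a b => hFa _ _), sB, sC, sD,
    fun e => ?_, fun e => ?_, hB, hC, hD, hEeq, hFeq, hBe, hCe, hDe⟩⟩
  · obtain ⟨d, hd⟩ := C.Tk_surjective (-e.toAdd)
    show σ (εE e.toAdd) = _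
    rw [show e.toAdd = -C.Tk (C.φ 1 * d) by rw [map_one, one_mul, hd, neg_neg], ← hEeq,
      X.map_cm, C.brDB]
  · obtain ⟨d, hd⟩ := C.Tk_surjective (-e.toAdd)
    show σ (εF e.toAdd) = _
    rw [show e.toAdd = -C.Tk (C.φ 1 * d) by rw [map_one, one_mul, hd, neg_neg], ← hFeq,
      X.map_cm, C.brDC]

end Lifts

end Ctx

end CfsgLib.Chev.D4Tw
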