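import Cfsg.Agent.TwMult.BNLiftCard
import Cfsg.Agent.TwMult.TwistedData

/-!
The split (B, N)-pair of a twisted group, without the count of the rank one tori.
-/

set_option autoImplicit false
set_option linter.unusedSectionVars false

namespace CfsgLib.Chev.Tab.Good.Twisted

open Cfsg.Lie Matrix CfsgLib.TwMult
open scoped MatrixGroups

universe u

variable {D : ChevalleyDatum} {T : Tab D} {G : T.Good} {F : Type u} [Field F] {Φ : G.Graph F}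
  (Z : Twisted Φ)
include Z

/-- The split (B, N)-pair of the twisted group. -/
noncomputable def splitDataC (p : ℕ) (hU : IsPGroup p (Z.U1.subgroupOf Z.G1))
    (hn : ∀ J, Z.nM J ∈ Z.LG J)
    (hgen : Z.H0.subgroupOf Z.G1 ≤ ⨆ J, Z.H0.subgroupOf Z.G1 ⊓ Z.LG J)
    (hrank : ∀ J, ∀ x ∈ Z.XG J, x ≠ 1 → ∃ a ∈ Z.XG J, ∃ h ∈ Z.H0.subgroupOf Z.G1 ⊓ Z.LG J,
      ∃ b ∈ Z.XG J, Z.nM J * x * (Z.nM J)⁻¹ = a * h * Z.nM J * b)
    (braid : List (Fin Z.nJ × List (Fin Z.nJ) × Fin Z.nJ)) (hb : ∀ b ∈ braid, Z.IsBraid b) :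
    Cd.SplitData Z.G1 p (Fin Z.nJ) where
  U := Z.U1.subgroupOf Z.G1
  hU := hU
  H := Z.H0.subgroupOf Z.G1
  H_comm a ha b hb' := Subtype.ext (Z.H0_comm ha hb')
  H_U h hh u hu := Z.H0_conj_U1 hh hu
  X := Z.XG
  X_le_U J x hx := Z.XJ_le_U1 J hx
  H_X J h hh x hx := Z.H0_XJ hh hx
  n := Z.nM
  n_sq J := Z.n_sq J
  n_conj J h hh := Z.n_conj J _ hh
  L := Z.LG
  X_le_L J x hx := Subgroup.subset_closure (Or.inl hx)
  n_mem_L := hn
  L_gen J := le_refl _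
  H_gen := hgen
  split J u hu := by
    have hu' : (u : GL D.Idx F) ∈ Z.U1 := hu
    have hu2 : (u : GL D.Idx F) ∈ G.US F {r | IsPos D r} := by
      rw [← G.posUnipotent_eq]; exact hu'.2
    obtain ⟨a, ha, b, hb', e⟩ := Z.split_fix J G.closed_pos hu'.1 hu2 fun s ⟨_, h, _⟩ => h
    have haU : a ∈ Z.U1 := ⟨ha.1, by
      rw [G.posUnipotent_eq]; exact G.US_mono (fun s hs => hs.1) ha.2⟩
    refine ⟨⟨a, Z.U1_le haU⟩, haU, ⟨b, Z.X_le J hb'⟩, hb', Subtype.ext e, ?_⟩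
    refine ⟨Z.fix_conj (Z.n_fix J) ha.1, ?_⟩
    rw [G.posUnipotent_eq]
    exact G.conj_x_act (Z.n_act J)
      (fun s hs => by obtain ⟨-, hlt, -, h3⟩ := hs; exact ⟨hlt, h3⟩) ha.2
  rank_one J x hx hne := by
    obtain ⟨a, ha, h, hh, b, hb', e⟩ := hrank J x hx hne
    exact ⟨a, ⟨Z.XJ_le_U1 J ha, Subgroup.subset_closure (Or.inl ha)⟩, h, hh, b, hb', e⟩
  pos_cases J w := by
    rcases Z.pos_or_flip J w with h | h
    · refine Or.inl fun x hx => ?_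
      show _ ∈ Z.U1
      rw [Subgroup.coe_subtype, Subgroup.coe_mul, Subgroup.coe_mul, Subgroup.coe_inv, Z.coe_nM]
      exact h _ hx
    · refine Or.inr ⟨J :: w, ⟨(Z.nT w)⁻¹ * (Z.n J * Z.n J)⁻¹ * Z.nT w,
        Z.H0_le (Z.nT_H0' w (inv_mem (Z.n_sq J)))⟩, Z.nT_H0' w (inv_mem (Z.n_sq J)),
        Subtype.ext ?_, fun x hx => ?_⟩
      · rw [Subgroup.coe_mul, Subgroup.coe_mul, Z.coe_nM, Z.coe_nM, Z.nT_cons]
        show _ = Z.n J * (Z.n J * Z.nT w) * ((Z.nT w)⁻¹ * (Z.n J * Z.n J)⁻¹ * Z.nT w)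
        group
      · show _ ∈ Z.U1
        rw [Subgroup.coe_subtype, Subgroup.coe_mul, Subgroup.coe_mul, Subgroup.coe_inv, Z.coe_nM]
        exact h _ hx
  inter w h hh hwU := by
    refine Subtype.ext ?_
    have hg : Z.nT w * (h : GL D.Idx F) ∈ Z.U1 := by
      rw [← Z.coe_nM, ← Subgroup.coe_mul]; exact hwU
    rw [Subgroup.coe_mul, Z.coe_nM]
    show Z.nT w * (h : GL D.Idx F) = 1
    have hd : Z.nT w * (h : GL D.Idx F) ∈ D.diagonalSubgroup F :=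
      Z.mem_diag_of_borel (Z.U1_le_borel hg) (mul_mem (Z.nT_mono w) (Z.H0_le_mono hh))
    have : Z.nT w * (h : GL D.Idx F) ∈ D.posUnipotent F ⊓ D.diagonalSubgroup F := ⟨hg.2, hd⟩
    rwa [G.pos_inf_diagonal, Subgroup.mem_bot] at this
  gen := by
    intro g _
    have h : Z.G1 ≤ (Subgroup.closure (((Z.U1.subgroupOf Z.G1 : Subgroup Z.G1) : Set Z.G1) ∪
        (Z.H0.subgroupOf Z.G1 : Subgroup Z.G1) ∪ Set.range Z.nM)).map Z.G1.subtype := by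
      refine Z.gen.trans ((Subgroup.closure_le _).2 ?_)
      rintro x (hx | ⟨J, rfl⟩)
      · obtain ⟨J, hJ⟩ := Set.mem_iUnion.mp hx
        exact ⟨⟨x, Z.X_le J hJ⟩, Subgroup.subset_closure (Or.inl (Or.inl (Z.XJ_le_U1 J hJ))), rfl⟩
      · exact ⟨Z.nM J, Subgroup.subset_closure (Or.inr ⟨J, rfl⟩), rfl⟩
    obtain ⟨g', hg', e⟩ := h g.2
    exact (Subtype.ext e : g' = g) ▸ hg'
  braid := braid
  braid_L b hb' x hx := by
    set nw := (b.2.1.map Z.nM).prod with hnw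
    have hco : (nw : GL D.Idx F) = Z.nT b.2.1 := Z.coe_nM _
    have hle : Z.LG b.1 ≤ (Z.LG b.2.2).comap (MulAut.conj nw).toMonoidHom := by
      refine (Subgroup.closure_le _).2 ?_
      have hX : ∀ y ∈ Z.XG b.1, nw * y * nw⁻¹ ∈ Z.XG b.2.2 := fun y hy => by
        show _ ∈ Z.XJ b.2.2
        rw [Subgroup.coe_subtype, Subgroup.coe_mul, Subgroup.coe_mul, Subgroup.coe_inv, hco]
        exact Z.braid_X (hb b hb') hy
      rintro y (hy | ⟨z, hz, rfl⟩)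
      · exact Subgroup.subset_closure (Or.inl (hX y hy))
      · show nw * (Z.nM b.1 * z * (Z.nM b.1)⁻¹) * nw⁻¹ ∈ Z.LG b.2.2
        set c := nw * Z.nM b.1 * nw⁻¹ * (Z.nM b.2.2)⁻¹ with hc
        rw [show nw * (Z.nM b.1 * z * (Z.nM b.1)⁻¹) * nw⁻¹ = c * (Z.nM b.2.2 * (nw * z * nw⁻¹) *
          (Z.nM b.2.2)⁻¹) * c⁻¹ by rw [hc]; group]
        refine Z.H0_LG ?_ (Subgroup.subset_closure (Or.inr ⟨_, hX z hz, rfl⟩))
        simp only [hc, Subgroup.coe_mul, Subgroup.coe_inv, hco]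
        exact Z.braid_H' (hb b hb')
    exact hle hx
  braid_H b hb' := by
    show _ ∈ Z.H0
    simp only [Subgroup.coe_subtype, Subgroup.coe_mul, Subgroup.coe_inv, Z.coe_nM]
    exact Z.braid_H' (hb b hb')

end CfsgLib.Chev.Tab.Good.Twisted
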