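import Cfsg.Agent.TwMult.CmTools
import Mathlib.GroupTheory.QuotientGroup.Basic

/-!
Central extensions of a filtered group on which a torus acts with enough weights split.
-/

set_option autoImplicit false
set_option linter.unusedSectionVars false

namespace CfsgLib.TwMult

open Subgroup
open scoped commutatorElement

universe u v w

/-- A filtration with additive layers over a field, normalised by commuting torus elements acting
by scalars on the layers. -/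
structure Layers (G : Type v) [Group G] (R : Type w) [Field R] where
  /-- the number of layers -/
  n : ℕ
  /-- the terms -/
  Q : ℕ → Subgroup G
  Q_le : ∀ k, k < n → Q (k + 1) ≤ Q k
  Q_top : Q n = ⊥
  /-- the coordinate of a layer -/
  π : ℕ → G → R
  π_mul : ∀ k, k < n → ∀ a ∈ Q k, ∀ b ∈ Q k, π k (a * b) = π k a + π k b
  π_ker : ∀ k, k < n → ∀ a ∈ Q k, (a ∈ Q (k + 1) ↔ π k a = 0)
  /-- representatives -/
  r : ℕ → R → G
  r_mem : ∀ k, k < n → ∀ t, r k t ∈ Q k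
  π_r : ∀ k, k < n → ∀ t, π k (r k t) = t
  /-- the torus -/
  T : Set G
  T_comm : ∀ a ∈ T, ∀ b ∈ T, Commute a b
  T_norm : ∀ h ∈ T, ∀ k, k ≤ n → ∀ a ∈ Q k, h * a * h⁻¹ ∈ Q k
  /-- the weights -/
  w : ℕ → G → R
  π_conj : ∀ h ∈ T, ∀ k, k < n → ∀ a ∈ Q k, π k (h * a * h⁻¹) = w k h * π k a
  scale : ∀ k, k < n → ∀ t : R, t ≠ 0 → ∃ h ∈ T, w k h = t ^ 2
  moved : ∀ k, k < n → ∃ h ∈ T, w k h ≠ 1

namespace Layers

variable {G : Type v} [Group G] {R : Type w} [Field R] (L : Layers G R)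
include L

theorem π_one {k : ℕ} (hk : k < L.n) : L.π k 1 = 0 := by
  have := L.π_mul k hk 1 (one_mem _) 1 (one_mem _)
  rw [one_mul] at this
  exact add_eq_left.1 this.symm

theorem π_inv {k : ℕ} (hk : k < L.n) {a : G} (ha : a ∈ L.Q k) : L.π k a⁻¹ = -L.π k a := by
  have := L.π_mul k hk a ha a⁻¹ (inv_mem ha)
  rw [mul_inv_cancel, L.π_one hk] at this
  exact eq_neg_of_add_eq_zero_right this.symm

theorem inv_mul_mem {k : ℕ} (hk : k < L.n) {a b : G} (ha : a ∈ L.Q k) (hb : b ∈ L.Q k)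
    (h : L.π k a = L.π k b) : a⁻¹ * b ∈ L.Q (k + 1) :=
  (L.π_ker k hk _ (mul_mem (inv_mem ha) hb)).2 (by
    rw [L.π_mul k hk _ (inv_mem ha) _ hb, L.π_inv hk ha, h, neg_add_cancel])

theorem conj_mem {k : ℕ} (hk : k < L.n) {a b : G} (ha : a ∈ L.Q k) (hb : b ∈ L.Q (k + 1)) :
    a * b * a⁻¹ ∈ L.Q (k + 1) := by
  have hb' := L.Q_le k hk hb
  refine (L.π_ker k hk _ (mul_mem (mul_mem ha hb') (inv_mem ha))).2 ?_
  rw [L.π_mul k hk _ (mul_mem ha hb') _ (inv_mem ha), L.π_mul k hk _ ha _ hb', L.π_inv hk ha,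
    (L.π_ker k hk _ hb').1 hb]
  ring

theorem Q_mono {i j : ℕ} (hij : i ≤ j) (hj : j ≤ L.n) : L.Q j ≤ L.Q i := by
  induction j, hij using Nat.le_induction with
  | base => exact le_rfl
  | succ j _ ih => exact (L.Q_le j (by omega)).trans (ih (by omega))

variable {Γ : Type u} [Group Γ] {σ : Γ →* G} (X : CExt σ)
include X

/-- A complement of the kernel over a term. -/
def Compl (k : ℕ) (S : Subgroup Γ) : Prop :=
  (∀ s ∈ S, σ s ∈ L.Q k) ∧ (∀ a ∈ L.Q k, ∃ s ∈ S, σ s = a) ∧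
    (∀ s ∈ S, σ s = 1 → s = 1) ∧ ∀ h ∈ L.T, ∀ s ∈ S, X.l h * s * (X.l h)⁻¹ ∈ S

theorem ker_comm {z : Γ} (hz : σ z = 1) (g : Γ) : g * z = z * g :=
  mem_center_iff.1 (X.central (MonoidHom.mem_ker.2 hz)) g

section Step

variable {k : ℕ} {S : Subgroup Γ} (hk : k < L.n) (hS : L.Compl X (k + 1) S)
include hk hS

theorem exists_part {g : Γ} (hg : σ g ∈ L.Q (k + 1)) : ∃ z, σ z = 1 ∧ z⁻¹ * g ∈ S := by
  obtain ⟨s, hs, e⟩ := hS.2.1 _ hg
  refine ⟨g * s⁻¹, by rw [map_mul, map_inv, e, mul_inv_cancel], ?_⟩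
  rwa [show (g * s⁻¹)⁻¹ * g = s by group]

theorem part_unique {g z z' : Γ} (hz : σ z = 1) (h : z⁻¹ * g ∈ S) (hz' : σ z' = 1)
    (h' : z'⁻¹ * g ∈ S) : z = z' := by
  have h1 : z'⁻¹ * z ∈ S := by
    have := mul_mem h' (inv_mem h)
    rwa [show z'⁻¹ * g * (z⁻¹ * g)⁻¹ = z'⁻¹ * z by group] at this
  exact (inv_mul_eq_one.1 (hS.2.2.1 _ h1 (by rw [map_mul, map_inv, hz, hz', inv_one, one_mul]))).symm

theorem conj_central {y s : Γ} (hy : σ y ∈ L.Q (k + 1)) (hs : s ∈ S) : y * s * y⁻¹ ∈ S := by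
  obtain ⟨z, hz, h⟩ := L.exists_part X hk hS hy
  rw [show y * s * y⁻¹ = (z * (z⁻¹ * y)) * s * (z * (z⁻¹ * y))⁻¹ by group]
  have hm : z⁻¹ * y * s * (z⁻¹ * y)⁻¹ ∈ S := mul_mem (mul_mem h hs) (inv_mem h)
  rwa [show z * (z⁻¹ * y) * s * (z * (z⁻¹ * y))⁻¹ = z * (z⁻¹ * y * s * (z⁻¹ * y)⁻¹) * z⁻¹ by group,
    ← L.ker_comm X hz, mul_inv_cancel_right]

/-- A lift of a representative normalises the complement of the next term. -/
theorem rep_norm {t : R}
    (hcase : ∀ i, k < i → i < L.n → (∃ h ∈ L.T, L.w k h = 1 ∧ L.w i h ≠ 1) ∨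
      ∀ u, X.cm (L.r k t) (L.r i u) = 1) {s : Γ} (hs : s ∈ S) :
    X.l (L.r k t) * s * (X.l (L.r k t))⁻¹ ∈ S := by
  set x := X.l (L.r k t) with hx
  have hxs : σ x ∈ L.Q k := by rw [hx, X.map_l]; exact L.r_mem k hk t
  have hin : ∀ s ∈ S, σ (x * s * x⁻¹) ∈ L.Q (k + 1) := fun s hs => by
    rw [map_mul, map_mul, map_inv]
    exact L.conj_mem hk hxs (hS.1 s hs)
  choose z hz hzs using fun s : S => L.exists_part X hk hS (hin s.1 s.2)
  have huniq : ∀ (s : S) (y : Γ), σ y = 1 → y⁻¹ * (x * s * x⁻¹) ∈ S → z s = y := fun s y hy h =>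
    L.part_unique X hk hS (hz s) (hzs s) hy h
  have hmul : ∀ a b : S, z (a * b) = z a * z b := fun a b => by
    refine huniq _ _ (by rw [map_mul, hz, hz, one_mul]) ?_
    have := mul_mem (hzs a) (hzs b)
    rwa [show (z a)⁻¹ * (x * a * x⁻¹) * ((z b)⁻¹ * (x * b * x⁻¹)) =
        (z b)⁻¹ * (z a)⁻¹ * (x * ((a : Γ) * b) * x⁻¹) by
      rw [← mul_assoc, L.ker_comm X (show σ (z b)⁻¹ = 1 by rw [map_inv, hz, inv_one])
        ((z a)⁻¹ * (x * a * x⁻¹))]
      group, ← _root_.mul_inv_rev] at this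
  suffices key : ∀ d i, k < i → i + d = L.n → ∀ s : S, σ (s : Γ) ∈ L.Q i → z s = 1 by
    have h := hzs ⟨s, hs⟩
    rwa [key (L.n - (k + 1)) (k + 1) (by omega) (by omega) ⟨s, hs⟩ (hS.1 s hs), inv_one,
      one_mul] at h
  intro d
  induction d with
  | zero =>
    intro i _ hi s hsi
    rw [show i = L.n by omega, L.Q_top, mem_bot] at hsi
    rw [show s = 1 from Subtype.ext (hS.2.2.1 _ s.2 hsi)]
    exact huniq 1 1 (map_one σ) (by simp)
  | succ d ih =>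
    intro i hki hi s hsi
    have hin' : i < L.n := by omega
    have hrep : ∀ u, ∃ s : S, σ (s : Γ) = L.r i u := fun u => by
      obtain ⟨s, hs, e⟩ := hS.2.1 _ (L.Q_mono (show k + 1 ≤ i by omega) hin'.le (L.r_mem i hin' u))
      exact ⟨⟨s, hs⟩, e⟩
    choose ρ hρ using hrep
    have hval : ∀ s : S, σ (s : Γ) ∈ L.Q i → z s = z (ρ (L.π i (σ s))) := fun s hsi => by
      have h2 : σ ((ρ (L.π i (σ s)))⁻¹ * s : S).1 ∈ L.Q (i + 1) := by
        rw [Subgroup.coe_mul, Subgroup.coe_inv, map_mul, map_inv, hρ]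
        exact L.inv_mul_mem hin' (L.r_mem i hin' _) hsi (by rw [L.π_r i hin'])
      have h3 := hmul (ρ (L.π i (σ s))) ((ρ (L.π i (σ s)))⁻¹ * s)
      rwa [mul_inv_cancel_left, ih (i + 1) (by omega) (by omega) _ h2, mul_one] at h3
    rw [hval s hsi]
    generalize L.π i (σ (s : Γ)) = u
    rcases hcase i hki hin' with ⟨h, hT, hw1, hw2⟩ | hc
    · have hadd : ∀ a b, z (ρ (a + b)) = z (ρ a) * z (ρ b) := fun a b => by
        have hm : σ ((ρ a * ρ b : S) : Γ) = L.r i a * L.r i b := by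
          rw [Subgroup.coe_mul, map_mul, hρ, hρ]
        have h4 := hval (ρ a * ρ b) (by rw [hm]; exact mul_mem (L.r_mem i hin' a) (L.r_mem i hin' b))
        rw [hm, L.π_mul i hin' _ (L.r_mem i hin' a) _ (L.r_mem i hin' b), L.π_r i hin',
          L.π_r i hin', hmul] at h4
        exact h4.symm
      set g := X.l h with hg
      have hy : σ (x⁻¹ * (g * x * g⁻¹)) ∈ L.Q (k + 1) := by
        have hxc : σ (g * x * g⁻¹) = h * L.r k t * h⁻¹ := by
          rw [map_mul, map_mul, map_inv, hx, hg, X.map_l, X.map_l]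
        rw [map_mul, map_inv, hxc, hx, X.map_l]
        exact L.inv_mul_mem hk (L.r_mem k hk t) (L.T_norm h hT k hk.le _ (L.r_mem k hk t))
          (by rw [L.π_conj h hT k hk _ (L.r_mem k hk t), hw1, one_mul])
      have hinv : ∀ s : S, z ⟨g * s * g⁻¹, hS.2.2.2 h hT s s.2⟩ = z s := fun s => by
        set y := x⁻¹ * (g * x * g⁻¹)
        have hyy := L.conj_central X hk hS hy (hS.2.2.2 h hT s s.2)
        set s' : S := ⟨g * s * g⁻¹, hS.2.2.2 h hT s s.2⟩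
        set s'' : S := ⟨y * (g * s * g⁻¹) * y⁻¹, hyy⟩
        obtain ⟨zy, hzy, hy'⟩ := L.exists_part X hk hS hy
        have e1 : z s'' = z s' := by
          set c : S := ⟨zy⁻¹ * y, hy'⟩
          have e : s'' = c * s' * c⁻¹ := Subtype.ext (by
            show y * (g * s * g⁻¹) * y⁻¹ = zy⁻¹ * y * (g * s * g⁻¹) * (zy⁻¹ * y)⁻¹
            rw [show zy⁻¹ * y * (g * s * g⁻¹) * (zy⁻¹ * y)⁻¹ =
              zy⁻¹ * (y * (g * s * g⁻¹) * y⁻¹) * zy by group,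
              mul_assoc, L.ker_comm X hzy, mul_inv_cancel_left])
          have hz1 : z 1 = 1 := huniq 1 1 (map_one σ) (by simp)
          have hzi : z c * z c⁻¹ = 1 := by rw [← hmul, mul_inv_cancel, hz1]
          rw [e, hmul, hmul, mul_assoc, L.ker_comm X (hz c⁻¹) (z s'), ← mul_assoc, hzi, one_mul]
        have e2 : z s'' = z s := by
          refine huniq _ _ (hz s) ?_
          have h5 := hS.2.2.2 h hT _ (hzs s)
          rw [show g * ((z s)⁻¹ * (x * s * x⁻¹)) * g⁻¹ = (z s)⁻¹ * (g * (x * s * x⁻¹) * g⁻¹) by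
            rw [← mul_assoc, L.ker_comm X (show σ (z s)⁻¹ = 1 by rw [map_inv, hz, inv_one])]
            group] at h5
          rwa [show x * (s'' : Γ) * x⁻¹ = g * (x * s * x⁻¹) * g⁻¹ by
            show x * (y * (g * s * g⁻¹) * y⁻¹) * x⁻¹ = _
            simp only [y]; group]
        exact e1.symm.trans e2
      have hfix : ∀ a, z (ρ (L.w i h * a)) = z (ρ a) := fun a => by
        rw [← hinv (ρ a)]
        have hc : σ (g * (ρ a : Γ) * g⁻¹) = h * L.r i a * h⁻¹ := by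
          rw [map_mul, map_mul, map_inv, hg, X.map_l, hρ]
        have h6 := hval ⟨g * (ρ a : Γ) * g⁻¹, hS.2.2.2 h hT _ (ρ a).2⟩ (by
          show σ _ ∈ _
          rw [hc]; exact L.T_norm h hT i hin'.le _ (L.r_mem i hin' a))
        rw [show σ ((⟨g * (ρ a : Γ) * g⁻¹, hS.2.2.2 h hT _ (ρ a).2⟩ : S) : Γ) = h * L.r i a * h⁻¹
          from hc, L.π_conj h hT i hin' _ (L.r_mem i hin' a), L.π_r i hin'] at h6
        exact h6.symm
      have h7 := hadd ((L.w i h - 1) * ((L.w i h - 1)⁻¹ * u)) ((L.w i h - 1)⁻¹ * u)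
      rw [← add_one_mul, sub_add_cancel, hfix, ← mul_assoc,
        mul_inv_cancel₀ (sub_ne_zero.2 hw2), one_mul] at h7
      exact mul_eq_right.1 h7.symm
    · refine huniq _ _ (map_one σ) ?_
      have hcm : Commute x (ρ u : Γ) := X.comm_of_cm (by rw [hx, X.map_l, hρ]; exact hc u)
      rw [inv_one, one_mul, hcm.eq, mul_inv_cancel_right]
      exact (ρ u).2

theorem preim_norm (hcase : ∀ i, k < i → i < L.n → ∀ t, (∃ h ∈ L.T, L.w k h = 1 ∧ L.w i h ≠ 1) ∨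
      ∀ u, X.cm (L.r k t) (L.r i u) = 1) {y s : Γ} (hy : σ y ∈ L.Q k) (hs : s ∈ S) :
    y * s * y⁻¹ ∈ S := by
  set x := X.l (L.r k (L.π k (σ y)))
  have h1 : σ (x⁻¹ * y) ∈ L.Q (k + 1) := by
    rw [map_mul, map_inv, X.map_l]
    exact L.inv_mul_mem hk (L.r_mem k hk _) hy (L.π_r k hk _)
  rw [show y * s * y⁻¹ = x * ((x⁻¹ * y) * s * (x⁻¹ * y)⁻¹) * x⁻¹ by group]
  exact L.rep_norm X hk hS (fun i h1 h2 => hcase i h1 h2 _) (L.conj_central X hk hS h1 hs)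

variable [Fintype R] (h2 : (2 : R) = 0 → 4 < Fintype.card R)
  (h3 : (2 : R) ≠ 0 → 10 < Fintype.card R)
include h2 h3

/-- Commutators over a term lie in the complement of the next one. -/
theorem comm_mem (hN : ∀ y s : Γ, σ y ∈ L.Q k → s ∈ S → y * s * y⁻¹ ∈ S) {a b : Γ}
    (ha : σ a ∈ L.Q k) (hb : σ b ∈ L.Q k) : ⁅a, b⁆ ∈ S := by
  have hQ : ∀ a b : Γ, σ a ∈ L.Q k → σ b ∈ L.Q k → σ ⁅a, b⁆ ∈ L.Q (k + 1) := fun a b ha hb => by
    rw [map_commutatorElement]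
    refine (L.π_ker k hk _ ?_).2 ?_
    · exact mul_mem (mul_mem (mul_mem ha hb) (inv_mem ha)) (inv_mem hb)
    · rw [commutatorElement_def, L.π_mul k hk _ (mul_mem (mul_mem ha hb) (inv_mem ha)) _ (inv_mem hb),
        L.π_mul k hk _ (mul_mem ha hb) _ (inv_mem ha), L.π_mul k hk _ ha _ hb, L.π_inv hk ha,
        L.π_inv hk hb]
      ring
  have hl : ∀ t, σ (X.l (L.r k t)) ∈ L.Q k := fun t => by rw [X.map_l]; exact L.r_mem k hk t
  choose β hβ hβS using fun t u => L.exists_part X hk hS (hQ _ _ (hl t) (hl u))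
  have hrep : ∀ a b : Γ, σ a ∈ L.Q k → σ b ∈ L.Q k →
      (β (L.π k (σ a)) (L.π k (σ b)))⁻¹ * ⁅a, b⁆ ∈ S := by
    intro a b ha hb
    set x := X.l (L.r k (L.π k (σ a)))
    set y := X.l (L.r k (L.π k (σ b)))
    have hsplit : ∀ (a x : Γ), σ a ∈ L.Q k → σ x ∈ L.Q k → L.π k (σ x) = L.π k (σ a) →
        ∃ z, σ z = 1 ∧ ∃ s ∈ S, a = x * s * z := by
      intro a x ha hx e
      obtain ⟨z, hz, hs⟩ := L.exists_part X hk hS (g := x⁻¹ * a) (by
        rw [map_mul, map_inv]; exact L.inv_mul_mem hk hx ha e)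
      exact ⟨z, hz, _, hs, by rw [mul_assoc x, L.ker_comm X hz]; group⟩
    obtain ⟨z, hz, s, hs, ea⟩ := hsplit a x ha (hl _) (by rw [X.map_l, L.π_r k hk])
    obtain ⟨z', hz', s', hs', eb⟩ := hsplit b y hb (hl _) (by rw [X.map_l, L.π_r k hk])
    have e : ⁅a, b⁆ = x * (s * (y * s' * s⁻¹ * s'⁻¹ * y⁻¹)) * x⁻¹ *
        (⁅x, y⁆ * (y * (x * s' * x⁻¹ * s'⁻¹) * y⁻¹)) := by
      rw [ea, eb, commutator_congr X.central (x' := x * s) (y' := y * s')
        (by rw [map_mul _ _ z, hz, mul_one]) (by rw [map_mul _ _ z', hz', mul_one]),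
        commutatorElement_def, commutatorElement_def]
      group
    have hc : ∀ g, g * (β (L.π k (σ a)) (L.π k (σ b)))⁻¹ = (β (L.π k (σ a)) (L.π k (σ b)))⁻¹ * g :=
      L.ker_comm X (by rw [map_inv, hβ, inv_one])
    rw [e, ← mul_assoc, ← hc, mul_assoc, ← mul_assoc (β _ _)⁻¹ ⁅x, y⁆]
    refine mul_mem (hN x _ (hl _) (mul_mem hs ?_)) (mul_mem (hβS _ _)
      (hN y _ (hl _) (mul_mem (hN x _ (hl _) hs') (inv_mem hs'))))
    rw [show y * s' * s⁻¹ * s'⁻¹ * y⁻¹ = y * (s' * s⁻¹ * s'⁻¹) * y⁻¹ by group]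
    exact hN y _ (hl _) (mul_mem (mul_mem hs' (inv_mem hs)) (inv_mem hs'))
  have huniq : ∀ a b : Γ, σ a ∈ L.Q k → σ b ∈ L.Q k → ∀ z, σ z = 1 → z⁻¹ * ⁅a, b⁆ ∈ S →
      β (L.π k (σ a)) (L.π k (σ b)) = z := fun a b ha hb z hz h =>
    L.part_unique X hk hS (hβ _ _) (hrep a b ha hb) hz h
  have hπl : ∀ t, L.π k (σ (X.l (L.r k t))) = t := fun t => by rw [X.map_l, L.π_r k hk]
  have hadd1 : ∀ t t' u, β (t + t') u = β t u * β t' u := fun t t' u => by
    have h := huniq _ (X.l (L.r k u)) (show σ (X.l (L.r k t) * X.l (L.r k t')) ∈ L.Q k by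
      rw [map_mul]; exact mul_mem (hl t) (hl t')) (hl u) (β t u * β t' u)
      (by rw [map_mul, hβ, hβ, one_mul]) ?_
    · rwa [map_mul, L.π_mul k hk _ (hl t) _ (hl t'), hπl, hπl, hπl] at h
    · set x := X.l (L.r k t)
      set y := X.l (L.r k t')
      set b := X.l (L.r k u)
      have hc := L.ker_comm X (show σ (β t' u)⁻¹ = 1 by rw [map_inv, hβ, inv_one])
      have hc2 := L.ker_comm X (show σ (β t u)⁻¹ = 1 by rw [map_inv, hβ, inv_one])
      have := mul_mem (hN x _ (hl t) (hβS t' u)) (hβS t u)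
      rwa [show x * ((β t' u)⁻¹ * ⁅y, b⁆) * x⁻¹ * ((β t u)⁻¹ * ⁅x, b⁆) =
          (β t u * β t' u)⁻¹ * ⁅x * y, b⁆ by
        rw [← mul_assoc x, hc x, ← mul_assoc, hc2 ((β t' u)⁻¹ * x * ⁅y, b⁆ * x⁻¹),
          _root_.mul_inv_rev, hc2 (β t' u)⁻¹, commutatorElement_def, commutatorElement_def,
          commutatorElement_def]
        group] at this
  have hadd2 : ∀ t u u', β t (u + u') = β t u * β t u' := fun t u u' => by
    have h := huniq (X.l (L.r k t)) _ (hl t) (show σ (X.l (L.r k u) * X.l (L.r k u')) ∈ L.Q k by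
      rw [map_mul]; exact mul_mem (hl u) (hl u')) (β t u * β t u')
      (by rw [map_mul, hβ, hβ, one_mul]) ?_
    · rwa [map_mul, L.π_mul k hk _ (hl u) _ (hl u'), hπl, hπl, hπl] at h
    · set x := X.l (L.r k t)
      set y := X.l (L.r k u)
      set b := X.l (L.r k u')
      have hc := L.ker_comm X (show σ (β t u')⁻¹ = 1 by rw [map_inv, hβ, inv_one])
      have := mul_mem (hβS t u) (hN y _ (hl u) (hβS t u'))
      rwa [show (β t u)⁻¹ * ⁅x, y⁆ * (y * ((β t u')⁻¹ * ⁅x, b⁆) * y⁻¹) =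
          (β t u * β t u')⁻¹ * ⁅x, y * b⁆ by
        rw [← mul_assoc y, hc y, mul_assoc (β t u')⁻¹, mul_assoc (β t u')⁻¹, ← mul_assoc _ (β t u')⁻¹,
          hc _, _root_.mul_inv_rev, commutatorElement_def, commutatorElement_def,
          commutatorElement_def]
        group] at this
  have hinv : ∀ c : R, c ≠ 0 → ∀ t u, β (c ^ 2 * t) (c ^ 2 * u) = β t u := fun c hc t u => by
    obtain ⟨h, hT, hw⟩ := L.scale k hk c hc
    set g := X.l h
    have hmv : ∀ t, σ (g * X.l (L.r k t) * g⁻¹) ∈ L.Q k ∧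
        L.π k (σ (g * X.l (L.r k t) * g⁻¹)) = c ^ 2 * t := fun t => by
      rw [map_mul, map_mul, map_inv, X.map_l, X.map_l]
      exact ⟨L.T_norm h hT k hk.le _ (L.r_mem k hk t),
        by rw [L.π_conj h hT k hk _ (L.r_mem k hk t), L.π_r k hk, hw]⟩
    have h' := huniq _ _ (hmv t).1 (hmv u).1 (β t u) (hβ t u) (by
      rw [← conjugate_commutatorElement]
      have := hS.2.2.2 h hT _ (hβS t u)
      rwa [← mul_assoc, L.ker_comm X (show σ (β t u)⁻¹ = 1 by rw [map_inv, hβ, inv_one]),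
        mul_assoc (β t u)⁻¹, mul_assoc (β t u)⁻¹] at this)
    rwa [(hmv t).2, (hmv u).2] at h'
  have h := hrep a b ha hb
  rwa [CfsgLib.SL2Mult.pairing_trivial β hadd1 hadd2 hinv h2 h3, inv_one, one_mul] at h

theorem step (hcase : ∀ i, k < i → i < L.n → ∀ t, (∃ h ∈ L.T, L.w k h = 1 ∧ L.w i h ≠ 1) ∨
      ∀ u, X.cm (L.r k t) (L.r i u) = 1) : ∃ S', L.Compl X k S' := by
  have hN : ∀ y s : Γ, σ y ∈ L.Q k → s ∈ S → y * s * y⁻¹ ∈ S := fun y s hy hs =>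
    L.preim_norm X hk hS hcase hy hs
  obtain ⟨h₀, hT₀, hw₀⟩ := L.moved k hk
  set g := X.l h₀ with hg
  have hgP : ∀ a, σ a ∈ L.Q k → σ (g * a * g⁻¹) ∈ L.Q k := fun a ha => by
    rw [map_mul, map_mul, map_inv, hg, X.map_l]; exact L.T_norm h₀ hT₀ k hk.le _ ha
  have hcm := fun a b (ha : σ a ∈ L.Q k) (hb : σ b ∈ L.Q k) => L.comm_mem X hk hS h2 h3 hN ha hb
  have hbr : ∀ a, σ a ∈ L.Q k → σ ⁅g, a⁆ ∈ L.Q k := fun a ha => by
    rw [commutatorElement_def, map_mul]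
    exact mul_mem (hgP a ha) (by rw [map_inv]; exact inv_mem ha)
  let M : Subgroup Γ :=
    { carrier := {x | ∃ a, σ a ∈ L.Q k ∧ ⁅g, a⁆⁻¹ * x ∈ S}
      one_mem' := ⟨1, by rw [map_one]; exact one_mem _, by simp [commutatorElement_def]⟩
      mul_mem' := by
        rintro x y ⟨a, ha, hx⟩ ⟨b, hb, hy⟩
        refine ⟨a * b, by rw [map_mul]; exact mul_mem ha hb, ?_⟩
        have e : ⁅g, a * b⁆⁻¹ * (x * y) = ⁅a, ⁅g, b⁆⁻¹⁆ * (⁅g, b⁆⁻¹ * (⁅g, a⁆⁻¹ * x) *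
            ⁅g, b⁆⁻¹⁻¹) * (⁅g, b⁆⁻¹ * y) := by
          simp only [commutatorElement_def]; group
        rw [e]
        exact mul_mem (mul_mem (hcm _ _ ha (by rw [map_inv]; exact inv_mem (hbr b hb)))
          (hN _ _ (by rw [map_inv]; exact inv_mem (hbr b hb)) hx)) hy
      inv_mem' := by
        rintro x ⟨a, ha, hx⟩
        refine ⟨a⁻¹, by rw [map_inv]; exact inv_mem ha, ?_⟩
        have e : ⁅g, a⁻¹⁆⁻¹ * x⁻¹ = ⁅a⁻¹, ⁅g, a⁆⁆ *
            (⁅g, a⁆ * (⁅g, a⁆⁻¹ * x)⁻¹ * ⁅g, a⁆⁻¹) := by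
          simp only [commutatorElement_def]; group
        rw [e]
        exact mul_mem (hcm _ _ (by rw [map_inv]; exact inv_mem ha) (hbr a ha))
          (hN _ _ (hbr a ha) (inv_mem hx)) }
  have hπ : ∀ a, σ a ∈ L.Q k → L.π k (σ ⁅g, a⁆) = (L.w k h₀ - 1) * L.π k (σ a) := fun a ha => by
    rw [commutatorElement_def, map_mul, map_inv, L.π_mul k hk _ (hgP a ha) _ (inv_mem ha),
      L.π_inv hk ha, map_mul, map_mul, map_inv, hg, X.map_l, L.π_conj h₀ hT₀ k hk _ ha]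
    ring
  refine ⟨M, fun x hx => ?_, fun b hb => ?_, fun x hx h1 => ?_, fun h hT x hx => ?_⟩
  · obtain ⟨a, ha, hs⟩ := hx
    have h1 := mul_mem (hbr a ha) (L.Q_le k hk (hS.1 _ hs))
    rwa [← map_mul, mul_inv_cancel_left] at h1
  · set a := X.l (L.r k ((L.w k h₀ - 1)⁻¹ * L.π k b))
    have ha : σ a ∈ L.Q k := by rw [X.map_l]; exact L.r_mem k hk _
    have hπ' : L.π k (σ ⁅g, a⁆) = L.π k b := by
      rw [hπ a ha, X.map_l, L.π_r k hk, ← mul_assoc, mul_inv_cancel₀ (sub_ne_zero.2 hw₀), one_mul]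
    obtain ⟨s, hs, es⟩ := hS.2.1 _ (L.inv_mul_mem hk (hbr a ha) hb hπ')
    exact ⟨⁅g, a⁆ * s, ⟨a, ha, by rwa [inv_mul_cancel_left]⟩,
      by rw [map_mul, es, mul_inv_cancel_left]⟩
  · obtain ⟨a, ha, hs⟩ := hx
    have hq : σ ⁅g, a⁆ ∈ L.Q (k + 1) := by
      have h' := inv_mem (hS.1 _ hs)
      rwa [map_mul, map_inv, h1, mul_one, inv_inv] at h'
    have hz : L.π k (σ a) = 0 := by
      have h' := (L.π_ker k hk _ (hbr a ha)).1 hq
      rw [hπ a ha] at h'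
      exact (mul_eq_zero.1 h').resolve_left (sub_ne_zero.2 hw₀)
    obtain ⟨z, hz1, hs'⟩ := L.exists_part X hk hS ((L.π_ker k hk _ ha).2 hz)
    have hga : ⁅g, a⁆ ∈ S := by
      rw [show a = (z⁻¹ * a) * z by rw [L.ker_comm X hz1, mul_inv_cancel_left]]
      rw [show ⁅g, z⁻¹ * a * z⁆ = g * (z⁻¹ * a) * g⁻¹ * (z⁻¹ * a)⁻¹ by
        rw [commutatorElement_def, show g * (z⁻¹ * a * z) * g⁻¹ = g * (z⁻¹ * a) * g⁻¹ * z by
          rw [mul_assoc _ g⁻¹ z, L.ker_comm X hz1 g⁻¹]; group]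
        group]
      exact mul_mem (hS.2.2.2 h₀ hT₀ _ hs') (inv_mem hs')
    exact hS.2.2.1 x (by have h := mul_mem hga hs; rwa [mul_inv_cancel_left] at h) h1
  · obtain ⟨a, ha, hs⟩ := hx
    refine ⟨X.l h * a * (X.l h)⁻¹, ?_, ?_⟩
    · rw [map_mul, map_mul, map_inv, X.map_l]; exact L.T_norm h hT k hk.le _ ha
    · have hcomm : ⁅g, X.l h * a * (X.l h)⁻¹⁆ = X.l h * ⁅g, a⁆ * (X.l h)⁻¹ := by
        rw [conjugate_commutatorElement]
        refine commutator_congr X.central ?_ rfl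
        rw [map_mul, map_mul, map_inv, hg, X.map_l, X.map_l, (L.T_comm h hT h₀ hT₀).eq,
          mul_inv_cancel_right]
      rw [hcomm, show (X.l h * ⁅g, a⁆ * (X.l h)⁻¹)⁻¹ * (X.l h * x * (X.l h)⁻¹) =
        X.l h * (⁅g, a⁆⁻¹ * x) * (X.l h)⁻¹ by group]
      exact hS.2.2.2 h hT _ hs

end Step

variable [Fintype R]

/-- The extension splits over the whole group. -/
theorem exists_compl (h2 : (2 : R) = 0 → 4 < Fintype.card R)
    (h3 : (2 : R) ≠ 0 → 10 < Fintype.card R)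
    (hcase : ∀ k i, k < i → i < L.n → ∀ t, (∃ h ∈ L.T, L.w k h = 1 ∧ L.w i h ≠ 1) ∨
      ∀ u, X.cm (L.r k t) (L.r i u) = 1) : ∃ S, L.Compl X 0 S := by
  suffices ∀ d k, k + d = L.n → ∃ S, L.Compl X k S from this L.n 0 (zero_add _)
  intro d
  induction d with
  | zero =>
    intro k hk
    obtain rfl : k = L.n := by omega
    refine ⟨⊥, fun s hs => ?_, fun a ha => ?_, fun s hs _ => mem_bot.1 hs, fun h _ s hs => ?_⟩
    · rw [mem_bot.1 hs, map_one]; exact one_mem _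
    · exact ⟨1, one_mem _, by rw [map_one]; rw [L.Q_top, mem_bot] at ha; exact ha.symm⟩
    · rw [mem_bot.1 hs, mul_one, mul_inv_cancel]; exact one_mem _
  | succ d ih =>
    intro k hk
    obtain ⟨S, hS⟩ := ih (k + 1) (by omega)
    exact L.step X (by omega) hS h2 h3 fun i h1 h2 => hcase k i h1 h2

/-- The derived group of the preimage meets the kernel trivially. -/
theorem derived_inf_ker (h2 : (2 : R) = 0 → 4 < Fintype.card R)
    (h3 : (2 : R) ≠ 0 → 10 < Fintype.card R)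
    (hcase : ∀ k i, k < i → i < L.n → ∀ t, (∃ h ∈ L.T, L.w k h = 1 ∧ L.w i h ≠ 1) ∨
      ∀ u, X.cm (L.r k t) (L.r i u) = 1) :
    ∀ z ∈ ⁅(L.Q 0).comap σ, (L.Q 0).comap σ⁆, z ∈ σ.ker → z = 1 := by
  obtain ⟨S, hS⟩ := L.exists_compl X h2 h3 hcase
  have hle : ⁅(L.Q 0).comap σ, (L.Q 0).comap σ⁆ ≤ S := by
    rw [Subgroup.commutator_le]
    intro a ha b hb
    obtain ⟨s, hs, es⟩ := hS.2.1 _ ha
    obtain ⟨t, ht, et⟩ := hS.2.1 _ hb
    rw [commutator_congr X.central es.symm et.symm, commutatorElement_def]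
    exact mul_mem (mul_mem (mul_mem hs ht) (inv_mem hs)) (inv_mem ht)
  exact fun z hz hk => hS.2.2.1 z (hle hz) (MonoidHom.mem_ker.1 hk)

end Layers

end CfsgLib.TwMult
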