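import Cfsg.Agent.TwMult.F4Words
import Cfsg.Agent.TwMult.Unip

/-!
The layers of the unipotent subgroup of `²F₄(q)` with the weights of the torus.
-/

set_option autoImplicit false
set_option maxRecDepth 100000
set_option linter.style.haveILetI false
set_option linter.unusedSectionVars false

namespace CfsgLib.Chev.F4Tw

open Cfsg.Lie Tab CfsgLib.Chev.CharTwo CfsgLib.TwMult
open scoped MatrixGroups commutatorElement

attribute [local irreducible] CharTwo.norm keys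

universe u

variable {K : Type u} [Field K] [Fintype K] {m : ℕ}

namespace Ctx

variable (C : Ctx K m)
include C

/-- The vectors vanishing below `k`. -/
def Low (_C : Ctx K m) (k : ℕ) (v : Fin 12 → K) : Prop := ∀ i : Fin 12, i.val < k → v i = 0

theorem supp_low {k : ℕ} {v : Fin 12 → K} (h : C.Low k v) :
    C.Supp v (List.range' k (12 - k)) := fun i => by
  by_cases hi : i.val < k
  · exact Or.inr (h i hi)
  · exact Or.inl (List.mem_range'_1.2 ⟨by omega, by omega⟩)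

theorem parOf_kmono (env : List K) (i : Fin 12) (ms : List (List ℕ)) :
    C.parOf (C.kv env (kmono i.val ms)) = (ms.map (mval env)).sum := by
  fin_cases i <;> simp [kmono, needR, kv, parOf]

theorem venv_unit (v w : Fin 12 → K) (k : Fin 12) :
    mval (C.venv v ++ C.venv w) (unit1 (2 * k.val)) = v k ∧
      mval (C.venv v ++ C.venv w) (unit1 (24 + 2 * k.val)) = w k := by
  rw [mval_unit, mval_unit]
  fin_cases k <;> simp [venv]

theorem wv_two {v w : Fin 12 → K} {on on' : List ℕ} (hv : C.Supp v on) (hw : C.Supp w on') :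
    wv good_F4 (C.venv v ++ C.venv w) (rayW on ++ second (rayW on')) = C.PR v * C.PR w := by
  rw [wv_append, C.wv_rayW hv, C.wv_second, ← List.append_nil (C.venv w), C.wv_rayW hw]

theorem wv_comm {v w : Fin 12 → K} {a b : ℕ} (hv : C.Supp v [a]) (hw : C.Supp w [b]) :
    wv good_F4 (C.venv v ++ C.venv w) (commW a b) =
      C.PR v * C.PR w * (C.PR v)⁻¹ * (C.PR w)⁻¹ := by
  have h1 : wv good_F4 (C.venv v ++ C.venv w) (rayW [a]) = C.PR v := C.wv_rayW hv _
  have h2 : wv good_F4 (C.venv v ++ C.venv w) (second (rayW [b])) = C.PR w := by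
    rw [C.wv_second, ← List.append_nil (C.venv w), C.wv_rayW hw]
  rw [commW, wv_append, wv_append, wv_append, C.wv_reverse, C.wv_reverse, h1, h2]

/-- All coordinates of an element given by a collected word. -/
theorem coords_of_keys {n : ℕ} {w : List (ℕ × List ℕ)} {g : Fin 12 → List (List (List ℕ))}
    (h : keys n w ((List.finRange 12).map Fin.val) = some ((List.finRange 12).map g))
    {env : List K} (hU : wv good_F4 env w ∈ C.Z.U1) :
    ∃ z, wv good_F4 env w = C.PR z ∧ ∀ i, z i = C.parOf (C.kv env (g i)) := by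
  obtain ⟨z, hz, e⟩ := C.params_of_keys h hU
  rw [List.map_map] at e
  exact ⟨z, hz, fun i => List.map_inj_left.1 e i (List.mem_finRange i)⟩

theorem mul_coord {k : Fin 12} {v w z : Fin 12 → K} (hv : C.Low k.val v) (hw : C.Low k.val w)
    (h : C.PR v * C.PR w = C.PR z) : z k = v k + w k := by
  have e := C.wv_two (C.supp_low hv) (C.supp_low hw)
  obtain ⟨z', hz', hk⟩ := C.params_of_keys (ps := [k]) (kMul k) (env := C.venv v ++ C.venv w)
    (e ▸ mul_mem (C.PR_mem v) (C.PR_mem w))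
  rw [e, h] at hz'
  rw [C.PR_inj hz']
  simp only [List.map_cons, List.map_nil, List.cons.injEq, and_true, C.parOf_kmono,
    List.sum_cons, List.sum_nil, add_zero, (C.venv_unit v w k).1, (C.venv_unit v w k).2] at hk
  rw [hk, add_comm]

/-- An element of the unipotent subgroup inside the group. -/
noncomputable def gP (C : Ctx K m) (v : Fin 12 → K) : C.Z.G1 :=
  ⟨C.PR v, C.Z.U1_le (C.PR_mem v)⟩

theorem gP_inj {v w : Fin 12 → K} (h : C.gP v = C.gP w) : v = w :=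
  C.PR_inj (congrArg Subtype.val h)

theorem gP_zero : C.gP 0 = 1 := Subtype.ext C.PR_zero

theorem exists_mul (v w : Fin 12 → K) : ∃ z, C.gP v * C.gP w = C.gP z := by
  obtain ⟨z, hz⟩ := C.mem_U1_iff.1 (mul_mem (C.PR_mem v) (C.PR_mem w))
  exact ⟨z, Subtype.ext hz⟩

theorem low_mul {k : ℕ} {v w z : Fin 12 → K} (hv : C.Low k v) (hw : C.Low k w)
    (h : C.gP v * C.gP w = C.gP z) : C.Low k z := fun i hi => by
  rw [C.mul_coord (k := i) (fun j hj => hv j (lt_trans hj hi)) (fun j hj => hw j (lt_trans hj hi))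
    (congrArg Subtype.val h), hv i hi, hw i hi, add_zero]

/-- The terms of the filtration. -/
noncomputable def Qs (C : Ctx K m) (k : ℕ) : Subgroup C.Z.G1 :=
  let M : Submonoid C.Z.G1 :=
    { carrier := {g | ∃ v, C.Low k v ∧ g = C.gP v}
      one_mem' := ⟨0, fun _ _ => rfl, C.gP_zero.symm⟩
      mul_mem' := by
        rintro a b ⟨v, hv, rfl⟩ ⟨w, hw, rfl⟩
        obtain ⟨z, hz⟩ := C.exists_mul v w
        exact ⟨z, C.low_mul hv hw hz, hz⟩ }
  { M with
    inv_mem' := fun {a} ha => by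
      have e : a⁻¹ = a ^ (orderOf a - 1) :=
        inv_eq_of_mul_eq_one_right (by
          rw [← pow_succ', Nat.sub_add_cancel (orderOf_pos a), pow_orderOf_eq_one])
      show a⁻¹ ∈ M
      rw [e]
      exact pow_mem ha _ }

theorem mem_Qs {k : ℕ} {g : C.Z.G1} : g ∈ C.Qs k ↔ ∃ v, C.Low k v ∧ g = C.gP v := Iff.rfl

theorem Qs_zero : C.Qs 0 = C.Z.U1.subgroupOf C.Z.G1 := by
  ext g
  rw [Subgroup.mem_subgroupOf, C.mem_U1_iff, C.mem_Qs]
  exact ⟨fun ⟨v, _, e⟩ => ⟨v, congrArg Subtype.val e⟩,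
    fun ⟨v, e⟩ => ⟨v, fun i hi => absurd hi (Nat.not_lt_zero _), Subtype.ext e⟩⟩

open scoped Classical in
/-- The coordinates of an element. -/
noncomputable def vec (C : Ctx K m) (g : C.Z.G1) : Fin 12 → K :=
  if h : ∃ v, g = C.gP v then h.choose else 0

theorem vec_gP (v : Fin 12 → K) : C.vec (C.gP v) = v := by
  have h : ∃ w, C.gP v = C.gP w := ⟨v, rfl⟩
  rw [vec, dif_pos h]
  exact (C.gP_inj h.choose_spec).symm

/-- The coordinate of a layer. -/
noncomputable def crdL (C : Ctx K m) (k : ℕ) (g : C.Z.G1) : K :=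
  if hk : k < 12 then C.vec g ⟨k, hk⟩ else 0

/-- The element with one coordinate. -/
noncomputable def xe (C : Ctx K m) (k : Fin 12) (t : K) : C.Z.G1 := C.gP (C.sg k t)

/-- The representatives. -/
noncomputable def rep (C : Ctx K m) (k : ℕ) (t : K) : C.Z.G1 :=
  if hk : k < 12 then C.xe ⟨k, hk⟩ t else 1

theorem crdL_gP (k : Fin 12) (v : Fin 12 → K) : C.crdL k.val (C.gP v) = v k := by
  rw [crdL, dif_pos k.isLt, C.vec_gP]

/-- An element of the torus inside the group. -/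
noncomputable def tH (C : Ctx K m) (p : Kˣ × Kˣ) : C.Z.G1 := ⟨C.h p, C.h_mem p⟩

theorem coe_tH (p : Kˣ × Kˣ) : ((C.tH p : C.Z.G1) : GL chevF4.Idx K) = C.h p := rfl

theorem coe_gP (v : Fin 12 → K) : ((C.gP v : C.Z.G1) : GL chevF4.Idx K) = C.PR v := rfl

/-- The scalar by which a torus element acts on a coordinate. -/
noncomputable def wt (C : Ctx K m) (k : ℕ) (p : Kˣ × Kˣ) : Kˣ :=
  F4Data.tab.chi (rootOf k) (C.cvec p)

theorem wt_eq (k : ℕ) (p : Kˣ × Kˣ) :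
    C.wt k p = p.1 ^ ((wtA k).1 + (wtA k).2 * (2 ^ m : ℤ)) *
      p.2 ^ ((wtB k).1 + (wtB k).2 * (2 ^ m : ℤ)) := by
  have key : ∀ (u : Kˣ) (c : ℤ), (u ^ 2 ^ m) ^ c = u ^ (c * (2 ^ m : ℤ)) := fun u c => by
    rw [← zpow_natCast, ← _root_.zpow_mul, mul_comm]; push_cast; rfl
  rw [wt, C.chi_eq, key, key, wtA, wtB, _root_.zpow_add, _root_.zpow_add]
  ac_rfl

theorem chi_quad {a b c : ℕ} (h : (a, b, c) ∈ [(34, 26, 36), (29, 41, 44), (35, 31, 40),
    (27, 25, 28)]) (p : Kˣ × Kˣ) :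
    (F4Data.tab.chi a (C.cvec p) : K) * (F4Data.tab.chi b (C.cvec p) : K) =
      (F4Data.tab.chi c (C.cvec p) : K) := by
  rw [← Units.val_mul]
  refine congrArg Units.val ?_
  have hc := cart_quads _ h
  simp only [C.chi_eq]
  have h0 : F4Data.tab.cart 0 a + F4Data.tab.cart 0 b = F4Data.tab.cart 0 c := hc 0
  have h1 : F4Data.tab.cart 1 a + F4Data.tab.cart 1 b = F4Data.tab.cart 1 c := hc 1
  have h2 : F4Data.tab.cart 2 a + F4Data.tab.cart 2 b = F4Data.tab.cart 2 c := hc 2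
  have h3 : F4Data.tab.cart 3 a + F4Data.tab.cart 3 b = F4Data.tab.cart 3 c := hc 3
  rw [← h0, ← h1, ← h2, ← h3]
  simp only [_root_.zpow_add]
  ac_rfl

set_option maxHeartbeats 1000000 in
theorem tH_gP (p : Kˣ × Kˣ) (v : Fin 12 → K) :
    C.tH p * C.gP v * (C.tH p)⁻¹ = C.gP fun i => (C.wt i.val p : K) * v i := by
  refine Subtype.ext ?_
  rw [Subgroup.coe_mul, Subgroup.coe_mul, Subgroup.coe_inv, C.coe_tH, C.coe_gP, C.coe_gP]
  have h : ∀ l : List ℕ, (∀ r ∈ l, r < 48) →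
      C.h p * (l.map fun r => good_F4.full.x r (C.crd v r)).prod * (C.h p)⁻¹ =
        (l.map fun r => good_F4.full.x r ((F4Data.tab.chi r (C.cvec p) : K) * C.crd v r)).prod := by
    intro l
    induction l with
    | nil => intro _; simp
    | cons r l ih =>
      intro hl
      simp only [List.map_cons, List.prod_cons]
      rw [← C.h_conj_x (hl r (List.mem_cons_self ..)) p (C.crd v r),
        ← ih fun s hs => hl s (List.mem_cons_of_mem _ hs)]
      group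
  have e : C.h p * C.PR v * (C.h p)⁻¹ =
      C.NF fun r => (F4Data.tab.chi r (C.cvec p) : K) * C.crd v r := by
    rw [C.PR_eq_NF]; exact h rayOrd fun r hr => (rayOrd_pos hr).1
  rw [C.eq_PR_of_NF (C.Z.H0_conj_U1 (C.H0_eq ▸ ⟨p, rfl⟩) (C.PR_mem v)) e]
  congr 1
  funext i
  have q1 := C.chi_quad (a := 34) (b := 26) (c := 36) (by simp) p
  have q2 := C.chi_quad (a := 29) (b := 41) (c := 44) (by simp) p
  have q3 := C.chi_quad (a := 35) (b := 31) (c := 40) (by simp) p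
  have q4 := C.chi_quad (a := 27) (b := 25) (c := 28) (by simp) p
  fin_cases i <;> simp [par, crd, wt, rootOf, pow_succ]
  · linear_combination v 1 ^ 2 ^ m * v 1 * q1 +
      ((F4Data.tab.chi 36 (C.cvec p) : K) * (v 1 ^ 2 ^ m * v 1)) * C.two_eq
  · linear_combination v 4 ^ 2 ^ m * v 4 * q2 +
      ((F4Data.tab.chi 44 (C.cvec p) : K) * (v 4 ^ 2 ^ m * v 4)) * C.two_eq
  · linear_combination v 7 ^ 2 ^ m * v 7 * q3 +
      ((F4Data.tab.chi 40 (C.cvec p) : K) * (v 7 ^ 2 ^ m * v 7)) * C.two_eq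
  · linear_combination v 10 ^ 2 ^ m * v 10 * q4 +
      ((F4Data.tab.chi 28 (C.cvec p) : K) * (v 10 ^ 2 ^ m * v 10)) * C.two_eq

theorem tH_xe (p : Kˣ × Kˣ) (k : Fin 12) (t : K) :
    C.tH p * C.xe k t * (C.tH p)⁻¹ = C.xe k ((C.wt k.val p : K) * t) := by
  rw [xe, C.tH_gP, xe]
  congr 1
  funext i
  by_cases h : i = k
  · subst h; simp [sg]
  · simp [sg, h]

theorem crdL_conj (p : Kˣ × Kˣ) (k : Fin 12) (v : Fin 12 → K) :
    C.crdL k.val (C.tH p * C.gP v * (C.tH p)⁻¹) = (C.wt k.val p : K) * v k := by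
  rw [C.tH_gP, C.crdL_gP]

theorem unit_order (u : Kˣ) : u ^ (2 * (2 ^ m : ℤ) * 2 ^ m - 1) = 1 := by
  rw [_root_.zpow_sub_one, show u ^ (2 * (2 ^ m : ℤ) * 2 ^ m) = u ^ (2 * 2 ^ m * 2 ^ m) by
    rw [← zpow_natCast]; norm_cast, C.pow_q_units, mul_inv_cancel]

theorem cert_pow {d : ℤ × ℤ × ℤ} (h : chkCert d = true) :
    ∃ V : ℤ, ∀ u : Kˣ, u ^ (ev2 d (2 ^ m : ℤ) * V) = u ^ 32 := by
  obtain ⟨V, Q, e⟩ := cert_sound h (2 ^ m : ℤ)
  refine ⟨V, fun u => ?_⟩
  rw [e, _root_.zpow_add, mul_comm Q, _root_.zpow_mul, C.unit_order, _root_.one_zpow, mul_one]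
  exact zpow_natCast u 32

theorem pow_two_eq_one {u : Kˣ} (h : u ^ 2 = 1) : u = 1 := by
  have h1 : ((u : K) + 1) ^ 2 = 0 := by
    have := congrArg Units.val h
    rw [Units.val_pow_eq_pow_val, Units.val_one] at this
    linear_combination this + ((u : K) + 1) * C.two_eq
  exact Units.ext ((add_eq_zero_iff_eq_neg.mp (eq_zero_of_pow_eq_zero h1)).trans (C.neg_eq 1))

theorem exists_ne_one (hm : 1 ≤ m) : ∃ u : Kˣ, u ≠ 1 := by
  have h1 : (2 : ℕ) ^ 3 ≤ 2 ^ (2 * m + 1) := Nat.pow_le_pow_right two_pos (by omega)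
  have : Nontrivial Kˣ := Finite.one_lt_card_iff_nontrivial.1 (by rw [C.card_units]; omega)
  exact exists_ne 1

theorem pow32_ne {u : Kˣ} (hu : u ≠ 1) : u ^ 32 ≠ 1 := fun h => hu (by
  rw [show (32 : ℕ) = 2 * 2 * 2 * 2 * 2 from rfl, pow_mul, pow_mul, pow_mul, pow_mul] at h
  exact C.pow_two_eq_one (C.pow_two_eq_one (C.pow_two_eq_one (C.pow_two_eq_one (C.pow_two_eq_one h)))))

theorem exists_pow32 (t : Kˣ) : ∃ u : Kˣ, u ^ 32 = t ^ 2 := by
  have hr : ∀ t : Kˣ, ∃ u : Kˣ, u ^ 2 = t := fun t => by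
    obtain ⟨y, hy⟩ := C.exists_root2 (t : K)
    refine ⟨Units.mk0 y fun h => t.ne_zero (by rw [← hy, h, mul_zero]), Units.ext ?_⟩
    simp [pow_two, hy]
  obtain ⟨a, rfl⟩ := hr t
  obtain ⟨b, rfl⟩ := hr a
  obtain ⟨c, rfl⟩ := hr b
  obtain ⟨d, rfl⟩ := hr c
  exact ⟨d, by simp only [← pow_mul]⟩

/-- Every scalar square is attained on every layer. -/
theorem exists_wt (k : Fin 12) (t : Kˣ) : ∃ p, C.wt k.val p = t ^ 2 := by
  obtain ⟨V, hV⟩ := C.cert_pow (chk_oneWt k)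
  obtain ⟨u, hu⟩ := C.exists_pow32 t
  by_cases h6 : k.val = 6
  · refine ⟨(1, u ^ V), ?_⟩
    rw [C.wt_eq, ← hu, ← hV, oneWt, if_pos h6, _root_.one_zpow, one_mul, ← _root_.zpow_mul]
    simp only [ev2]
    congr 1
    ring
  · refine ⟨(u ^ V, 1), ?_⟩
    rw [C.wt_eq, ← hu, ← hV, oneWt, if_neg h6, _root_.one_zpow, mul_one, ← _root_.zpow_mul]
    simp only [ev2]
    congr 1
    ring

/-- Two coordinates are separated by the torus. -/
theorem exists_sep (hm : 1 ≤ m) (k i : Fin 12) (hne : k ≠ i)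
    (h : (k.val, i.val) ∉ special ∧ (i.val, k.val) ∉ special) :
    ∃ p, C.wt k.val p = 1 ∧ C.wt i.val p ≠ 1 := by
  rcases chk_det2 k i with h1 | h1 | h1 | h1
  · exact absurd h1 hne
  · exact absurd h1 h.1
  · exact absurd h1 h.2
  obtain ⟨V, hV⟩ := C.cert_pow h1
  obtain ⟨u, hu⟩ := C.exists_ne_one hm
  set e : ℤ := 2 ^ m with he
  refine ⟨(u ^ (V * ((wtB k.val).1 + (wtB k.val).2 * e)),
    u ^ (-(V * ((wtA k.val).1 + (wtA k.val).2 * e)))), ?_, ?_⟩
  · rw [C.wt_eq, ← _root_.zpow_mul, ← _root_.zpow_mul, ← _root_.zpow_add, ← _root_.zpow_zero u]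
    congr 1
    rw [← he]; ring
  · rw [C.wt_eq, ← _root_.zpow_mul, ← _root_.zpow_mul, ← _root_.zpow_add]
    convert C.pow32_ne hu using 1
    rw [← hV u]
    congr 1
    simp only [ev2, det2]
    rw [← he]; ring

/-- The layers. -/
noncomputable def layers (C : Ctx K m) (hm : 1 ≤ m) : Layers C.Z.G1 K where
  n := 12
  Q := C.Qs
  Q_le k _ g := by
    rintro ⟨v, hv, rfl⟩
    exact ⟨v, fun i hi => hv i (Nat.lt_succ_of_lt hi), rfl⟩
  Q_top := (Subgroup.eq_bot_iff_forall _).2 fun g ⟨v, hv, e⟩ => by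
    rw [e, show v = 0 from funext fun i => hv i i.isLt, C.gP_zero]
  π := C.crdL
  π_mul k hk a ha b hb := by
    obtain ⟨v, hv, rfl⟩ := ha
    obtain ⟨w, hw, rfl⟩ := hb
    obtain ⟨z, hz⟩ := C.exists_mul v w
    rw [hz, C.crdL_gP ⟨k, hk⟩, C.crdL_gP ⟨k, hk⟩, C.crdL_gP ⟨k, hk⟩]
    exact C.mul_coord (k := ⟨k, hk⟩) hv hw (congrArg Subtype.val hz)
  π_ker k hk a ha := by
    obtain ⟨v, hv, rfl⟩ := ha
    rw [C.crdL_gP ⟨k, hk⟩]
    refine ⟨fun ⟨w, hw, e⟩ => ?_, fun h => ⟨v, fun i hi => ?_, rfl⟩⟩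
    · rw [C.gP_inj e]; exact hw _ (Nat.lt_succ_self k)
    · rcases Nat.lt_succ_iff_lt_or_eq.1 hi with h' | h'
      · exact hv i h'
      · rw [show i = ⟨k, hk⟩ from Fin.ext h', h]
  r := C.rep
  r_mem k hk t := by
    rw [rep, dif_pos hk]
    refine ⟨_, fun i hi => ?_, rfl⟩
    exact Pi.single_eq_of_ne (fun e => by rw [e] at hi; exact lt_irrefl k hi) _
  π_r k hk t := by
    rw [rep, dif_pos hk, xe, C.crdL_gP ⟨k, hk⟩, sg, Pi.single_eq_same]
  T := Set.range C.tH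
  T_comm := by
    rintro _ ⟨a, rfl⟩ _ ⟨b, rfl⟩
    exact Subtype.ext (show C.h a * C.h b = C.h b * C.h a by rw [← map_mul, mul_comm, map_mul])
  T_norm := by
    rintro _ ⟨p, rfl⟩ k _ _ ⟨v, hv, rfl⟩
    exact ⟨_, fun i hi => by rw [hv i hi, mul_zero], C.tH_gP p v⟩
  w k h := C.crdL k (h * C.rep k 1 * h⁻¹)
  π_conj := by
    rintro _ ⟨p, rfl⟩ k hk _ ⟨v, hv, rfl⟩
    rw [rep, dif_pos hk, xe, C.crdL_conj p ⟨k, hk⟩, C.crdL_conj p ⟨k, hk⟩, C.crdL_gP ⟨k, hk⟩, sg,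
      Pi.single_eq_same, mul_one]
  scale k hk t ht := by
    obtain ⟨p, hp⟩ := C.exists_wt ⟨k, hk⟩ (Units.mk0 t ht)
    refine ⟨C.tH p, ⟨p, rfl⟩, ?_⟩
    rw [rep, dif_pos hk, xe, C.crdL_conj p ⟨k, hk⟩, sg, Pi.single_eq_same, mul_one, hp]
    simp
  moved k hk := by
    obtain ⟨u, hu⟩ := C.exists_ne_one hm
    obtain ⟨p, hp⟩ := C.exists_wt ⟨k, hk⟩ u
    refine ⟨C.tH p, ⟨p, rfl⟩, ?_⟩
    rw [rep, dif_pos hk, xe, C.crdL_conj p ⟨k, hk⟩, sg, Pi.single_eq_same, mul_one, hp]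
    exact fun h => hu (C.pow_two_eq_one (Units.ext (h.trans Units.val_one.symm)))

theorem layers_w (hm : 1 ≤ m) (k : Fin 12) (p : Kˣ × Kˣ) :
    (C.layers hm).w k.val (C.tH p) = (C.wt k.val p : K) := by
  show C.crdL k.val (C.tH p * C.rep k.val 1 * (C.tH p)⁻¹) = _
  rw [rep, dif_pos k.isLt, xe, C.crdL_conj p k, sg, Pi.single_eq_same, mul_one]

end Ctx

end CfsgLib.Chev.F4Tw
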