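import Cfsg.Agent.TwMult.BlockRep
import Cfsg.Agent.TwMult.TwistedData
import Cfsg.Agent.Chev.TwistedF4
import Cfsg.Agent.Suzuki.SylowOdd
import Cfsg.Agent.Suzuki.Torus
import Cfsg.Agent.Suzuki.LieModel
import Cfsg.Agent.SL2Mult.Main

/-!
The rank one subgroups of `²F₄(q)` act faithfully on blocks of root vectors, as `SL₂(q)` and `Sz(q)`.
-/

set_option autoImplicit false
set_option maxRecDepth 100000
set_option linter.style.haveILetI false
set_option linter.unusedSectionVars false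

namespace CfsgLib.Chev.F4Tw

open Cfsg.Lie Matrix Tab CfsgLib.TwMult
open scoped MatrixGroups

/-- The block of the pair orbit. -/
def V0 : Fin 2 → Fin chevF4.nroots := ![⟨34, by decide⟩, ⟨27, by decide⟩]

/-- The block of the quadruple orbit. -/
def V1 : Fin 4 → Fin chevF4.nroots :=
  ![⟨37, by decide⟩, ⟨35, by decide⟩, ⟨34, by decide⟩, ⟨33, by decide⟩]

theorem V0_inj : Function.Injective V0 := by decide

theorem V1_inj : Function.Injective V1 := by decide

/-- The data of a root acting on a block. -/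
def chkBlk {k : ℕ} (V : Fin k → Fin chevF4.nroots) (r : ℕ) (E : List (ℕ × ℕ)) : Bool :=
  decide (r < 48) && (List.finRange k).all fun j =>
    decide ((V j).val ≠ r ∧ (V j).val ≠ chevF4.negIdx.getD r 0) &&
      allBelow (fun u => match (List.finRange k).find? fun i => decide ((V i).val = u) with
        | some i => decide ((chevF4.chainCoeff r (V j).val u).map (fun km => (km.1, km.2 % 2)) =
            if E.contains (i.val, j.val) then [(1, 1)] else [])
        | none => (chevF4.chainCoeff r (V j).val u).isEmpty) 48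

theorem blk_V0 : ∀ p ∈ [(33, [(0, 1)]), (24, []), (14, [(1, 0)]), (23, [])],
    chkBlk V0 p.1 p.2 = true := by
  decide +kernel

theorem blk_V1 : ∀ p ∈ [(27, [(0, 1), (2, 3)]), (25, [(1, 2)]), (28, [(0, 2), (1, 3)]),
    (30, [(0, 3)]), (20, [(1, 0), (3, 2)]), (22, [(2, 1)]), (19, [(2, 0), (3, 1)]),
    (17, [(3, 0)])], chkBlk V1 p.1 p.2 = true := by
  decide +kernel

theorem cart_V : ∀ j : Fin 4, F4Data.tab.cart j.val 33 = (![2, -1, 0, 0] : Fin 4 → ℤ) j ∧
    F4Data.tab.cart j.val 34 = (![1, 1, -1, 0] : Fin 4 → ℤ) j ∧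
    F4Data.tab.cart j.val 35 = (![1, -1, 1, -1] : Fin 4 → ℤ) j ∧
    F4Data.tab.cart j.val 37 = (![0, 1, 0, -1] : Fin 4 → ℤ) j ∧
    F4Data.tab.cart j.val 27 = (![-1, 2, -1, 0] : Fin 4 → ℤ) j := by
  decide +kernel

/-- The matrix with ones at the places of a list. -/
def Emat (k : ℕ) (E : List (ℕ × ℕ)) (R : Type*) [Zero R] [One R] : Matrix (Fin k) (Fin k) R :=
  Matrix.of fun i j => if E.contains (i.val, j.val) then 1 else 0

universe u

variable {K : Type u} [Field K] [Fintype K] {m : ℕ}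

namespace Ctx

variable (C : Ctx K m)
include C

theorem int_cast_mod (c : ℤ) : (c : K) = ((c % 2 : ℤ) : K) := by
  have h2 : (2 : K) = 0 := by rw [← one_add_one_eq_two]; exact C.add_self 1
  conv_lhs => rw [← Int.emod_add_mul_ediv c 2]
  rw [Int.cast_add, Int.cast_mul, Int.cast_ofNat, h2, zero_mul, add_zero]

theorem x_block {k : ℕ} {V : Fin k → Fin chevF4.nroots} (hV : Function.Injective V) {r : ℕ}
    {E : List (ℕ × ℕ)} (h : chkBlk V r E = true) (y : K) :
    InvBlock V (good_F4.full.x r y : GL chevF4.Idx K).val ∧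
      blk V (good_F4.full.x r y : GL chevF4.Idx K).val = 1 + y • Emat k E K := by
  simp only [chkBlk, Bool.and_eq_true, decide_eq_true_eq, List.all_eq_true, List.mem_finRange,
    forall_const, allBelow_iff] at h
  obtain ⟨hr, hj⟩ := h
  have hr' : r < chevF4.nroots := hr
  have entry : ∀ (row : chevF4.Idx) (j : Fin k),
      (good_F4.full.x r y : GL chevF4.Idx K).val row (Sum.inr (V j)) =
        match row with
        | Sum.inl _ => 0
        | Sum.inr u => (if u = V j then 1 else 0) +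
          ((chevF4.chainCoeff r (V j).val u.val).map fun km => ((km.2 : ℤ) : K) * y ^ km.1).sum := by
    intro row j
    obtain ⟨⟨h1, h2⟩, -⟩ := hj j
    rw [good_F4.full.coe_x' r y, show chevF4.x K r y = chevF4.xMat K ⟨r, hr'⟩ y from dif_pos hr']
    show (if V j = ⟨r, hr'⟩ then _ else if (V j).val = chevF4.negIdx.getD r 0 then _ else _) = _
    rw [if_neg fun e => h1 (congrArg Fin.val e), if_neg h2]
    cases row <;> rfl
  refine ⟨fun row j hrow => ?_, Matrix.ext fun i j => ?_⟩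
  · rw [entry]
    rcases row with l | u
    · rfl
    · have hu := (hj j).2 u.val u.isLt
      have hnone : (List.finRange k).find? (fun i => decide ((V i).val = u.val)) = none := by
        rw [List.find?_eq_none]
        intro i _ e
        exact hrow i (congrArg Sum.inr (Fin.ext (of_decide_eq_true e).symm))
      rw [hnone] at hu
      show (if u = V j then (1 : K) else 0) + _ = 0
      rw [if_neg fun e => hrow j (congrArg Sum.inr e), List.isEmpty_iff.mp hu]
      simp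
  · show (good_F4.full.x r y : GL chevF4.Idx K).val (Sum.inr (V i)) (Sum.inr (V j)) = _
    rw [entry]
    have hu := (hj j).2 (V i).val (V i).isLt
    obtain ⟨i', hi'⟩ : ∃ i', (List.finRange k).find? (fun l => decide ((V l).val = (V i).val)) =
        some i' := by
      refine Option.isSome_iff_exists.mp (List.find?_isSome.mpr ⟨i, List.mem_finRange i, ?_⟩)
      exact decide_eq_true rfl
    have hd := List.find?_some hi'
    have hii : i' = i := hV (Fin.ext (of_decide_eq_true hd))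
    rw [hi', hii] at hu
    simp only [decide_eq_true_eq] at hu
    set L := chevF4.chainCoeff r (V j).val (V i).val
    have hsum : (L.map fun km => ((km.2 : ℤ) : K) * y ^ km.1).sum =
        ((L.map fun km => (km.1, km.2 % 2)).map fun km => ((km.2 : ℤ) : K) * y ^ km.1).sum := by
      rw [List.map_map]
      exact congrArg List.sum (List.map_congr_left fun km _ => by
        rw [Function.comp_apply, ← C.int_cast_mod])
    show (if V i = V j then (1 : K) else 0) + _ = _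
    rw [hsum, hu]
    simp only [Matrix.add_apply, Matrix.smul_apply, Matrix.one_apply, Emat, Matrix.of_apply,
      hV.eq_iff, smul_eq_mul]
    split_ifs <;> simp

theorem hT_block {k : ℕ} {V : Fin k → Fin chevF4.nroots} (hV : Function.Injective V)
    (p : Kˣ × Kˣ) :
    InvBlock V (C.h p).val ∧ blk V (C.h p).val =
      Matrix.diagonal fun i => (F4Data.tab.chi (V i).val (C.cvec p) : K) := by
  show InvBlock V (F4Data.tab.hT K (C.cvec p)).val ∧ blk V (F4Data.tab.hT K (C.cvec p)).val = _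
  rw [F4Data.tab.coe_hT]
  refine ⟨fun row j h => Matrix.diagonal_apply_ne _ (h j), Matrix.ext fun i j => ?_⟩
  by_cases h : i = j
  · subst h; simp [blk]
  · simp [blk, Matrix.diagonal_apply_ne _ h, hV.ne h]

/-- The block of a positive element of the pair orbit. -/
theorem blk_pair {a b : ℕ} {E : List (ℕ × ℕ)} (ha : chkBlk V0 a E = true)
    (hb : chkBlk V0 b [] = true) (y1 y2 : K) :
    InvBlock V0 (good_F4.full.x a y1 * good_F4.full.x b y2).val ∧
      blk V0 (good_F4.full.x a y1 * good_F4.full.x b y2).val = 1 + y1 • Emat 2 E K := by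
  obtain ⟨i1, e1⟩ := C.x_block V0_inj ha y1
  obtain ⟨i2, e2⟩ := C.x_block V0_inj hb y2
  rw [Units.val_mul]
  refine ⟨invBlock_mul V0_inj i1 i2, ?_⟩
  rw [blk_mul V0_inj i2, e1, e2, show Emat 2 [] K = 0 by ext; simp [Emat], smul_zero, add_zero,
    mul_one]

theorem blk_quad {a b c d : ℕ} {Ea Eb Ec Ed : List (ℕ × ℕ)} (ha : chkBlk V1 a Ea = true)
    (hb : chkBlk V1 b Eb = true) (hc : chkBlk V1 c Ec = true) (hd : chkBlk V1 d Ed = true)
    (y1 y2 y3 y4 : K) :
    InvBlock V1 (C.P4 a b c d y1 y2 y3 y4).val ∧ blk V1 (C.P4 a b c d y1 y2 y3 y4).val =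
      (1 + y1 • Emat 4 Ea K) * (1 + y2 • Emat 4 Eb K) *
        ((1 + y3 • Emat 4 Ec K) * (1 + y4 • Emat 4 Ed K)) := by
  obtain ⟨i1, e1⟩ := C.x_block V1_inj ha y1
  obtain ⟨i2, e2⟩ := C.x_block V1_inj hb y2
  obtain ⟨i3, e3⟩ := C.x_block V1_inj hc y3
  obtain ⟨i4, e4⟩ := C.x_block V1_inj hd y4
  rw [P4, Units.val_mul, Units.val_mul, Units.val_mul]
  refine ⟨invBlock_mul V1_inj (invBlock_mul V1_inj i1 i2) (invBlock_mul V1_inj i3 i4), ?_⟩
  rw [blk_mul V1_inj (invBlock_mul V1_inj i3 i4), blk_mul V1_inj i2, blk_mul V1_inj i4,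
    e1, e2, e3, e4]

theorem isSzField (hm : 1 ≤ m) : CfsgLib.Suzuki.IsSzField K m :=
  CfsgLib.Suzuki.isSzField_of_card hm C.hK

theorem pow_exp (t : K) : (t ^ 2 ^ m) ^ 2 ^ (m + 1) = t := by
  rw [show 2 ^ (m + 1) = 2 * 2 ^ m by ring]
  exact C.pow_qq' t

theorem neg_one_eq : (-1 : K) = 1 := C.neg_eq 1

theorem mat_pos (a b c d : K) :
    (1 + a • Emat 4 [(0, 1), (2, 3)] K) * (1 + b • Emat 4 [(1, 2)] K) *
        ((1 + c • Emat 4 [(0, 2), (1, 3)] K) * (1 + d • Emat 4 [(0, 3)] K)) =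
      !![1, a, a * b + c, a * c + d; 0, 1, b, c; 0, 0, 1, a; 0, 0, 0, 1] := by
  ext i j
  fin_cases i <;> fin_cases j <;>
    simp [Emat, Matrix.mul_apply, Fin.sum_univ_four, Matrix.one_apply] <;> ring

theorem mat_neg (a b c d : K) :
    (1 + a • Emat 4 [(1, 0), (3, 2)] K) * (1 + b • Emat 4 [(2, 1)] K) *
        ((1 + c • Emat 4 [(2, 0), (3, 1)] K) * (1 + d • Emat 4 [(3, 0)] K)) =
      !![1, 0, 0, 0; a, 1, 0, 0; c, b, 1, 0; a * c + d, a * b + c, a, 1] := by
  ext i j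
  fin_cases i <;> fin_cases j <;>
    simp [Emat, Matrix.mul_apply, Fin.sum_univ_four, Matrix.one_apply] <;> ring

theorem umat_eq (t u : K) :
    CfsgLib.Suzuki.Umat m (t ^ 2 ^ m) (t ^ (2 ^ m + 1) + u) =
      !![1, t ^ 2 ^ m, t ^ 2 ^ m * t + (t ^ (2 ^ m + 1) + u),
          t ^ 2 ^ m * (t ^ (2 ^ m + 1) + u) + u ^ (2 * 2 ^ m);
        0, 1, t, t ^ (2 ^ m + 1) + u; 0, 0, 1, t ^ 2 ^ m; 0, 0, 0, 1] := by
  have h2 : (2 : K) = 0 := by rw [← one_add_one_eq_two]; exact C.add_self 1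
  have hs : CfsgLib.Suzuki.sg m (t ^ 2 ^ m) = t := C.pow_exp t
  have hB : CfsgLib.Suzuki.sg m (t ^ (2 ^ m + 1) + u) =
      t * t ^ (2 * 2 ^ m) + u ^ (2 * 2 ^ m) := by
    rw [CfsgLib.Suzuki.sg_def, show 2 ^ (m + 1) = 2 * 2 ^ m by ring, C.add_pow', pow_succ t,
      mul_pow, C.pow_qq']
  have he : (t ^ 2 ^ m) ^ 2 = t ^ (2 * 2 ^ m) := by rw [← pow_mul, mul_comm]
  simp only [CfsgLib.Suzuki.Umat, CfsgLib.Suzuki.zf, hs, hB, he]
  congr 1
  ext i j
  fin_cases i <;> fin_cases j <;> simp <;>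
    first
    | linear_combination (t * t ^ (2 * 2 ^ m)) * h2
    | ring

theorem blk_U (t u : K) : InvBlock V1 (C.U 1 t u).val ∧ blk V1 (C.U 1 t u).val =
    CfsgLib.Suzuki.Umat m (t ^ 2 ^ m) (t ^ (2 ^ m + 1) + u) := by
  obtain ⟨hi, e⟩ := C.blk_quad (blk_V1 (27, [(0, 1), (2, 3)]) (by simp)) (blk_V1 (25, [(1, 2)]) (by simp))
    (blk_V1 (28, [(0, 2), (1, 3)]) (by simp)) (blk_V1 (30, [(0, 3)]) (by simp)) (t ^ 2 ^ m) t
    (t ^ (2 ^ m + 1) + u) (u ^ (2 * 2 ^ m))
  exact ⟨hi, e.trans ((C.mat_pos _ _ _ _).trans (C.umat_eq t u).symm)⟩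

theorem blk_V (t u : K) : InvBlock V1 (C.V 1 t u).val ∧ blk V1 (C.V 1 t u).val =
    CfsgLib.Suzuki.Wmat K * CfsgLib.Suzuki.Umat m (t ^ 2 ^ m) (t ^ (2 ^ m + 1) + u) *
      CfsgLib.Suzuki.Wmat K := by
  obtain ⟨hi, e⟩ := C.blk_quad (blk_V1 (20, [(1, 0), (3, 2)]) (by simp)) (blk_V1 (22, [(2, 1)]) (by simp))
    (blk_V1 (19, [(2, 0), (3, 1)]) (by simp)) (blk_V1 (17, [(3, 0)]) (by simp)) (t ^ 2 ^ m) t
    (t ^ (2 ^ m + 1) + u) (u ^ (2 * 2 ^ m))
  refine ⟨hi, e.trans ((C.mat_neg _ _ _ _).trans ?_)⟩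
  rw [C.umat_eq]
  ext i j
  fin_cases i <;> fin_cases j <;>
    simp [CfsgLib.Suzuki.Wmat, Matrix.mul_apply, Fin.sum_univ_four]

theorem blk_U0 (t : K) : InvBlock V0 (C.U 0 t 0).val ∧ blk V0 (C.U 0 t 0).val =
    !![1, t ^ 2 ^ m; 0, 1] := by
  obtain ⟨hi, e⟩ := C.blk_pair (blk_V0 (33, _) (by simp; rfl)) (blk_V0 (24, []) (by simp)) (t ^ 2 ^ m) t
  refine ⟨hi, e.trans ?_⟩
  ext i j
  fin_cases i <;> fin_cases j <;> simp [Emat]

theorem blk_V0' (t : K) : InvBlock V0 (C.V 0 t 0).val ∧ blk V0 (C.V 0 t 0).val =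
    !![1, 0; t ^ 2 ^ m, 1] := by
  obtain ⟨hi, e⟩ := C.blk_pair (blk_V0 (14, _) (by simp; rfl)) (blk_V0 (23, []) (by simp)) (t ^ 2 ^ m) t
  refine ⟨hi, e.trans ?_⟩
  ext i j
  fin_cases i <;> fin_cases j <;> simp [Emat]

end Ctx

end CfsgLib.Chev.F4Tw
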