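import Cfsg.Agent.TwMult.F4Levi
import Cfsg.Agent.Chev.F4TwInvol

/-!
The rank one subgroups of `²F₄(q)` embed in `SL₂(q)` and `Sz(q)`.
-/

set_option autoImplicit false
set_option linter.style.haveILetI false
set_option linter.unusedSectionVars false

namespace CfsgLib.Chev.F4Tw

open Cfsg.Lie Matrix Tab CfsgLib.TwMult
open scoped MatrixGroups

universe u

variable {K : Type u} [Field K] [Fintype K] {m : ℕ}

namespace Ctx

variable (C : Ctx K m)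
include C

theorem J_cases' (J : Fin C.Z.nJ) : J = C.j0 ∨ J = C.j1 := by
  have : J.val < 2 := J.isLt
  rcases J with ⟨j, hj⟩
  change j < 2 at this
  interval_cases j
  exacts [Or.inl rfl, Or.inr rfl]

theorem U_mem_XJ (J : Fin C.Z.nJ) (t u : K) : C.U J t u ∈ C.Z.XJ J := C.mem_XJ.mpr ⟨t, u, rfl⟩

theorem nM_mem_LG (J : Fin C.Z.nJ) : C.Z.nM J ∈ C.Z.LG J := by
  obtain ⟨-, -, -, a, ha, v, hv, u, hu, e⟩ := (C.gen_data.exists_n J).choose_spec
  change C.Z.n J = a⁻¹ * (C.Z.n J * u * (C.Z.n J)⁻¹) * v⁻¹ at e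
  have key : C.Z.nM J = (⟨a, C.Z.X_le J ha⟩ : C.Z.G1)⁻¹ *
      (C.Z.nM J * ⟨u, C.Z.X_le J hu⟩ * (C.Z.nM J)⁻¹) * (⟨v, C.Z.X_le J hv⟩ : C.Z.G1)⁻¹ :=
    Subtype.ext e
  rw [key]
  exact mul_mem (mul_mem (inv_mem (Subgroup.subset_closure (Or.inl ha)))
    (Subgroup.subset_closure (Or.inr ⟨_, hu, rfl⟩))) (inv_mem (Subgroup.subset_closure (Or.inl hv)))

theorem V_back (J : Fin C.Z.nJ) (t u : K) :
    (C.Z.n J)⁻¹ * C.V J t u * C.Z.n J ∈ C.Z.XJ J := by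
  obtain ⟨v, hv, e⟩ := C.V_mem_neg J t u
  exact C.gen_data.conj_back (C.gen_data.le_fix (C.gen_data.n_mem J)) (C.gen_data.n_mono J)
    (C.gen_data.n_act J) (C.V_fix J t u) hv e

theorem V_mem_LG (J : Fin C.Z.nJ) (t u : K) : (⟨C.V J t u, C.V_mem J t u⟩ : C.Z.G1) ∈ C.Z.LG J := by
  refine Subgroup.subset_closure (Or.inr ⟨⟨_, C.Z.X_le J (C.V_back J t u)⟩, C.V_back J t u, ?_⟩)
  refine Subtype.ext ?_
  rw [Subgroup.coe_mul, Subgroup.coe_mul, Subgroup.coe_inv]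
  show C.Z.n J * ((C.Z.n J)⁻¹ * C.V J t u * C.Z.n J) * (C.Z.n J)⁻¹ = C.V J t u
  group

theorem U_mem_LG (J : Fin C.Z.nJ) (t u : K) : (⟨C.U J t u, C.U_mem J t u⟩ : C.Z.G1) ∈ C.Z.LG J :=
  Subgroup.subset_closure (Or.inl (C.U_mem_XJ J t u))

theorem pow_e_inj {s t : K} (h : s ^ 2 ^ m = t ^ 2 ^ m) : s = t := by
  rw [← C.pow_qq' s, ← C.pow_qq' t, h]

theorem V0_eq (t t' : K) (h : C.V 0 t 0 = C.V 0 t' 0) : t = t' := by
  have e : blk V0 (C.V 0 t 0).val = blk V0 (C.V 0 t' 0).val := by rw [h]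
  rw [(C.blk_V0' t).2, (C.blk_V0' t').2] at e
  exact C.pow_e_inj (by simpa using congrFun (congrFun e 1) 0)

theorem V1_eq (t u t' u' : K) (h : C.V 1 t u = C.V 1 t' u') : t = t' ∧ u = u' := by
  have e : blk V1 (C.V 1 t u).val = blk V1 (C.V 1 t' u').val := by rw [h]
  rw [(C.blk_V t u).2, (C.blk_V t' u').2] at e
  have e1 := congrFun (congrFun e 1) 0
  have e2 := congrFun (congrFun e 2) 0
  simp [CfsgLib.Suzuki.Wmat, CfsgLib.Suzuki.Umat, Matrix.mul_apply, Fin.sum_univ_four] at e1 e2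
  obtain rfl := C.pow_e_inj e1
  exact ⟨rfl, add_left_cancel e2⟩

/-- The conjugates of the root group by the representative are the negative elements. -/
theorem conj_eq_V (J : Fin C.Z.nJ) {x : GL chevF4.Idx K} (hx : x ∈ C.Z.XJ J) :
    ∃ t u, C.Z.n J * x * (C.Z.n J)⁻¹ = C.V J t u := by
  rcases C.J_cases' J with rfl | rfl
  · let f : K → C.Z.XJ C.j0 := fun t => ⟨_, C.V_back C.j0 t 0⟩
    have hf : Function.Injective f := fun a b e => C.V0_eq a b (by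
      have h1 := congrArg (fun g => C.Z.n C.j0 * g * (C.Z.n C.j0)⁻¹) (congrArg Subtype.val e)
      simp only [f] at h1
      rwa [show ∀ g : GL chevF4.Idx K,
        C.Z.n C.j0 * ((C.Z.n C.j0)⁻¹ * g * C.Z.n C.j0) * (C.Z.n C.j0)⁻¹ = g from fun g => by group,
        show ∀ g : GL chevF4.Idx K,
        C.Z.n C.j0 * ((C.Z.n C.j0)⁻¹ * g * C.Z.n C.j0) * (C.Z.n C.j0)⁻¹ = g from fun g => by group]
        at h1)
    have hc : Nat.card K = Nat.card (C.Z.XJ C.j0) := by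
      rw [C.card_X, Nat.card_eq_fintype_card, C.hK]
      exact (pow_one _).symm
    obtain ⟨t, ht⟩ := ((Nat.bijective_iff_injective_and_card f).mpr ⟨hf, hc⟩).2 ⟨x, hx⟩
    refine ⟨t, 0, ?_⟩
    rw [← show (C.Z.n C.j0)⁻¹ * C.V C.j0 t 0 * C.Z.n C.j0 = x from congrArg Subtype.val ht]
    group
  · let f : K × K → C.Z.XJ C.j1 := fun p => ⟨_, C.V_back C.j1 p.1 p.2⟩
    have hf : Function.Injective f := fun a b e => by
      have h1 := congrArg (fun g => C.Z.n C.j1 * g * (C.Z.n C.j1)⁻¹) (congrArg Subtype.val e)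
      simp only [f] at h1
      rw [show ∀ g : GL chevF4.Idx K,
        C.Z.n C.j1 * ((C.Z.n C.j1)⁻¹ * g * C.Z.n C.j1) * (C.Z.n C.j1)⁻¹ = g from fun g => by group,
        show ∀ g : GL chevF4.Idx K,
        C.Z.n C.j1 * ((C.Z.n C.j1)⁻¹ * g * C.Z.n C.j1) * (C.Z.n C.j1)⁻¹ = g from fun g => by group]
        at h1
      exact Prod.ext (C.V1_eq _ _ _ _ h1).1 (C.V1_eq _ _ _ _ h1).2
    have hc : Nat.card (K × K) = Nat.card (C.Z.XJ C.j1) := by
      rw [C.card_X, Nat.card_prod, Nat.card_eq_fintype_card, C.hK]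
      exact (pow_two _).symm
    obtain ⟨p, hp⟩ := ((Nat.bijective_iff_injective_and_card f).mpr ⟨hf, hc⟩).2 ⟨x, hx⟩
    refine ⟨p.1, p.2, ?_⟩
    rw [← show (C.Z.n C.j1)⁻¹ * C.V C.j1 p.1 p.2 * C.Z.n C.j1 = x from congrArg Subtype.val hp]
    group

theorem LG_le_levi (J : Fin C.Z.nJ) {g : C.Z.G1} (hg : g ∈ C.Z.LG J) :
    (g : GL chevF4.Idx K) ∈ (C.gen_data.orbit J).levi := by
  induction hg using Subgroup.closure_induction with
  | mem x hx =>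
    rcases hx with hx | ⟨z, hz, rfl⟩
    · exact (C.gen_data.orbit J).US_le_levi (show (x : GL chevF4.Idx K) ∈ C.Z.XJ J from hx).2
    · exact (C.gen_data.orbit J).conj_mem_levi (C.gen_data.n_mono J) (C.gen_data.n_act J)
        (show (z : GL chevF4.Idx K) ∈ C.Z.XJ J from hz).2
  | one => exact one_mem _
  | mul x y _ _ hx hy => exact mul_mem hx hy
  | inv x _ hx => exact inv_mem hx

/-- An element of a rank one subgroup in the Borel subgroup. -/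
theorem LG_borel (J : Fin C.Z.nJ) {g : C.Z.G1} (hg : g ∈ C.Z.LG J)
    (hB : (g : GL chevF4.Idx K) ∈ chevF4.borelSubgroup K) :
    ∃ x ∈ C.Z.XJ J, ∃ p, (g : GL chevF4.Idx K) = x * C.h p := by
  obtain ⟨u, hu, h, hh, e⟩ := C.Z.mem_B1 g.2 hB
  obtain ⟨a₀, ha₀, h₀, hh₀, L, -, v₀, hv₀, e'⟩ :=
    (C.gen_data.orbit J).levi_cells (C.LG_le_levi J hg)
  have hpos : ∀ {y : GL chevF4.Idx K},
      y ∈ good_F4.US K (flipSet (C.Z.w J)) → y ∈ chevF4.borelSubgroup K := fun hy =>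
    Subgroup.mem_sup_left (good_F4.flip_le_pos _ hy)
  have hnB : good_F4.full.nw K L ∈ chevF4.borelSubgroup K := by
    rw [show good_F4.full.nw K L = h₀⁻¹ * a₀⁻¹ * (a₀ * h₀ * good_F4.full.nw K L * v₀) * v₀⁻¹ by
      group, ← e']
    exact mul_mem (mul_mem (mul_mem (inv_mem (Subgroup.mem_sup_right hh₀)) (inv_mem (hpos ha₀))) hB)
      (inv_mem (hpos hv₀))
  have hd := C.Z.mem_diag_of_borel hnB (good_F4.nw_mem_monomial L)
  set D := h₀ * good_F4.full.nw K L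
  have hD : D ∈ chevF4.diagonalSubgroup K := mul_mem hh₀ hd
  set b := a₀ * (D * v₀ * D⁻¹)
  have hb : b ∈ good_F4.US K (flipSet (C.Z.w J)) :=
    mul_mem ha₀ ((C.gen_data.orbit J).diag_conj_S hD hv₀)
  have key : u⁻¹ * b = h * D⁻¹ := by
    rw [show b = (g : GL chevF4.Idx K) * D⁻¹ by rw [e']; simp only [b, D]; group, e]
    group
  have hone : u⁻¹ * b ∈ chevF4.posUnipotent K ⊓ chevF4.diagonalSubgroup K :=
    Subgroup.mem_inf.mpr ⟨mul_mem (inv_mem hu.2) (good_F4.flip_le_pos _ hb),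
      key ▸ mul_mem (C.Z.H0_diag hh) (inv_mem hD)⟩
  rw [good_F4.pos_inf_diagonal, Subgroup.mem_bot, inv_mul_eq_one] at hone
  rw [C.H0_eq] at hh
  obtain ⟨p, rfl⟩ := hh
  exact ⟨u, ⟨hu.1, hone ▸ hb⟩, p, e⟩

variable {k : ℕ} {V : Fin k → Fin chevF4.nroots} (hV : Function.Injective V)
include hV

/-- The block of an element of a rank one subgroup. -/
theorem LG_block (J : Fin C.Z.nJ) (T : Submonoid (Matrix (Fin k) (Fin k) K))
    (hU : ∀ t u, C.U J t u ∈ blockMonoid V hV T) (hN : ∀ t u, C.V J t u ∈ blockMonoid V hV T)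
    {g : C.Z.G1} (hg : g ∈ C.Z.LG J) : (g : GL chevF4.Idx K) ∈ blockMonoid V hV T := by
  refine mem_blockMonoid hV T (fun y hy => ?_) hg
  rcases hy with hy | ⟨z, hz, rfl⟩
  · obtain ⟨t, u, e⟩ := C.mem_XJ.mp (show (y : GL chevF4.Idx K) ∈ C.Z.XJ J from hy)
    rw [e]; exact hU t u
  · obtain ⟨t, u, e⟩ := C.conj_eq_V J (show (z : GL chevF4.Idx K) ∈ C.Z.XJ J from hz)
    rw [Subgroup.coe_mul, Subgroup.coe_mul, Subgroup.coe_inv]
    show C.Z.n J * _ * (C.Z.n J)⁻¹ ∈ _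
    rw [e]; exact hN t u


/-- A criterion for a block to be faithful on a rank one subgroup. -/
theorem block_faithful [NeZero k] (J : Fin C.Z.nJ)
    (hU : ∀ t u, InvBlock V (C.U J t u).val ∧ ∀ i, i ≠ 0 → blk V (C.U J t u).val i 0 = 0)
    (hN : ∀ t u, InvBlock V (C.V J t u).val ∧
      ((∀ i, i ≠ 0 → blk V (C.V J t u).val i 0 = 0) → C.V J t u = 1))
    (hsplit : ∀ t u p, blk V (C.U J t u).val * blk V (C.h p).val = 1 → C.U J t u = 1 ∧ p = 1)
    {g : C.Z.G1} (hg : g ∈ C.Z.LG J) (h1 : blk V (g : GL chevF4.Idx K).val = 1) : g = 1 := by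
  by_cases hB : (g : GL chevF4.Idx K) ∈ chevF4.borelSubgroup K
  · obtain ⟨x, hx, p, e⟩ := C.LG_borel J hg hB
    obtain ⟨t, u, rfl⟩ := C.mem_XJ.mp hx
    rw [e, Units.val_mul, blk_mul hV (C.hT_block hV p).1] at h1
    obtain ⟨h2, rfl⟩ := hsplit t u p h1
    exact Subtype.ext (by rw [e, h2, map_one, mul_one]; rfl)
  exfalso
  let T : Submonoid (Matrix (Fin k) (Fin k) K) :=
    { carrier := {M | ∀ i, i ≠ 0 → M i 0 = 0}
      one_mem' := fun i hi => Matrix.one_apply_ne hi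
      mul_mem' := fun {M N} hM hN i hi => by
        rw [Matrix.mul_apply]
        refine Finset.sum_eq_zero fun l _ => ?_
        rcases eq_or_ne l 0 with rfl | hl
        · rw [hM i hi, zero_mul]
        · rw [hN l hl, mul_zero] }
  have hall : ∀ {y : C.Z.G1}, y ∈ C.Z.LG J →
      (y : GL chevF4.Idx K) ∈ blockMonoid V hV ⊤ := fun hy =>
    C.LG_block hV J ⊤ (fun t u => ⟨(hU t u).1, trivial⟩) (fun t u => ⟨(hN t u).1, trivial⟩) hy
  have hginv : ((g⁻¹ : C.Z.G1) : GL chevF4.Idx K) ∈ blockMonoid V hV T := by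
    refine ⟨(hall (inv_mem hg)).1, ?_⟩
    have e : blk V ((g⁻¹ : C.Z.G1) : GL chevF4.Idx K).val = 1 := by
      have h := blk_mul hV (M := ((g⁻¹ : C.Z.G1) : GL chevF4.Idx K).val) (hall hg).1
      rw [h1, mul_one, ← Units.val_mul, ← Subgroup.coe_mul, inv_mul_cancel, OneMemClass.coe_one,
        Units.val_one, blk_one hV] at h
      exact h.symm
    rw [e]; exact one_mem T
  have hgT : (g : GL chevF4.Idx K) ∈ blockMonoid V hV T := ⟨(hall hg).1, by rw [h1]; exact one_mem T⟩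
  have hX : ∀ {x : GL chevF4.Idx K}, x ∈ C.Z.XJ J → x ∈ blockMonoid V hV T := fun hx => by
    obtain ⟨t, u, rfl⟩ := C.mem_XJ.mp hx
    exact ⟨(hU t u).1, (hU t u).2⟩
  have hH : ∀ p, C.h p ∈ blockMonoid V hV T := fun p => ⟨(C.hT_block hV p).1, fun i hi => by
    rw [(C.hT_block hV p).2]; exact Matrix.diagonal_apply_ne _ hi⟩
  obtain ⟨a, ha, n, hn, hnact, v, hv, e⟩ := (C.gen_data.orbit J).fixed_decomp
    (C.gen_data.le_fix g.2) (C.LG_le_levi J hg) hB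
  have hd : n⁻¹ * C.Z.n J ∈ C.Z.H0 := by
    refine Subgroup.mem_inf.mpr ⟨mul_mem (inv_mem hn.1) (C.Z.n_fix J), ?_⟩
    exact C.gen_data.act_diag hn.2 (C.gen_data.n_mono J) hnact (C.gen_data.n_act J)
  rw [C.H0_eq] at hd
  obtain ⟨p, hp⟩ := hd
  have hn1 : C.Z.n J = a⁻¹ * (g : GL chevF4.Idx K) * v⁻¹ * C.h p := by rw [hp, e]; group
  have hn2 : (C.Z.n J)⁻¹ = C.h p⁻¹ * v * ((g⁻¹ : C.Z.G1) : GL chevF4.Idx K) * a := by
    rw [hn1, Subgroup.coe_inv, map_inv]; group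
  obtain ⟨x, hx, hne⟩ := C.xNontrivial J
  obtain ⟨t, u, ev⟩ := C.conj_eq_V J hx
  have hmem : C.V J t u ∈ blockMonoid V hV T := by
    rw [← ev, hn2]
    conv =>
      arg 2
      rw [hn1]
    exact mul_mem (mul_mem (mul_mem (mul_mem (mul_mem (hX (inv_mem ha)) hgT) (hX (inv_mem hv)))
      (hH p)) (hX hx)) (mul_mem (mul_mem (mul_mem (hH p⁻¹) (hX hv)) hginv) (hX ha))
  rw [(hN t u).2 hmem.2] at ev
  exact hne (conj_eq_one_iff.mp ev)

end Ctx

end CfsgLib.Chev.F4Tw
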