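import Cfsg.Agent.Chev.F4TwInvol

/-!
Collected words for the coordinates of the unipotent subgroup of `²F₄(q)`, and the weights of the
torus on them.
-/

set_option autoImplicit false
set_option maxRecDepth 100000

namespace CfsgLib.Chev.F4Tw

open Cfsg.Lie Tab CfsgLib.Chev.CharTwo
open scoped MatrixGroups commutatorElement

/-- The root of each coordinate. -/
def rootOf (k : ℕ) : ℕ := [24, 26, 36, 43, 41, 44, 45, 31, 40, 32, 25, 28].getD k 0

/-- The exponent of the first parameter of the torus in a weight, as a polynomial of degree one in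
`2 ^ m`. -/
def wtA (k : ℕ) : ℤ × ℤ := (F4Data.tab.cart 3 (rootOf k), F4Data.tab.cart 0 (rootOf k))

/-- The exponent of the second parameter of the torus in a weight. -/
def wtB (k : ℕ) : ℤ × ℤ := (F4Data.tab.cart 2 (rootOf k), F4Data.tab.cart 1 (rootOf k))

/-- The pairs of coordinates with proportional weights. -/
def special : List (ℕ × ℕ) := [(1, 2), (4, 5), (7, 8), (10, 11)]

/-- The monomials of a parameter carrying only its leading root. -/
def kmono (i : ℕ) (ms : List (List ℕ)) : List (List (List ℕ)) :=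
  ms :: (needR i).tail.map fun _ => []

/-- The word of a commutator. -/
def commW (a b : ℕ) : List (ℕ × List ℕ) :=
  rayW [a] ++ second (rayW [b]) ++ (rayW [a]).reverse ++ (second (rayW [b])).reverse

/-- The commuting pairs of coordinates that are used. -/
def commPairs : List (ℕ × ℕ) :=
  [(1, 0), (4, 3), (7, 6), (0, 3), (3, 6), (6, 9), (3, 2), (6, 5), (9, 8), (2, 0), (5, 3), (8, 6),
    (2, 4)]

theorem kMul : ∀ k : Fin 12, keys 100000 (rayW (List.range' k.val (12 - k.val)) ++
      second (rayW (List.range' k.val (12 - k.val)))) [k.val] =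
    some [kmono k.val [unit1 (24 + 2 * k.val), unit1 (2 * k.val)]] := by
  decide +kernel

theorem kAddOne : ∀ k ∈ [0, 2, 3, 5, 6, 8, 9], keys 100000 (rayW [k] ++ second (rayW [k]))
      ((List.finRange 12).map Fin.val) =
    some ((List.finRange 12).map fun i : Fin 12 =>
      kmono i.val (if i.val = k then [unit1 (24 + 2 * k), unit1 (2 * k)] else [])) := by
  decide +kernel

theorem kComm : ∀ p ∈ commPairs, keys 100000 (commW p.1 p.2) ((List.finRange 12).map Fin.val) =
    some ((List.finRange 12).map fun i : Fin 12 => kmono i.val []) := by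
  decide +kernel

theorem kY : ∀ t ∈ [(0, 4, 2), (3, 7, 5), (6, 10, 8)],
    keys 100000 (commW t.1 t.2.1) ((List.finRange 12).map Fin.val) =
    some ((List.finRange 12).map fun i : Fin 12 => kmono i.val
      (if i.val = t.2.2 then [comb 1 1 (unit1 (2 * t.1 + 1)) (unit1 (24 + (2 * t.2.1 + 1)))]
        else [])) := by
  decide +kernel

theorem kD : ∀ t ∈ [(1, 4, 3), (4, 7, 6), (7, 10, 9)],
    keys 100000 (commW t.1 t.2.1) ((List.finRange 12).map Fin.val) =
    some ((List.finRange 12).map fun i : Fin 12 => kmono i.val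
      (if i.val = t.2.2 then [comb 1 1 (unit1 (2 * t.1)) (unit1 (24 + 2 * t.2.1))] else [])) := by
  decide +kernel

theorem cart_quads : ∀ t ∈ [(34, 26, 36), (29, 41, 44), (35, 31, 40), (27, 25, 28)],
    ∀ j : Fin 4, F4Data.tab.cart j.val t.1 + F4Data.tab.cart j.val t.2.1 =
      F4Data.tab.cart j.val t.2.2 := by
  decide +kernel

theorem rootOf_lt : ∀ k : Fin 12, rootOf k.val < 48 := by decide +kernel

theorem word_ray7 : ∀ r ∈ [(27, 34), (25, 26), (28, 36), (30, 42)],
    F4Data.tab.wordT (words.getD 0 []) r.1 = r.2 ∧ r.1 < 48 := by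
  decide +kernel

/-- The multiplier of a certificate. -/
def certV (d : ℤ × ℤ × ℤ) : ℤ × ℤ :=
  let al := 2 * d.1 + d.2.2
  let be := 2 * d.2.1
  let c := 4 * (32 / (2 * al * al - be * be))
  (c * al, -(c * be))

/-- A certificate that `d * v` is congruent to `32` modulo `2 X ^ 2 - 1`. -/
def chkCert (d : ℤ × ℤ × ℤ) : Bool :=
  let v := certV d
  decide (d.2.1 * v.2 + d.2.2 * v.1 = 2 * (32 - d.1 * v.1) ∧
    d.2.2 * v.2 = -2 * (d.1 * v.2 + d.2.1 * v.1))

/-- The determinant of two weights. -/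
def det2 (k i : ℕ) : ℤ × ℤ × ℤ :=
  ((wtA i).1 * (wtB k).1 - (wtB i).1 * (wtA k).1,
    (wtA i).1 * (wtB k).2 + (wtA i).2 * (wtB k).1 -
      ((wtB i).1 * (wtA k).2 + (wtB i).2 * (wtA k).1),
    (wtA i).2 * (wtB k).2 - (wtB i).2 * (wtA k).2)

/-- One of the exponents of a weight. -/
def oneWt (k : ℕ) : ℤ × ℤ × ℤ :=
  if k = 6 then ((wtB k).1, (wtB k).2, 0) else ((wtA k).1, (wtA k).2, 0)

theorem chk_det2 : ∀ k i : Fin 12, k = i ∨ (k.val, i.val) ∈ special ∨ (i.val, k.val) ∈ special ∨
    chkCert (det2 k.val i.val) = true := by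
  decide +kernel

theorem chk_oneWt : ∀ k : Fin 12, chkCert (oneWt k.val) = true := by decide +kernel

/-- The value of a quadratic. -/
def ev2 (d : ℤ × ℤ × ℤ) (e : ℤ) : ℤ := d.1 + d.2.1 * e + d.2.2 * (e * e)

theorem cert_sound {d : ℤ × ℤ × ℤ} (h : chkCert d = true) (e : ℤ) :
    ∃ V Q : ℤ, ev2 d e * V = 32 + Q * (2 * e * e - 1) := by
  obtain ⟨d0, d1, d2⟩ := d
  simp only [chkCert, decide_eq_true_eq] at h
  generalize certV (d0, d1, d2) = v at h
  obtain ⟨v0, v1⟩ := v
  obtain ⟨h1, h2⟩ := h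
  dsimp only at h1 h2
  refine ⟨v0 + v1 * e, (32 - d0 * v0) - (d0 * v1 + d1 * v0) * e, ?_⟩
  simp only [ev2]
  linear_combination (e ^ 2) * h1 + (e ^ 3) * h2

end CfsgLib.Chev.F4Tw
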