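import Cfsg.Agent.TwMult.CmTools

/-!
A group filtered by additive families, normalised by torus elements which separate the families,
has only split central extensions.
-/

set_option autoImplicit false
set_option linter.unusedSectionVars false

namespace CfsgLib.TwMult

open Subgroup
open scoped commutatorElement

universe u v w

/-- Additive families filtering a group, with commuting torus elements acting on each. -/
structure Fams (G : Type v) [Group G] (A : ℕ → Type w) [∀ k, AddCommGroup (A k)] where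
  /-- the number of families -/
  n : ℕ
  /-- the terms -/
  Q : ℕ → Subgroup G
  Q_top : Q n = ⊥
  /-- the families -/
  x : ∀ k, A k → G
  x_mem : ∀ k, k < n → ∀ t, x k t ∈ Q k
  x_add : ∀ k, k < n → ∀ s t, x k (s + t) = x k s * x k t
  dec : ∀ k, k < n → ∀ a ∈ Q k, ∃ t, ∃ b ∈ Q (k + 1), a = x k t * b
  Q_le : ∀ k, k < n → Q (k + 1) ≤ Q k
  inj : ∀ k, k < n → ∀ t, x k t ∈ Q (k + 1) → t = 0
  norm : ∀ k, k < n → ∀ t, ∀ b ∈ Q (k + 1), x k t * b * (x k t)⁻¹ ∈ Q (k + 1)
  /-- the torus -/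
  T : Set G
  T_comm : ∀ a ∈ T, ∀ b ∈ T, Commute a b
  /-- the action on a family -/
  act : ∀ k, G → A k → A k
  x_conj : ∀ k, k < n → ∀ h ∈ T, ∀ t, h * x k t * h⁻¹ = x k (act k h t)
  moved : ∀ k, k < n → ∃ h ∈ T, Function.Bijective fun t => act k h t - t

namespace Fams

variable {G : Type v} [Group G] {A : ℕ → Type w} [∀ k, AddCommGroup (A k)] (L : Fams G A)
include L

theorem x_zero {k : ℕ} (hk : k < L.n) : L.x k 0 = 1 := by
  have := L.x_add k hk 0 0
  rwa [add_zero, left_eq_mul] at this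

theorem x_sub {k : ℕ} (hk : k < L.n) (s t : A k) : L.x k (s - t) = L.x k s * (L.x k t)⁻¹ := by
  rw [eq_mul_inv_iff_mul_eq, ← L.x_add k hk, sub_add_cancel]

theorem x_inj {k : ℕ} (hk : k < L.n) {s t : A k} (h : L.x k s = L.x k t) : s = t :=
  sub_eq_zero.1 (L.inj k hk _ (by rw [L.x_sub hk, h, mul_inv_cancel]; exact one_mem _))

/-- The element of the torus used for a family. -/
noncomputable def hk {k : ℕ} (h : k < L.n) : G := (L.moved k h).choose

theorem hk_mem {k : ℕ} (h : k < L.n) : L.hk h ∈ L.T := (L.moved k h).choose_spec.1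

/-- A parameter giving the wanted commutator with the torus element. -/
noncomputable def pre {k : ℕ} (h : k < L.n) (v : A k) : A k :=
  ((L.moved k h).choose_spec.2.2 v).choose

theorem pre_spec {k : ℕ} (h : k < L.n) (v : A k) :
    L.act k (L.hk h) (L.pre h v) - L.pre h v = v :=
  ((L.moved k h).choose_spec.2.2 v).choose_spec

theorem comm_x {k : ℕ} (h : k < L.n) {g : G} (hg : g ∈ L.T) (t : A k) :
    ⁅g, L.x k t⁆ = L.x k (L.act k g t - t) := by
  rw [commutatorElement_def, L.x_conj k h g hg, L.x_sub h]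

variable {Γ : Type u} [Group Γ] {σ : Γ →* G} (X : CExt σ)
include X

/-- The distinguished lift. -/
noncomputable def s {k : ℕ} (h : k < L.n) (v : A k) : Γ := X.cm (L.hk h) (L.x k (L.pre h v))

theorem map_s {k : ℕ} (h : k < L.n) (v : A k) : σ (L.s X h v) = L.x k v := by
  rw [s, X.map_cm, L.comm_x h (L.hk_mem h), L.pre_spec]

/-- The lifts from the given family on. -/
def Scl (k : ℕ) : Subgroup Γ :=
  closure {g | ∃ i, ∃ h : i < L.n, k ≤ i ∧ ∃ v, g = L.s X h v}

theorem s_mem {k i : ℕ} (h : i < L.n) (hki : k ≤ i) (v : A i) : L.s X h v ∈ L.Scl X k :=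
  subset_closure ⟨i, h, hki, v, rfl⟩

theorem Scl_le {k : ℕ} : L.Scl X (k + 1) ≤ L.Scl X k := by
  refine (closure_le _).2 ?_
  rintro g ⟨i, h, hki, v, rfl⟩
  exact L.s_mem X h (Nat.le_of_succ_le hki) v

theorem map_Scl {k : ℕ} (hk : k ≤ L.n) {g : Γ} (hg : g ∈ L.Scl X k) : σ g ∈ L.Q k := by
  have : L.Scl X k ≤ (L.Q k).comap σ := by
    refine (closure_le _).2 ?_
    rintro g ⟨i, h, hki, v, rfl⟩
    show σ _ ∈ L.Q k
    rw [L.map_s]
    have hmono : ∀ j, k ≤ j → j ≤ L.n → L.Q j ≤ L.Q k := by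
      intro j hj
      induction j, hj using Nat.le_induction with
      | base => exact fun _ => le_rfl
      | succ j _ ih => exact fun hjn => (L.Q_le j hjn).trans (ih (Nat.le_of_succ_le hjn))
    exact hmono i hki h.le (L.x_mem i h v)
  exact this hg

theorem exists_Scl : ∀ d k, k + d = L.n → ∀ a ∈ L.Q k, ∃ g ∈ L.Scl X k, σ g = a := by
  intro d
  induction d with
  | zero =>
    intro k hk a ha
    obtain rfl : k = L.n := hk
    rw [L.Q_top, mem_bot] at ha
    exact ⟨1, one_mem _, by rw [map_one, ha]⟩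
  | succ d ih =>
    intro k hk a ha
    have h : k < L.n := by omega
    obtain ⟨t, b, hb, rfl⟩ := L.dec k h a ha
    obtain ⟨g, hg, rfl⟩ := ih (k + 1) (by omega) b hb
    exact ⟨L.s X h t * g, mul_mem (L.s_mem X h le_rfl t) (L.Scl_le X hg),
      by rw [map_mul, L.map_s]⟩

omit X in
theorem act_add {k : ℕ} (h : k < L.n) {g : G} (hg : g ∈ L.T) (a b : A k) :
    L.act k g (a + b) = L.act k g a + L.act k g b := by
  refine L.x_inj h ?_
  rw [L.x_add k h, ← L.x_conj k h g hg, ← L.x_conj k h g hg, ← L.x_conj k h g hg, L.x_add k h]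
  group

omit X in
theorem act_sub {k : ℕ} (h : k < L.n) {g : G} (hg : g ∈ L.T) (a b : A k) :
    L.act k g (a - b) = L.act k g a - L.act k g b := by
  rw [eq_sub_iff_add_eq, ← L.act_add h hg, sub_add_cancel]

omit X in
theorem act_comm {k : ℕ} (h : k < L.n) {g g' : G} (hg : g ∈ L.T) (hg' : g' ∈ L.T) (a : A k) :
    L.act k g (L.act k g' a) = L.act k g' (L.act k g a) := by
  refine L.x_inj h ?_
  rw [← L.x_conj k h g hg, ← L.x_conj k h g' hg', ← L.x_conj k h g' hg', ← L.x_conj k h g hg,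
    show g * (g' * L.x k a * g'⁻¹) * g⁻¹ = g * g' * L.x k a * (g * g')⁻¹ by group,
    (L.T_comm g hg g' hg').eq]
  group

theorem s_eq {k : ℕ} (h : k < L.n) {a v : A k} (e : L.act k (L.hk h) a - a = v) :
    L.s X h v = X.cm (L.hk h) (L.x k a) := by
  rw [s, show L.pre h v = a from (L.moved k h).choose_spec.2.1 ((L.pre_spec h v).trans e.symm)]

theorem s_conj {k : ℕ} (h : k < L.n) {g : G} (hg : g ∈ L.T) {y : Γ} (hy : σ y = g) (v : A k) :
    y * L.s X h v * y⁻¹ = L.s X h (L.act k g v) := by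
  rw [s, X.cm_conj, hy, (L.T_comm g hg _ (L.hk_mem h)).eq, mul_inv_cancel_right,
    L.x_conj k h g hg]
  refine (L.s_eq X h ?_).symm
  rw [← L.act_comm h hg (L.hk_mem h), ← L.act_sub h hg, L.pre_spec]

theorem Scl_conj_T (k : ℕ) {g : G} (hg : g ∈ L.T) {y : Γ} (hy : σ y = g) {z : Γ}
    (hz : z ∈ L.Scl X k) : y * z * y⁻¹ ∈ L.Scl X k := by
  have : L.Scl X k ≤ (L.Scl X k).comap (MulAut.conj y).toMonoidHom := by
    refine (closure_le _).2 ?_
    rintro _ ⟨i, h, hki, v, rfl⟩
    show y * L.s X h v * y⁻¹ ∈ L.Scl X k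
    rw [L.s_conj X h hg hy]
    exact L.s_mem X h hki _
  exact this hz

theorem s_add {k : ℕ} (h : k < L.n) (hself : ∀ a b, X.cm (L.x k a) (L.x k b) = 1) (v w : A k) :
    L.s X h (v + w) = L.s X h v * L.s X h w := by
  rw [L.s_eq X h (a := L.pre h v + L.pre h w) (v := v + w) (by
    rw [L.act_add h (L.hk_mem h), add_sub_add_comm, L.pre_spec, L.pre_spec])]
  rw [L.x_add k h]
  refine X.cm_mul_right' (X.comm_of_cm ?_)
  rw [X.map_l, X.map_cm, L.comm_x h (L.hk_mem h), L.pre_spec]
  exact hself _ _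

variable (hp : ∀ k i, k ≤ i → i < L.n → (∀ a b, X.cm (L.x k a) (L.x i b) = 1) ∨
  ∃ h ∈ L.T, (∀ a, L.act k h a = a) ∧ Function.Surjective fun t => L.act i h t - t)
include hp

theorem self_pair {k : ℕ} (h : k < L.n) (a b : A k) : X.cm (L.x k a) (L.x k b) = 1 := by
  rcases hp k k le_rfl h with hc | ⟨g, -, hid, hsurj⟩
  · exact hc a b
  · obtain ⟨t, ht⟩ := hsurj a
    have ha : a = 0 := by rw [← ht]; show L.act k g t - t = 0; rw [hid, sub_self]
    rw [ha, L.x_zero h, X.cm_one_left]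

theorem norm_Scl {k : ℕ} (h : k < L.n)
    (hinj : ∀ g ∈ L.Scl X (k + 1), σ g = 1 → g = 1) (a : A k) {z : Γ}
    (hz : z ∈ L.Scl X (k + 1)) : L.s X h a * z * (L.s X h a)⁻¹ ∈ L.Scl X (k + 1) := by
  have : L.Scl X (k + 1) ≤ (L.Scl X (k + 1)).comap (MulAut.conj (L.s X h a)).toMonoidHom := by
    refine (closure_le _).2 ?_
    rintro _ ⟨i, hi, hki, v, rfl⟩
    show L.s X h a * L.s X hi v * (L.s X h a)⁻¹ ∈ L.Scl X (k + 1)
    suffices hC : X.cm (L.x k a) (L.x i v) ∈ L.Scl X (k + 1) by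
      have e : L.s X h a * L.s X hi v * (L.s X h a)⁻¹ =
          ⁅L.s X h a, L.s X hi v⁆ * L.s X hi v := by
        rw [commutatorElement_def]; group
      rw [e, X.cm_eq (L.map_s X h a) (L.map_s X hi v)]
      exact mul_mem hC (L.s_mem X hi hki v)
    rcases hp k i (Nat.le_of_succ_le hki) hi with hc | ⟨g, hg, hid, hsurj⟩
    · rw [hc]; exact one_mem _
    have hC : ∀ b, ∃ e ∈ L.Scl X (k + 1), σ e = ⁅L.x k a, L.x i b⁆ := by
      intro b
      refine L.exists_Scl X _ (k + 1) (Nat.add_sub_cancel' h) _ ?_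
      have hb : L.x i b ∈ L.Q (k + 1) := by
        have := L.map_Scl X h (L.s_mem X hi hki b)
        rwa [L.map_s] at this
      rw [commutatorElement_def]
      exact mul_mem (L.norm k h a _ hb) (inv_mem hb)
    choose e he hσe using hC
    set ζ := fun b => X.cm (L.x k a) (L.x i b) * (e b)⁻¹ with hζ
    have hζk : ∀ b, ∀ x : Γ, x * ζ b = ζ b * x := fun b x => by
      refine mem_center_iff.1 (X.central ?_) x
      rw [MonoidHom.mem_ker, hζ]
      show σ (_ * _) = 1
      rw [map_mul, map_inv, X.map_cm, hσe, mul_inv_cancel]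
    have hζ1 : ∀ b, σ (ζ b) = 1 := fun b => by
      show σ (_ * _) = 1
      rw [map_mul, map_inv, X.map_cm, hσe, mul_inv_cancel]
    have huniq : ∀ b z, σ z = 1 → (∀ x : Γ, x * z = z * x) →
        z⁻¹ * X.cm (L.x k a) (L.x i b) ∈ L.Scl X (k + 1) → ζ b = z := by
      intro b z hz hzc hm
      have h1 : z⁻¹ * ζ b ∈ L.Scl X (k + 1) := by
        have := mul_mem hm (inv_mem (he b))
        rwa [mul_assoc] at this
      exact (inv_mul_eq_one.1 (hinj _ h1 (by rw [map_mul, map_inv, hz, hζ1, inv_one, one_mul]))).symm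
    have hmem : ∀ b, (ζ b)⁻¹ * X.cm (L.x k a) (L.x i b) ∈ L.Scl X (k + 1) := fun b => by
      simp only [hζ, _root_.mul_inv_rev, inv_inv, inv_mul_cancel_right]
      exact he b
    have hact : ∀ b, ζ (L.act i g b) = ζ b := fun b => by
      refine huniq _ _ (hζ1 b) (hζk b) ?_
      have h1 := L.Scl_conj_T X (k + 1) hg (X.map_l g) (hmem b)
      have e1 : X.l g * X.cm (L.x k a) (L.x i b) * (X.l g)⁻¹ =
          X.cm (L.x k a) (L.x i (L.act i g b)) := by
        rw [X.cm_conj, X.map_l, L.x_conj k h g hg, hid, L.x_conj i hi g hg]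
      have e2 : X.l g * ((ζ b)⁻¹ * X.cm (L.x k a) (L.x i b)) * (X.l g)⁻¹ =
          (ζ b)⁻¹ * (X.l g * X.cm (L.x k a) (L.x i b) * (X.l g)⁻¹) := by
        have hc : Commute (X.l g) (ζ b)⁻¹ := Commute.inv_right (hζk b (X.l g))
        rw [← mul_assoc (X.l g), hc.eq]
        group
      rw [e2, e1] at h1
      exact h1
    have hadd : ∀ b c, ζ (b + c) = ζ b * ζ c := fun b c => by
      refine huniq _ _ (by rw [map_mul, hζ1, hζ1, one_mul]) (fun x => ?_) ?_
      · exact (Commute.mul_right (show Commute x (ζ b) from hζk b x) (show Commute x (ζ c) from hζk c x)).eq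
      · have e1 : X.cm (L.x k a) (L.x i (b + c)) = X.cm (L.x k a) (L.x i b) *
            (L.s X hi b * X.cm (L.x k a) (L.x i c) * (L.s X hi b)⁻¹) := by
          rw [L.x_add i hi, X.cm_mul_right]
          congr 1
          rw [X.cm_conj, X.cm_conj, X.map_l, L.map_s]
        have e2 : (ζ b * ζ c)⁻¹ * X.cm (L.x k a) (L.x i (b + c)) =
            ((ζ b)⁻¹ * X.cm (L.x k a) (L.x i b)) * (L.s X hi b *
              ((ζ c)⁻¹ * X.cm (L.x k a) (L.x i c)) * (L.s X hi b)⁻¹) := by
          have hc : ∀ x : Γ, Commute x (ζ c)⁻¹ := fun x => Commute.inv_right (hζk c x)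
          rw [e1, _root_.mul_inv_rev]
          simp only [← mul_assoc]
          rw [(hc ((ζ b)⁻¹ * X.cm (L.x k a) (L.x i b) * L.s X hi b)).eq]
          simp only [mul_assoc]
        rw [e2]
        exact mul_mem (hmem b) (mul_mem (mul_mem (L.s_mem X hi hki b) (hmem c))
          (inv_mem (L.s_mem X hi hki b)))
    obtain ⟨c, hc⟩ := hsurj v
    have h2 : ζ v = 1 := by
      have h3 := hadd (L.act i g c - c) c
      rw [sub_add_cancel, hact] at h3
      rw [← hc]
      exact mul_eq_right.1 h3.symm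
    have h4 := hmem v
    rwa [h2, inv_one, one_mul] at h4
  exact this hz

theorem Scl_decomp {k : ℕ} (h : k < L.n)
    (hinj : ∀ g ∈ L.Scl X (k + 1), σ g = 1 → g = 1) {g : Γ} (hg : g ∈ L.Scl X k) :
    ∃ t, ∃ z ∈ L.Scl X (k + 1), g = L.s X h t * z := by
  have h0 : L.s X h 0 = 1 := by
    have := L.s_add X h (L.self_pair X hp h) 0 0
    rwa [add_zero, left_eq_mul] at this
  let M : Subgroup Γ :=
    { carrier := {g | ∃ t, ∃ z ∈ L.Scl X (k + 1), g = L.s X h t * z}
      one_mem' := ⟨0, 1, one_mem _, by rw [h0, one_mul]⟩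
      mul_mem' := by
        rintro _ _ ⟨t, z, hz, rfl⟩ ⟨t', z', hz', rfl⟩
        have hz2 := L.norm_Scl X hp h hinj (-t') hz
        refine ⟨t + t', _, mul_mem hz2 hz', ?_⟩
        have e : L.s X h (-t') = (L.s X h t')⁻¹ := eq_inv_of_mul_eq_one_left (by
          rw [← L.s_add X h (L.self_pair X hp h), neg_add_cancel, h0])
        rw [L.s_add X h (L.self_pair X hp h), e]
        group
      inv_mem' := by
        rintro _ ⟨t, z, hz, rfl⟩
        refine ⟨-t, _, L.norm_Scl X hp h hinj t (inv_mem hz), ?_⟩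
        have e : L.s X h (-t) = (L.s X h t)⁻¹ := eq_inv_of_mul_eq_one_left (by
          rw [← L.s_add X h (L.self_pair X hp h), neg_add_cancel, h0])
        rw [e]
        group }
  have : L.Scl X k ≤ M := by
    refine (closure_le _).2 ?_
    rintro _ ⟨i, hi, hki, v, rfl⟩
    rcases eq_or_lt_of_le hki with rfl | hlt
    · exact ⟨v, 1, one_mem _, (mul_one _).symm⟩
    · exact ⟨0, _, L.s_mem X hi hlt v, by rw [h0, one_mul]⟩
  exact this hg

theorem Scl_inj : ∀ d k, k + d = L.n → ∀ g ∈ L.Scl X k, σ g = 1 → g = 1 := by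
  intro d
  induction d with
  | zero =>
    intro k hk g hg _
    have : L.Scl X k ≤ ⊥ := by
      refine (closure_le _).2 ?_
      rintro _ ⟨i, hi, hki, -⟩
      omega
    exact mem_bot.1 (this hg)
  | succ d ih =>
    intro k hk g hg h1
    have h : k < L.n := by omega
    have hinj := ih (k + 1) (by omega)
    obtain ⟨t, z, hz, rfl⟩ := L.Scl_decomp X hp h hinj hg
    rw [map_mul, L.map_s] at h1
    have ht : t = 0 := L.inj k h t (by
      rw [eq_inv_of_mul_eq_one_left h1]
      exact inv_mem (L.map_Scl X h hz))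
    subst ht
    rw [L.x_zero h, one_mul] at h1
    have h0 : L.s X h 0 = 1 := by
      have := L.s_add X h (L.self_pair X hp h) 0 0
      rwa [add_zero, left_eq_mul] at this
    rw [h0, one_mul]
    exact hinj z hz h1

/-- The derived group of the preimage meets the kernel trivially. -/
theorem derived_inf_ker :
    ∀ z ∈ ⁅(L.Q 0).comap σ, (L.Q 0).comap σ⁆, z ∈ σ.ker → z = 1 := by
  have hle : ⁅(L.Q 0).comap σ, (L.Q 0).comap σ⁆ ≤ L.Scl X 0 := by
    rw [Subgroup.commutator_le]
    intro a ha b hb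
    obtain ⟨s, hs, es⟩ := L.exists_Scl X L.n 0 (zero_add _) _ ha
    obtain ⟨t, ht, et⟩ := L.exists_Scl X L.n 0 (zero_add _) _ hb
    rw [commutator_congr X.central es.symm et.symm, commutatorElement_def]
    exact mul_mem (mul_mem (mul_mem hs ht) (inv_mem hs)) (inv_mem ht)
  exact fun z hz hk => L.Scl_inj X hp L.n 0 (zero_add _) z (hle hz) (MonoidHom.mem_ker.1 hk)

end Fams

end CfsgLib.TwMult
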