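import Cfsg.Agent.FGSB.StemExt
import Cfsg.Agent.SL2Mult.Criterion
import Mathlib.GroupTheory.PGroup
import Mathlib.GroupTheory.Sylow
import Mathlib.GroupTheory.Nilpotent

/-!
Lifting elements of prime power order through a central extension with kernel prime to `p`.
-/

set_option autoImplicit false

namespace CfsgLib.TwMult

open Subgroup
open scoped commutatorElement

universe u v

variable {Γ : Type u} {G : Type v} [Group Γ] [Finite Γ] [Group G] {σ : Γ →* G} {p : ℕ}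

/-- The elements of `p`-power order. -/
def IsPEl (p : ℕ) {H : Type*} [Group H] (g : H) : Prop := ∃ k : ℕ, g ^ p ^ k = 1

theorem IsPEl.conj {H : Type*} [Group H] {g : H} (h : IsPEl p g) (x : H) :
    IsPEl p (x * g * x⁻¹) := by
  obtain ⟨k, hk⟩ := h
  exact ⟨k, by rw [conj_pow, hk, mul_one, mul_inv_cancel]⟩

theorem IsPEl.map {H K : Type*} [Group H] [Group K] {g : H} (h : IsPEl p g) (f : H →* K) :
    IsPEl p (f g) := by
  obtain ⟨k, hk⟩ := h
  exact ⟨k, by rw [← map_pow, hk, map_one]⟩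

theorem IsPEl.of_mem {H : Type*} [Group H] {U : Subgroup H} (hU : IsPGroup p U) {g : H}
    (hg : g ∈ U) : IsPEl p g := by
  obtain ⟨k, hk⟩ := hU ⟨g, hg⟩
  exact ⟨k, congrArg Subtype.val hk⟩

variable (σ p) in
/-- A central extension whose kernel has no element of order `p`. -/
structure CopExt : Prop where
  surj : Function.Surjective σ
  central : σ.ker ≤ center Γ
  cop : ∀ z ∈ σ.ker, z ^ p = 1 → z = 1

namespace CopExt

variable (E : CopExt σ p)
include E

omit [Finite Γ] in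
theorem comm {z : Γ} (hz : z ∈ σ.ker) (x : Γ) : x * z = z * x :=
  mem_center_iff.1 (E.central hz) x

omit [Finite Γ] in
theorem eq_one_of_pEl {z : Γ} (hz : z ∈ σ.ker) (h : IsPEl p z) : z = 1 := by
  obtain ⟨k, hk⟩ := h
  induction k generalizing z with
  | zero => simpa using hk
  | succ k ih =>
    refine E.cop z hz (ih (pow_mem hz p) ?_)
    rwa [← pow_mul, ← pow_succ']

omit [Finite Γ] in
theorem pEl_unique {x y : Γ} (hx : IsPEl p x) (hy : IsPEl p y) (h : σ x = σ y) : x = y := by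
  have hz : x⁻¹ * y ∈ σ.ker := by rw [MonoidHom.mem_ker, map_mul, map_inv, h, inv_mul_cancel]
  have hc : Commute x (x⁻¹ * y) := E.comm hz x
  obtain ⟨a, ha⟩ := hx
  obtain ⟨b, hb⟩ := hy
  refine inv_mul_eq_one.1 (E.eq_one_of_pEl hz ⟨a + b, ?_⟩)
  have h1 : (x * (x⁻¹ * y)) ^ p ^ (a + b) = x ^ p ^ (a + b) * (x⁻¹ * y) ^ p ^ (a + b) :=
    hc.mul_pow _
  rw [mul_inv_cancel_left, pow_add, pow_mul x, ha, one_pow, one_mul, mul_comm (p ^ a),
    pow_mul y, hb, one_pow] at h1
  rw [pow_add, mul_comm (p ^ a)]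
  exact h1.symm

variable [hp : Fact p.Prime]

theorem exists_lift {g : G} (hg : IsPEl p g) : ∃ x, IsPEl p x ∧ σ x = g := by
  obtain ⟨γ, rfl⟩ := E.surj g
  obtain ⟨k, hk⟩ := hg
  obtain ⟨a, b, hb, hab⟩ :=
    Nat.exists_eq_pow_mul_and_not_dvd (orderOf_pos γ).ne' p hp.out.ne_one
  have hcop : b.Coprime (p ^ k) :=
    Nat.Coprime.pow_right k ((hp.out.coprime_iff_not_dvd.2 hb).symm)
  obtain ⟨b', hb'⟩ := exists_pow_eq_self_of_coprime (x := σ γ) (n := b)
    (hcop.coprime_dvd_right (orderOf_dvd_of_pow_eq_one hk))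
  refine ⟨(γ ^ b) ^ b', ⟨a, ?_⟩, by rw [map_pow, map_pow, hb']⟩
  rw [← pow_mul, ← pow_mul, show b * (b' * p ^ a) = p ^ a * b * b' by ring, ← hab, pow_mul,
    pow_orderOf_eq_one, one_pow]

open scoped Classical in
/-- The lift of an element of `p`-power order. -/
noncomputable def lift (E : CopExt σ p) (g : G) : Γ :=
  if h : IsPEl p g then (E.exists_lift h).choose else 1

theorem pEl_lift (g : G) : IsPEl p (E.lift g) := by
  unfold lift
  split
  · next h => exact (E.exists_lift h).choose_spec.1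
  · exact ⟨0, one_pow _⟩

theorem map_lift {g : G} (hg : IsPEl p g) : σ (E.lift g) = g := by
  rw [lift, dif_pos hg]
  exact (E.exists_lift hg).choose_spec.2

theorem lift_map {x : Γ} (hx : IsPEl p x) : E.lift (σ x) = x :=
  E.pEl_unique (E.pEl_lift _) hx (E.map_lift (hx.map σ))

theorem lift_one : E.lift 1 = 1 := by
  simpa using E.lift_map (x := 1) ⟨0, one_pow _⟩

/-- The lift commutes with conjugation. -/
theorem conj_lift {g : G} (hg : IsPEl p g) (γ : Γ) :
    γ * E.lift g * γ⁻¹ = E.lift (σ γ * g * (σ γ)⁻¹) :=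
  E.pEl_unique ((E.pEl_lift g).conj γ) (E.pEl_lift _) (by
    rw [E.map_lift (hg.conj (σ γ)), map_mul, map_mul, map_inv, E.map_lift hg])

/-- The lift is multiplicative on a `p`-subgroup. -/
theorem lift_mul {U : Subgroup G} (hU : IsPGroup p U) {u v : G} (hu : u ∈ U) (hv : v ∈ U) :
    E.lift (u * v) = E.lift u * E.lift v := by
  set K := U.comap σ with hK
  obtain ⟨P⟩ : Nonempty (Sylow p K) := inferInstance
  let f : K →* U := (σ.comp K.subtype).codRestrict U fun x => x.2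
  have hnil : Group.IsNilpotent K := by
    have : Finite G := Finite.of_surjective σ E.surj
    have : Group.IsNilpotent U := hU.isNilpotent
    refine Subgroup.isNilpotent_of_ker_le_center f fun x hx => mem_center_iff.2 fun y => Subtype.ext ?_
    exact E.comm (MonoidHom.mem_ker.2 (congrArg Subtype.val (MonoidHom.mem_ker.1 hx))) y.1
  have hn : (P : Subgroup K).Normal := inferInstance
  have : Unique (Sylow p K) := Sylow.unique_of_normal P hn
  have key : ∀ g ∈ U, ∀ hm : E.lift g ∈ K, (⟨E.lift g, hm⟩ : K) ∈ (P : Subgroup K) := by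
    intro g hg hm
    obtain ⟨j, hj⟩ := E.pEl_lift g
    have hpg : IsPGroup p (zpowers (⟨E.lift g, hm⟩ : K)) := by
      obtain ⟨i, -, hi⟩ := (Nat.dvd_prime_pow hp.out).1
        (orderOf_dvd_of_pow_eq_one (x := (⟨E.lift g, hm⟩ : K)) (n := p ^ j) (Subtype.ext hj))
      exact IsPGroup.of_card (n := i) (by rw [Nat.card_zpowers, hi])
    obtain ⟨Q, hQ⟩ := hpg.exists_le_sylow
    rw [Subsingleton.elim Q P] at hQ
    exact hQ (mem_zpowers _)
  have hm : ∀ g ∈ U, E.lift g ∈ K := fun g hg => by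
    show σ _ ∈ U
    rw [E.map_lift (IsPEl.of_mem hU hg)]
    exact hg
  obtain ⟨k, hk⟩ := P.2 ⟨⟨_, hm u hu⟩ * ⟨_, hm v hv⟩,
    mul_mem (key u hu (hm u hu)) (key v hv (hm v hv))⟩
  refine E.pEl_unique (E.pEl_lift _) ⟨k, congrArg (fun x : (P : Subgroup K) => x.1.1) hk⟩ ?_
  rw [E.map_lift (IsPEl.of_mem hU (mul_mem hu hv)), map_mul, E.map_lift (IsPEl.of_mem hU hu),
    E.map_lift (IsPEl.of_mem hU hv)]

theorem lift_inv {U : Subgroup G} (hU : IsPGroup p U) {u : G} (hu : u ∈ U) :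
    E.lift u⁻¹ = (E.lift u)⁻¹ :=
  eq_inv_of_mul_eq_one_left (by
    rw [← E.lift_mul hU (inv_mem hu) hu, inv_mul_cancel, E.lift_one])

end CopExt

omit [Finite Γ] in
/-- Commutators in a central extension depend only on the images. -/
theorem commutator_congr (hc : σ.ker ≤ center Γ) {x x' y y' : Γ} (hx : σ x = σ x')
    (hy : σ y = σ y') : ⁅x, y⁆ = ⁅x', y'⁆ := by
  have h1 : ∀ z : Γ, z ∈ σ.ker → ∀ g, z * g * z⁻¹ = g := fun z hz g => by
    rw [← mem_center_iff.1 (hc hz) g, mul_inv_cancel_right]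
  obtain ⟨z, hz, rfl⟩ : ∃ z ∈ σ.ker, x = x' * z :=
    ⟨x'⁻¹ * x, by rw [MonoidHom.mem_ker, map_mul, map_inv, hx, inv_mul_cancel], by group⟩
  obtain ⟨w, hw, rfl⟩ : ∃ w ∈ σ.ker, y = y' * w :=
    ⟨y'⁻¹ * y, by rw [MonoidHom.mem_ker, map_mul, map_inv, hy, inv_mul_cancel], by group⟩
  rw [commutatorElement_def, commutatorElement_def,
    show x' * z * (y' * w) * (x' * z)⁻¹ * (y' * w)⁻¹ =
      x' * (z * (y' * w) * z⁻¹) * x'⁻¹ * (y' * w)⁻¹ by group, h1 z hz,
    show x' * (y' * w) * x'⁻¹ * (y' * w)⁻¹ = x' * y' * (w * x'⁻¹ * w⁻¹) * y'⁻¹ by group, h1 w hw]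

/-- The `p`-part of a stem kernel is killed when the preimage of a subgroup of index prime to `p`
meets it trivially in its derived group. -/
theorem cop_of_derived (hσ : Cfsg.IsStemExtension σ) [hp : Fact p.Prime] (U : Subgroup G)
    (hU : ¬ p ∣ U.index)
    (hD : ∀ z ∈ ⁅U.comap σ, U.comap σ⁆, z ∈ σ.ker → z = 1) : CopExt σ p := by
  refine ⟨hσ.1, hσ.2.1, fun z hz hzp => ?_⟩
  have hidx : ¬ p ∣ (U.comap σ).index := by rwa [index_comap_of_surjective U hσ.1]
  have hzpg : IsPGroup p (zpowers z) := by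
    obtain ⟨i, -, hi⟩ := (Nat.dvd_prime_pow hp.out).1
      (orderOf_dvd_of_pow_eq_one (x := z) (n := p ^ 1) (by rwa [pow_one]))
    exact IsPGroup.of_card (n := i) (by rw [Nat.card_zpowers, hi])
  obtain ⟨P₀⟩ : Nonempty (Sylow p (U.comap σ)) := inferInstance
  -- a Sylow subgroup of the preimage is a Sylow subgroup
  have hidx' : ¬ p ∣ ((P₀ : Subgroup (U.comap σ)).map (U.comap σ).subtype).index := by
    rw [index_map_subtype]
    exact hp.out.not_dvd_mul P₀.not_dvd_index hidx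
  let P : Sylow p Γ := (P₀.2.map (U.comap σ).subtype).toSylow hidx'
  have hPeq : (P : Subgroup Γ) = (P₀ : Subgroup (U.comap σ)).map (U.comap σ).subtype :=
    IsPGroup.toSylow_coe _ _
  obtain ⟨Q, hQ⟩ := hzpg.exists_le_sylow
  obtain ⟨g, hg⟩ := MulAction.exists_smul_eq Γ Q P
  have hzP : z ∈ (P : Subgroup Γ) := by
    have h1 : g * z * g⁻¹ ∈ ((g • Q : Sylow p Γ) : Subgroup Γ) := by
      rw [Sylow.coe_subgroup_smul]
      exact mem_map_of_mem _ (hQ (mem_zpowers z))
    rwa [hg, mem_center_iff.1 (hσ.2.1 hz) g, mul_inv_cancel_right] at h1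
  have h2 := (CfsgLib.SL2Mult.isStemExtension_sylow hσ P).2.2
    (show (⟨z, hzP⟩ : (P : Subgroup Γ)) ∈ (σ.subgroupMap (P : Subgroup Γ)).ker from Subtype.ext hz)
  refine hD z ?_ hz
  have h3 : z ∈ ⁅(P : Subgroup Γ), (P : Subgroup Γ)⁆ := by
    rw [← map_subtype_commutator]
    exact ⟨_, h2, rfl⟩
  refine commutator_mono ?_ ?_ h3 <;> rw [hPeq] <;> exact map_subtype_le _

end CfsgLib.TwMult
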